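import Cfsg.Agent.H533.T5.Defs

/-!
# The rows are invariant under isomorphism
-/

set_option autoImplicit false

namespace Cfsg.Agent.H164.RowCongr

open Cfsg.Agent.H533.T5

universe u v

variable {S : Type u} {T : Type v} [Group S] [Group T]

/-- conjugation of automorphisms by an isomorphism -/
theorem range_le (e : S ≃* T) : (MulAut.conj : T →* MulAut T).range ≤
    ((MulAut.conj : S →* MulAut S).range).map (MulAut.congr e).toMonoidHom := by
  rintro _ ⟨t, rfl⟩
  refine ⟨MulAut.conj (e.symm t), ⟨_, rfl⟩, ?_⟩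
  ext x
  simp [MulAut.congr]

theorem wrow_congr {p : ℕ} (e : S ≃* T) (h : WRow p S) : WRow p T := by
  intro c d hc hd
  exact WPair.of_hom (MulAut.congr e.symm).toMonoidHom (range_le e.symm)
    (h ((MulAut.congr e.symm) c) ((MulAut.congr e.symm) d)
    (by rw [← hc]; exact MulEquiv.orderOf_eq (MulAut.congr e.symm) c)
    (by rw [← hd]; exact MulEquiv.orderOf_eq (MulAut.congr e.symm) d))

theorem srow_congr {p : ℕ} (hp : p.Prime) (e : S ≃* T) (h : SRow p S) : SRow p T := by
  intro c d hc hd
  exact SPair.of_hom hp (MulAut.congr e.symm).toMonoidHom (range_le e.symm)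
    (h ((MulAut.congr e.symm) c) ((MulAut.congr e.symm) d)
    (by rw [← hc]; exact MulEquiv.orderOf_eq (MulAut.congr e.symm) c)
    (by rw [← hd]; exact MulEquiv.orderOf_eq (MulAut.congr e.symm) d))

end Cfsg.Agent.H164.RowCongr
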