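import Cfsg.Agent.SporRec.LyG2.G14
import Cfsg.Agent.SporRec.LyG2.LyEmb
import Cfsg.Agent.Ly.IndexEq
import Cfsg.Agent.TypeM.OutLyFin
import Cfsg.Agent.H533.T5.SporDefs
import Cfsg.Agent.H68.MeetBase
import Cfsg.Agent.H164.RowCongr

/-!
# The Lyons group: the weak pair row at 5, from that of `G₂(5)`
-/

set_option autoImplicit false
set_option maxRecDepth 100000

namespace Cfsg.Agent.H164.LyFiveRow

open Cfsg Subgroup Cfsg.Agent.H533.T5 Cfsg.Agent.SporRec.LyG2

theorem index_H : LyEmb.H.index = 8835156 := Cfsg.Agent.Ly.IndexEq.index_abcd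

/-- `H` is `G₂(5)`. -/
noncomputable def equivG : LyEmb.H ≃* Lie.chevG2.group (ZMod 5) := LyEmb.equivH.symm.trans G14.equivChev

/-- The weak pair row of `Ly` at 5 follows from that of `G₂(5)`. -/
theorem wrow_Ly' (h5 : WRow 5 (Lie.chevG2.group (ZMod 5))) : WRow 5 Spor.Ly := by
  have : Fact (Nat.Prime 5) := ⟨by norm_num⟩
  have := Cfsg.Agent.Ly.Setup.finite_ly
  have hs : IsSimpleGroup Spor.Ly := Cfsg.Agent.Ly.Setup.isSimple_ly
  have hna : ¬ IsMulCommutative Spor.Ly := by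
    refine Cfsg.Agent.H68.MeetB.not_comm_of_card ?_
    rw [Cfsg.Agent.Ly.Setup.card_ly]
    norm_num
  have hsH := LyEmb.isSimpleGroup_H
  have hfH : Finite LyEmb.H := inferInstance
  have hnaH : ¬ IsMulCommutative LyEmb.H := by
    refine Cfsg.Agent.H68.MeetB.not_comm_of_card ?_
    rw [LyEmb.card_H]
    norm_num
  refine WRow.of_inner hna (fun a _ => Cfsg.Agent.TypeM.OutLyFin.inner_ly a) (fun x y hx hy => ?_)
  have hH : WRow 5 LyEmb.H := Cfsg.Agent.H164.RowCongr.wrow_congr equivG.symm h5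
  refine hH.pairs_of_sylow hnaH (MulEquiv.refl _) ?_ hx hy
  rw [index_H]
  norm_num

/-- The field `ly` of `SporBig`, from `G₂(5)`. -/
theorem wrow_Ly (h5 : WRow 5 (Lie.chevG2.group (ZMod 5))) {K : Type*} [Group K] (h : Spor.IsoLy K) : WRow 5 K := by
  obtain ⟨e⟩ := h
  exact Cfsg.Agent.H164.RowCongr.wrow_congr e.symm (wrow_Ly' h5)

end Cfsg.Agent.H164.LyFiveRow
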