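import Mathlib

/-!
# An extra-special group of order 125 with an automorphism of order 3: orbits on the elements
-/

set_option autoImplicit false
set_option maxRecDepth 100000

namespace Cfsg.Agent.H164.ThFiveG

/-- multiplication of exponents -/
def mulT (a b : ℕ × ℕ × ℕ) : ℕ × ℕ × ℕ :=
  ((a.1 + b.1) % 5, (a.2.1 + b.2.1) % 5, (a.2.2 + b.2.2 + a.2.1 * b.1) % 5)

/-- powers of exponents -/
def powT (a : ℕ × ℕ × ℕ) : ℕ → ℕ × ℕ × ℕ
  | 0 => (0, 0, 0)
  | m + 1 => mulT (powT a m) a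

/-- conjugation by `n` -/
def cn (t : ℕ × ℕ × ℕ) : ℕ × ℕ × ℕ := mulT (mulT (powT (1, 3, 4) t.1) (powT (4, 3, 1) t.2.1)) (0, 0, t.2.2)

/-- all the exponents -/
def all : List (ℕ × ℕ × ℕ) :=
  (List.range 5).flatMap fun i => (List.range 5).flatMap fun j => (List.range 5).map fun k => (i, j, k)

/-- the representatives -/
def base : List (ℕ × ℕ × ℕ) := [(0, 0, 1), (1, 0, 0), (1, 1, 3)]

theorem chk : (all.all fun v => v == (0, 0, 0) || (List.range 3).any fun r => (List.range 5).any fun s =>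
    (List.range 5).any fun t => base.any fun b => (List.range 5).any fun m =>
      mulT (s, t, 0) ((cn^[r]) v) == mulT (powT b m) (s, t, 0)) = true := by decide +kernel

theorem chkinv : (all.all fun v => mulT v (powT v 4) == (0, 0, 0)) = true := by decide +kernel

theorem mem_all {i j k : ℕ} (hi : i < 5) (hj : j < 5) (hk : k < 5) : (i, j, k) ∈ all := by
  unfold all
  simp only [List.mem_flatMap, List.mem_map, List.mem_range]
  exact ⟨i, hi, j, hj, k, hk, rfl⟩

theorem mulT_mem_all (a b : ℕ × ℕ × ℕ) : mulT a b ∈ all :=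
  mem_all (Nat.mod_lt _ (by norm_num)) (Nat.mod_lt _ (by norm_num)) (Nat.mod_lt _ (by norm_num))

variable {G : Type*} [Group G] {x y z n : G}

theorem pow_mod5 {g : G} (h : g ^ 5 = 1) (m : ℕ) : g ^ (m % 5) = g ^ m := by
  conv_rhs => rw [← Nat.mod_add_div m 5, pow_add, pow_mul, h, one_pow, mul_one]

/-- the normal form -/
def nf (x y z : G) (t : ℕ × ℕ × ℕ) : G := y ^ t.1 * x ^ t.2.1 * z ^ t.2.2

variable (hx : x ^ 5 = 1) (hy : y ^ 5 = 1) (hz : z ^ 5 = 1) (xz : x * z = z * x) (yz : y * z = z * y)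
  (xy : x * y = y * x * z)

include xz yz xy

theorem comm1 (i : ℕ) : x ^ i * y = y * x ^ i * z ^ i := by
  have hxz : Commute x z := xz
  induction i with
  | zero => simp
  | succ i ih =>
    calc x ^ (i + 1) * y = x * (x ^ i * y) := by rw [pow_succ', mul_assoc]
      _ = (x * y) * (x ^ i * z ^ i) := by rw [ih]; simp only [mul_assoc]
      _ = y * x * (z * x ^ i) * z ^ i := by rw [xy]; simp only [mul_assoc]
      _ = y * x * (x ^ i * z) * z ^ i := by rw [(hxz.pow_left i).eq]
      _ = y * (x * x ^ i) * (z * z ^ i) := by simp only [mul_assoc]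
      _ = y * x ^ (i + 1) * z ^ (i + 1) := by rw [← pow_succ', ← pow_succ']

theorem comm2 (i j : ℕ) : x ^ i * y ^ j = y ^ j * x ^ i * z ^ (i * j) := by
  have hyz : Commute y z := yz
  induction j with
  | zero => simp
  | succ j ih =>
    calc x ^ i * y ^ (j + 1) = x ^ i * y ^ j * y := by rw [pow_succ, mul_assoc]
      _ = y ^ j * x ^ i * (z ^ (i * j) * y) := by rw [ih]; simp only [mul_assoc]
      _ = y ^ j * (x ^ i * y) * z ^ (i * j) := by rw [(hyz.pow_right (i * j)).eq.symm]; simp only [mul_assoc]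
      _ = y ^ j * (y * x ^ i * z ^ i) * z ^ (i * j) := by rw [comm1 xz yz xy i]
      _ = (y ^ j * y) * x ^ i * (z ^ i * z ^ (i * j)) := by simp only [mul_assoc]
      _ = y ^ (j + 1) * x ^ i * z ^ (i * (j + 1)) := by
        rw [← pow_succ, ← pow_add]; congr 2; ring

include hx hy hz

theorem nf_mul (s t : ℕ × ℕ × ℕ) : nf x y z s * nf x y z t = nf x y z (mulT s t) := by
  obtain ⟨j, i, k⟩ := s
  obtain ⟨j', i', k'⟩ := t
  have hxz : Commute x z := xz
  have hyz : Commute y z := yz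
  simp only [nf, mulT]
  rw [pow_mod5 hy, pow_mod5 hx, pow_mod5 hz]
  calc y ^ j * x ^ i * z ^ k * (y ^ j' * x ^ i' * z ^ k') =
      y ^ j * x ^ i * (z ^ k * y ^ j') * x ^ i' * z ^ k' := by simp only [mul_assoc]
    _ = y ^ j * (x ^ i * y ^ j') * (z ^ k * x ^ i') * z ^ k' := by
      rw [((hyz.pow_pow j' k)).eq.symm]; simp only [mul_assoc]
    _ = y ^ j * (y ^ j' * x ^ i * z ^ (i * j')) * (x ^ i' * z ^ k) * z ^ k' := by
      rw [comm2 xz yz xy i j', ((hxz.pow_pow i' k)).eq]
    _ = y ^ j * y ^ j' * x ^ i * (z ^ (i * j') * x ^ i') * z ^ k * z ^ k' := by simp only [mul_assoc]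
    _ = y ^ j * y ^ j' * x ^ i * (x ^ i' * z ^ (i * j')) * z ^ k * z ^ k' := by
      rw [((hxz.pow_pow i' (i * j'))).eq]
    _ = (y ^ j * y ^ j') * (x ^ i * x ^ i') * (z ^ (i * j') * z ^ k * z ^ k') := by simp only [mul_assoc]
    _ = y ^ (j + j') * x ^ (i + i') * z ^ (k + k' + i * j') := by
      rw [← pow_add, ← pow_add, ← pow_add, ← pow_add]
      congr 2
      ring

theorem nf_pow (s : ℕ × ℕ × ℕ) (m : ℕ) : nf x y z s ^ m = nf x y z (powT s m) := by
  induction m with
  | zero => simp [nf, powT]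
  | succ m ih => rw [pow_succ, ih, nf_mul hx hy hz xz yz xy, powT]

theorem nf_cn (nz : n * z = z * n) (ny : n * y = x * (x * x) * y * z * n)
    (nx : n * x = x * (x * x) * (y * y * (y * y)) * (z * z * (z * z)) * n) (t : ℕ × ℕ × ℕ) :
    n * nf x y z t * n⁻¹ = nf x y z (cn t) := by
  have hmul := nf_mul hx hy hz xz yz xy
  have ex : x = nf x y z (0, 1, 0) := by simp [nf]
  have ey : y = nf x y z (1, 0, 0) := by simp [nf]
  have ez : z = nf x y z (0, 0, 1) := by simp [nf]
  have e1 : n * y * n⁻¹ = nf x y z (1, 3, 4) := by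
    rw [ny, mul_inv_cancel_right]
    have key : ∀ X Y Z : G, X = nf x y z (0, 1, 0) → Y = nf x y z (1, 0, 0) → Z = nf x y z (0, 0, 1) →
        X * (X * X) * Y * Z = nf x y z (1, 3, 4) := by
      rintro _ _ _ rfl rfl rfl
      simp only [hmul]
      rfl
    exact key x y z ex ey ez
  have e2 : n * x * n⁻¹ = nf x y z (4, 3, 1) := by
    rw [nx, mul_inv_cancel_right]
    have key : ∀ X Y Z : G, X = nf x y z (0, 1, 0) → Y = nf x y z (1, 0, 0) → Z = nf x y z (0, 0, 1) →
        X * (X * X) * (Y * Y * (Y * Y)) * (Z * Z * (Z * Z)) = nf x y z (4, 3, 1) := by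
      rintro _ _ _ rfl rfl rfl
      simp only [hmul]
      rfl
    exact key x y z ex ey ez
  have e3 : n * z * n⁻¹ = z := by rw [nz, mul_inv_cancel_right]
  obtain ⟨j, i, k⟩ := t
  have h1 : n * (y ^ j * x ^ i * z ^ k) * n⁻¹ = (n * y * n⁻¹) ^ j * (n * x * n⁻¹) ^ i * (n * z * n⁻¹) ^ k := by
    rw [conj_pow, conj_pow, conj_pow]
    group
  have h2 : z ^ k = nf x y z (0, 0, k) := by simp [nf]
  show n * (y ^ j * x ^ i * z ^ k) * n⁻¹ = _
  rw [h1, e1, e2, e3, nf_pow hx hy hz xz yz xy, nf_pow hx hy hz xz yz xy, h2, hmul, hmul]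
  rfl

theorem nf_cn_iter (nz : n * z = z * n) (ny : n * y = x * (x * x) * y * z * n)
    (nx : n * x = x * (x * x) * (y * y * (y * y)) * (z * z * (z * z)) * n) (r : ℕ) (t : ℕ × ℕ × ℕ) :
    n ^ r * nf x y z t * (n ^ r)⁻¹ = nf x y z ((cn^[r]) t) := by
  induction r generalizing t with
  | zero => simp
  | succ r ih =>
    rw [Function.iterate_succ, Function.comp_apply, ← ih, ← nf_cn hx hy hz xz yz xy nz ny nx]
    rw [pow_succ]
    group

/-- every element of the group generated by `x, y, z` is in normal form -/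
theorem exists_nf {g : G} (hg : g ∈ Subgroup.closure ({x, y, z} : Set G)) : ∃ t ∈ all, g = nf x y z t := by
  have hmul := nf_mul hx hy hz xz yz xy
  induction hg using Subgroup.closure_induction with
  | mem g hg =>
    rcases hg with rfl | rfl | rfl
    · exact ⟨(0, 1, 0), mem_all (by norm_num) (by norm_num) (by norm_num), by simp [nf]⟩
    · exact ⟨(1, 0, 0), mem_all (by norm_num) (by norm_num) (by norm_num), by simp [nf]⟩
    · exact ⟨(0, 0, 1), mem_all (by norm_num) (by norm_num) (by norm_num), by simp [nf]⟩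
  | one => exact ⟨(0, 0, 0), mem_all (by norm_num) (by norm_num) (by norm_num), by simp [nf]⟩
  | mul a b _ _ ha hb =>
    obtain ⟨s, -, rfl⟩ := ha
    obtain ⟨t, -, rfl⟩ := hb
    exact ⟨mulT s t, mulT_mem_all s t, hmul s t⟩
  | inv a _ ha =>
    obtain ⟨s, hs, rfl⟩ := ha
    refine ⟨powT s 4, ?_, ?_⟩
    · exact mulT_mem_all (powT s 3) s
    · rw [inv_eq_iff_mul_eq_one, hmul]
      have := List.all_eq_true.1 chkinv s hs
      rw [beq_iff_eq] at this
      rw [this]
      simp [nf]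

/-- Every non-trivial element is conjugate to a power of `z`, `y` or `x * y * (z * z)`. -/
theorem exists_conj (nz : n * z = z * n) (ny : n * y = x * (x * x) * y * z * n)
    (nx : n * x = x * (x * x) * (y * y * (y * y)) * (z * z * (z * z)) * n) {g : G}
    (hg : g ∈ Subgroup.closure ({x, y, z} : Set G)) (h1 : g ≠ 1) :
    ∃ h b : G, ∃ m : ℕ, (b = z ∨ b = y ∨ b = x * y * (z * z)) ∧ h * g * h⁻¹ = b ^ m := by
  have hmul := nf_mul hx hy hz xz yz xy
  obtain ⟨v, hv, rfl⟩ := exists_nf hx hy hz xz yz xy hg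
  have h2 := List.all_eq_true.1 chk v hv
  rw [Bool.or_eq_true, beq_iff_eq] at h2
  rcases h2 with h2 | h2
  · exact absurd (by rw [h2]; simp [nf]) h1
  · obtain ⟨r, -, h2⟩ := List.any_eq_true.1 h2
    obtain ⟨s, -, h2⟩ := List.any_eq_true.1 h2
    obtain ⟨t, -, h2⟩ := List.any_eq_true.1 h2
    obtain ⟨b, hb, h2⟩ := List.any_eq_true.1 h2
    obtain ⟨m, -, h2⟩ := List.any_eq_true.1 h2
    rw [beq_iff_eq] at h2
    refine ⟨nf x y z (s, t, 0) * n ^ r, nf x y z b, m, ?_, ?_⟩
    · have ex : x = nf x y z (0, 1, 0) := by simp [nf]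
      have ey : y = nf x y z (1, 0, 0) := by simp [nf]
      have ez : z = nf x y z (0, 0, 1) := by simp [nf]
      simp only [base, List.mem_cons, List.not_mem_nil, or_false] at hb
      rcases hb with rfl | rfl | rfl
      · exact Or.inl ez.symm
      · exact Or.inr (Or.inl ey.symm)
      · refine Or.inr (Or.inr ?_)
        symm
        have key : ∀ X Y Z : G, X = nf x y z (0, 1, 0) → Y = nf x y z (1, 0, 0) → Z = nf x y z (0, 0, 1) →
            X * Y * (Z * Z) = nf x y z (1, 1, 3) := by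
          rintro _ _ _ rfl rfl rfl
          simp only [hmul]
          rfl
        exact key x y z ex ey ez
    · have h3 : nf x y z (s, t, 0) * (n ^ r * nf x y z v * (n ^ r)⁻¹) = nf x y z b ^ m * nf x y z (s, t, 0) := by
        rw [nf_cn_iter hx hy hz xz yz xy nz ny nx, hmul, h2, ← hmul, nf_pow hx hy hz xz yz xy]
      calc nf x y z (s, t, 0) * n ^ r * nf x y z v * (nf x y z (s, t, 0) * n ^ r)⁻¹ =
          nf x y z (s, t, 0) * (n ^ r * nf x y z v * (n ^ r)⁻¹) * (nf x y z (s, t, 0))⁻¹ := by group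
        _ = nf x y z b ^ m := by rw [h3, mul_inv_cancel_right]

end Cfsg.Agent.H164.ThFiveG
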