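import Cfsg.Agent.H164.ThFiveN
import Cfsg.Agent.H164.ThFiveG
import Cfsg.Agent.H68.MeetTh
import Cfsg.Agent.H533.T5.SporDefs
import Cfsg.Agent.H164.RowCongr

/-!
# The Thompson group: one class of elements of order 5; the weak pair row at 5
-/

set_option autoImplicit false
set_option maxRecDepth 100000

namespace Cfsg.Agent.H164.ThFiveRow

open Cfsg Subgroup Cfsg.Agent.H502.ThFiveP Cfsg.Agent.H164.ThFiveN Cfsg.Agent.H533.T5

/-- Every element of order 5 of `Th` commutes with an involution. -/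
theorem exists_invol {v : Spor.Th} (hv : orderOf v = 5) : ∃ s : Spor.Th, orderOf s = 2 ∧ s * v = v * s := by
  have : Fact (Nat.Prime 5) := ⟨by norm_num⟩
  have := Cfsg.Agent.KFacts.Th.Main.finite
  have hidx : ¬ 5 ∣ (P5 : Subgroup Spor.Th).index := by
    intro h5
    have h1 := P5.card_mul_index
    rw [Cfsg.Agent.H68.MeetTh.card_Th] at h1
    have h2 : 5 ^ 3 * 5 ∣ 90745943887872000 := by
      rw [← h1]
      exact mul_dvd_mul dvd_card h5
    revert h2
    norm_num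
  obtain ⟨g, hg⟩ := exists_conj_mem_of_index hidx hv
  have hg1 : g * v * g⁻¹ ≠ 1 := by
    intro h
    have h2 : orderOf (g * v * g⁻¹) = 5 := by
      rw [← hv]; exact MulEquiv.orderOf_eq (MulAut.conj g) v
    rw [h, orderOf_one] at h2
    exact absurd h2 (by norm_num)
  obtain ⟨h, b, m, hb, hm⟩ := Cfsg.Agent.H164.ThFiveG.exists_conj x5 y5 z5 xz yz xy nz ny nx hg hg1
  have h3 : (h * g) * v * (h * g)⁻¹ = b ^ m := by rw [← hm]; group
  have h4 : ∃ s : Spor.Th, orderOf s = 2 ∧ Commute s b := by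
    rcases hb with rfl | rfl | rfl
    · exact ⟨a, orderOf_eq_prime (by rw [pow_two, aa]) a1, az⟩
    · exact ⟨w, orderOf_eq_prime (by rw [pow_two, ww]) w1, wy⟩
    · refine ⟨a * w, orderOf_eq_prime ?_ ?_, x0aw.symm⟩
      · calc (a * w) ^ 2 = a * (w * a) * w := by rw [pow_two]; simp only [mul_assoc]
          _ = a * (a * w) * w := by rw [aw]
          _ = (a * a) * (w * w) := by simp only [mul_assoc]
          _ = 1 := by rw [aa, ww, one_mul]
      · intro h1
        apply wa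
        rw [eq_inv_of_mul_eq_one_left h1]
        exact (eq_inv_of_mul_eq_one_left ww).symm
  obtain ⟨s, hs, hsb⟩ := h4
  refine ⟨(h * g)⁻¹ * s * (h * g), ?_, ?_⟩
  · rw [← hs]
    have := MulEquiv.orderOf_eq (MulAut.conj (h * g)⁻¹) s
    rwa [MulAut.conj_apply, inv_inv] at this
  · have h5 : v = (h * g)⁻¹ * b ^ m * (h * g) := by rw [← h3]; group
    rw [h5]
    calc (h * g)⁻¹ * s * (h * g) * ((h * g)⁻¹ * b ^ m * (h * g)) = (h * g)⁻¹ * (s * b ^ m) * (h * g) := by group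
      _ = (h * g)⁻¹ * (b ^ m * s) * (h * g) := by rw [(hsb.pow_right m).eq]
      _ = _ := by group

open Cfsg.Agent.Th.Base Cfsg.Agent.Th.Word Cfsg.Agent.Th.RelWords Cfsg.Agent.Th.PermTab
  Cfsg.Agent.Th.KOracle Cfsg.Agent.Th.KPerm Cfsg.Agent.Th.NineAct Cfsg.Agent.Th.CStruct
open Cfsg.Agent.KFacts.Th.Mask Cfsg.Agent.KFacts.Th.Struct
open Cfsg.Agent.CpAutTh.Data Cfsg.Agent.CpAutTh.Alt Cfsg.Agent.CpAutTh.RankOne Cfsg.Agent.CpAutTh.Local

/-- `Th` has one class of elements of order 5. -/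
theorem isConj_five {v v' : Spor.Th} (hv : orderOf v = 5) (hv' : orderOf v' = 5) : IsConj v v' := by
  have h := Cfsg.Agent.KFacts.Th.Main.ctx
  have key : ∃ c : Spor.Th, ∀ v : Spor.Th, orderOf v = 5 → IsConj v c := by
    obtain ⟨f, F⟩ := Cfsg.Agent.CpAutTh.Local.exists_epi h
    refine ⟨ev Cfsg.Agent.Th.IndexUpper.gTh X5, fun v hv => ?_⟩
    obtain ⟨s, hs, hsv⟩ := exists_invol hv
    obtain ⟨g, -, h2⟩ := Cfsg.Agent.CpAutTh.Mid.exists_pair h Cfsg.Agent.CpAutTh.Main.hone hv hs hsv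
      (P := fun z => z = ev Cfsg.Agent.Th.IndexUpper.gTh X5) (fun y hy => by
      obtain ⟨c, hc⟩ := exists_rep_five h F hy
      exact ⟨c, congrArg Subtype.val hc⟩)
    exact isConj_iff.2 ⟨g, h2⟩
  obtain ⟨c, hc⟩ := key
  exact (hc v hv).trans (hc v' hv').symm

/-- The weak pair row of `Th` at 5. -/
theorem wrow_Th' : WRow 5 Spor.Th := by
  have : Fact (Nat.Prime 5) := ⟨by norm_num⟩
  have := Cfsg.Agent.KFacts.Th.Main.finite
  have hs := Cfsg.Agent.CpAutTh.Main.simple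
  have hna := Cfsg.Agent.CpAutTh.Main.noncomm
  refine WRow.of_inner hna (fun a _ => ?_) (fun x y hx hy => ?_)
  · obtain ⟨k, rfl⟩ := Cfsg.Agent.KFacts.Th.Main.inner a
    exact ⟨k, rfl⟩
  refine wpair_of_isConj hna (i := 1) (j := 1) ?_ ?_
  · rw [pow_one, pow_one]
    exact isConj_five hy hx
  · rw [pow_one]
    rintro rfl
    rw [orderOf_one] at hx
    exact absurd hx (by norm_num)

/-- The field `th` of `SporBig`. -/
theorem wrow_Th {K : Type*} [Group K] (h : Spor.IsoTh K) : WRow 5 K := by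
  obtain ⟨e⟩ := h
  exact Cfsg.Agent.H164.RowCongr.wrow_congr e.symm wrow_Th'

end Cfsg.Agent.H164.ThFiveRow
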