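import Cfsg.Agent.H106.MTools2
import Cfsg.Agent.H164.ThFiveRow
import Cfsg.Agent.H164.LyFiveRow

/-!
# The middle rows of `Th` and `Ly` at 5 (for S2275)
-/

set_option autoImplicit false
set_option maxRecDepth 100000

universe u

namespace Cfsg.Agent.H164.FiveMRow

open Cfsg Subgroup Cfsg.Agent.H533.T5 Cfsg.Agent.H957.T5M Cfsg.Agent.H106.MB Cfsg.Agent.H106.MT
  Cfsg.Agent.SporRec.LyG2

/-- **`Th`**: one class of elements of order 5. -/
theorem mrow_Th (hAA : AAHyp.{u} 5) {K : Type u} [Group K] [Finite K] [IsSimpleGroup K] (h : Spor.IsoTh K) :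
    MRow 5 K := by
  obtain ⟨e⟩ := h
  have hna : ¬ IsMulCommutative K := fun hK => Cfsg.Agent.CpAutTh.Main.noncomm
    ⟨⟨fun a b => e.symm.injective (by rw [map_mul, map_mul, hK.is_comm.comm])⟩⟩
  refine MRow.of_inner hna (fun a _ => ?_) (fun x y hx hy => ?_)
  · obtain ⟨k, hk⟩ := Cfsg.Agent.KFacts.Th.Main.inner (MulAut.congr e a)
    refine ⟨e.symm k, ?_⟩
    ext z
    have h1 := congrArg (fun f : MulAut Spor.Th => f (e z)) hk
    have h2 : (MulAut.congr e a) (e z) = e (a z) := by simp [MulAut.congr]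
    simp only [h2] at h1
    apply e.injective
    rw [h1]
    simp
  · obtain ⟨s, hs⟩ := isConj_iff.1 (Cfsg.Agent.H164.ThFiveRow.isConj_five (v := e y) (v' := e x)
      (by rw [MulEquiv.orderOf_eq, hy]) (by rw [MulEquiv.orderOf_eq, hx]))
    refine mpair_of_isConj_zpow hAA (by norm_num) hna hx (s := e.symm s) (j := 1) ?_
    apply e.injective
    rw [zpow_one, ← hs]
    simp

/-- **`Ly`**, from `G₂(5)`. -/
theorem mrow_Ly (h5 : MRow 5 (Lie.chevG2.group (ZMod 5))) {K : Type u} [Group K] (h : Spor.IsoLy K) : MRow 5 K := by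
  have : Fact (Nat.Prime 5) := ⟨by norm_num⟩
  have := Cfsg.Agent.Ly.Setup.finite_ly
  have hs : IsSimpleGroup Spor.Ly := Cfsg.Agent.Ly.Setup.isSimple_ly
  have hna : ¬ IsMulCommutative Spor.Ly := by
    refine Cfsg.Agent.H68.MeetB.not_comm_of_card ?_
    rw [Cfsg.Agent.Ly.Setup.card_ly]
    norm_num
  have hsH := LyEmb.isSimpleGroup_H
  have hfH : Finite LyEmb.H := inferInstance
  have hnaH : ¬ IsMulCommutative LyEmb.H := by
    refine Cfsg.Agent.H68.MeetB.not_comm_of_card ?_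
    rw [LyEmb.card_H]
    norm_num
  obtain ⟨e⟩ := h
  refine MRow.congr e (MRow.of_inner hna (fun a _ => Cfsg.Agent.TypeM.OutLyFin.inner_ly a) (fun x y hx hy => ?_))
  have hH : MRow 5 LyEmb.H := MRow.congr Cfsg.Agent.H164.LyFiveRow.equivG h5
  refine mpair_of_index hnaH hH LyEmb.H ?_ (MulEquiv.refl _) hx hy
  rw [Cfsg.Agent.H164.LyFiveRow.index_H]
  norm_num

end Cfsg.Agent.H164.FiveMRow
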