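import Mathlib

/-!
Arithmetic used in the classification of the Hall subgroups of symmetric groups: if
`2 ≤ b ≤ a` and no prime `≤ a` divides `(a + b).choose b`, then `a = 4` and `b = 3`.
-/

set_option autoImplicit false

namespace Cfsg.Agent.H164

/-- there are no carries when `a` and `b` are added in base `r` -/
def NoCarry (r a b : ℕ) : Prop := ∀ i : ℕ, a % r ^ i + b % r ^ i < r ^ i

theorem noCarry_of_not_dvd {r a b : ℕ} (hr : r.Prime) (h : ¬ r ∣ (a + b).choose b) :
    NoCarry r a b := by
  intro i
  have hfac : ((a + b).choose b).factorization r = 0 :=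
    Nat.factorization_eq_zero_of_not_dvd h
  rw [Nat.factorization_choose' hr (b := max (Nat.log r (a + b) + 1) (i + 1))
    (lt_of_lt_of_le (Nat.lt_succ_self _) (le_max_left _ _)), Finset.card_eq_zero] at hfac
  by_contra hcon
  push Not at hcon
  rcases Nat.eq_zero_or_pos i with rfl | hi
  · simp [Nat.mod_one] at hcon
  · have : i ∈ ({i ∈ Finset.Ico 1 (max (Nat.log r (a + b) + 1) (i + 1)) |
        r ^ i ≤ b % r ^ i + a % r ^ i} : Finset ℕ) := by
      simp only [Finset.mem_filter, Finset.mem_Ico]
      exact ⟨⟨hi, lt_of_lt_of_le (Nat.lt_succ_self _) (le_max_right _ _)⟩, by omega⟩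
    rw [hfac] at this
    simp at this

theorem mod_of_dvd_add {m a c : ℕ} (hc : 0 < c) (hcm : c ≤ m) (h : m ∣ a + c) :
    a % m = m - c := by
  obtain ⟨k, hk⟩ := h
  have hm : 0 < m := by omega
  have hk1 : 1 ≤ k := by
    rcases Nat.eq_zero_or_pos k with rfl | h
    · omega
    · exact h
  obtain ⟨k, rfl⟩ : ∃ j, k = j + 1 := ⟨k - 1, by omega⟩
  have : a = (m - c) + m * k := by
    have : m * (k + 1) = m * k + m := by ring
    omega
  rw [this, Nat.add_mul_mod_self_left, Nat.mod_eq_of_lt (by omega)]

theorem dvd_mul_pred_of_mod {m b : ℕ} (h : b % m ≤ 1) : m ∣ b * (b - 1) := by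
  have h1 := Nat.div_add_mod b m
  rcases Nat.le_one_iff_eq_zero_or_eq_one.mp h with h0 | h0
  · exact Dvd.dvd.mul_right (Nat.dvd_of_mod_eq_zero h0) _
  · rw [h0] at h1
    exact Dvd.dvd.mul_left ⟨b / m, by omega⟩ _

theorem aux0 {x y m : ℕ} (hm : 0 < m) (h1 : x + y < m) (h2 : x = m - 1) : y = 0 := by omega

/-- The arithmetic lemma. -/
theorem four_three {a b : ℕ} (hb : 2 ≤ b) (hab : b ≤ a)
    (h : ∀ r : ℕ, r.Prime → r ≤ a → NoCarry r a b) : a = 4 ∧ b = 3 := by
  -- `a + 1` is prime
  have hprime : (a + 1).Prime := by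
    by_contra hnp
    have hdvd : a + 1 ∣ b := by
      rw [Nat.dvd_iff_prime_pow_dvd_dvd]
      intro r k hr hk
      rcases Nat.eq_zero_or_pos k with rfl | hk0
      · simp
      have hra : r ≤ a := by
        have h1 : r ∣ a + 1 := dvd_trans (dvd_pow_self r (by omega)) hk
        have h2 : r ≤ a + 1 := Nat.le_of_dvd (by omega) h1
        rcases Nat.lt_or_ge r (a + 1) with h3 | h3
        · omega
        · exfalso; apply hnp; rw [← le_antisymm h2 h3]; exact hr
      have h1 := h r hr hra k
      have h2 : a % r ^ k = r ^ k - 1 := mod_of_dvd_add one_pos (Nat.one_le_pow _ _ hr.pos) hk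
      have h3 : b % r ^ k = 0 := aux0 (pow_pos hr.pos k) h1 h2
      exact Nat.dvd_of_mod_eq_zero h3
    have := Nat.le_of_dvd (by omega) hdvd
    omega
  -- `b ≠ a`
  have hne : b ≠ a := by
    rintro rfl
    have h1 := h 2 Nat.prime_two hb (Nat.log 2 b + 1)
    have h2 : b < 2 ^ (Nat.log 2 b + 1) := Nat.lt_pow_succ_log_self (by norm_num) b
    have h3 : 2 ^ Nat.log 2 b ≤ b := Nat.pow_log_le_self 2 (by omega)
    rw [Nat.mod_eq_of_lt h2, pow_succ] at h1
    omega
  have hlt : b < a := lt_of_le_of_ne hab hne
  -- `b + 1 ∣ a`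
  have hb1 : b + 1 ∣ a := by
    rw [Nat.dvd_iff_prime_pow_dvd_dvd]
    intro r k hr hk
    rcases Nat.eq_zero_or_pos k with rfl | hk0
    · simp
    have hra : r ≤ a := by
      have h1 : r ∣ b + 1 := dvd_trans (dvd_pow_self r (by omega)) hk
      have h2 : r ≤ b + 1 := Nat.le_of_dvd (by omega) h1
      omega
    have h1 := h r hr hra k
    have h2 : b % r ^ k = r ^ k - 1 := mod_of_dvd_add one_pos (Nat.one_le_pow _ _ hr.pos) hk
    have h3 : a % r ^ k = 0 := aux0 (pow_pos hr.pos k) (by rw [add_comm]; exact h1) h2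
    exact Nat.dvd_of_mod_eq_zero h3
  have haodd : Odd (a + 1) := hprime.odd_of_ne_two (by omega)
  have haeven : Even a := by
    rcases Nat.even_or_odd a with h1 | h1
    · exact h1
    · exfalso
      have := h1.add_one
      exact (Nat.not_even_iff_odd.mpr haodd) this
  obtain ⟨a', ha'⟩ := haeven
  -- `a + 2 ∣ b * (b - 1)`
  have ha2 : a + 2 ∣ b * (b - 1) := by
    rw [Nat.dvd_iff_prime_pow_dvd_dvd]
    intro r k hr hk
    rcases Nat.eq_zero_or_pos k with rfl | hk0
    · simp
    have hra : r ≤ a := by
      have h1 : r ∣ a + 2 := dvd_trans (dvd_pow_self r (by omega)) hk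
      rcases hr.eq_two_or_odd' with rfl | hodd
      · omega
      · have h2 : r ∣ 2 * (a' + 1) := by
          rw [show 2 * (a' + 1) = a + 2 by omega]; exact h1
        have h3 : r ∣ a' + 1 := by
          rcases (Nat.Prime.dvd_mul hr).mp h2 with h4 | h4
          · have := Nat.le_of_dvd (by norm_num) h4
            have := hr.two_le
            have : r = 2 := by omega
            subst this
            exact absurd hodd (by decide)
          · exact h4
        have := Nat.le_of_dvd (by omega) h3
        omega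
    have h1 := h r hr hra k
    rcases Nat.lt_or_ge (r ^ k) 3 with h5 | h5
    · have h6 : r ^ k = 2 := by
        have h7 : r ^ 1 ≤ r ^ k := Nat.pow_le_pow_right hr.pos hk0
        rw [pow_one] at h7
        have := hr.two_le
        omega
      rw [h6]
      exact even_iff_two_dvd.mp (Nat.even_mul_pred_self b)
    · have h2 : a % r ^ k = r ^ k - 2 := mod_of_dvd_add two_pos (by omega) hk
      exact dvd_mul_pred_of_mod (by omega)
  obtain ⟨t, ht⟩ := hb1
  have ht0 : t ≠ 0 := by
    rintro rfl
    omega
  rcases Nat.lt_or_ge t 2 with ht2 | ht2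
  · -- `a = b + 1`
    have ht1 : t = 1 := by omega
    subst ht1
    have hba : a = b + 1 := by omega
    have h12 : a + 2 ∣ 12 := by
      have h1 : ((a : ℤ) + 2) ∣ (b : ℤ) * (b - 1) := by
        have h2 : ((b * (b - 1) : ℕ) : ℤ) = (b : ℤ) * (b - 1) := by
          rw [Nat.cast_mul, Nat.cast_sub (by omega)]; simp
        rw [← h2]
        have : ((a : ℤ) + 2) = ((a + 2 : ℕ) : ℤ) := by push_cast; ring
        rw [this]
        exact Int.natCast_dvd_natCast.mpr ha2
      have h2 : ((a : ℤ) + 2) ∣ 12 := by
        have h3 : (12 : ℤ) = (b : ℤ) * (b - 1) - ((a : ℤ) + 2) * ((a : ℤ) - 5) := by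
          rw [hba]; push_cast; ring
        rw [h3]
        exact dvd_sub h1 (Dvd.intro _ rfl)
      have : ((a : ℤ) + 2) = ((a + 2 : ℕ) : ℤ) := by push_cast; ring
      rw [this] at h2
      exact_mod_cast h2
    have h13 : a ≤ 10 := by
      have := Nat.le_of_dvd (by norm_num) h12
      omega
    have hcases : a = 4 ∨ a = 10 := by
      interval_cases a <;> omega
    rcases hcases with h14 | h14
    · omega
    · exfalso
      have h15 := h 2 Nat.prime_two (by omega) 4
      have h16 : b = 9 := by omega
      subst h14 h16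
      norm_num at h15
  · -- `a = (b + 1) * t` with `t ≥ 2`
    exfalso
    obtain ⟨s, hs⟩ := ha2
    -- b (b-1) = (a+2) s
    have hbt : b = t + 2 := by
      -- work in integers
      have hsZ : (b : ℤ) * (b - 1) = ((b + 1) * t + 2) * s := by
        have h2 : ((b * (b - 1) : ℕ) : ℤ) = (b : ℤ) * (b - 1) := by
          rw [Nat.cast_mul, Nat.cast_sub (by omega)]; simp
        rw [← h2, hs, ht]; push_cast; ring
      have hs1 : 1 ≤ s := by
        rcases Nat.eq_zero_or_pos s with rfl | h1
        · exfalso
          rw [mul_zero] at hs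
          have : 0 < b * (b - 1) := Nat.mul_pos (by omega) (by omega)
          omega
        · exact h1
      have hdv : ((b : ℤ) + 1) ∣ 2 * (s - 1) := by
        refine ⟨(b : ℤ) - 2 - t * s, ?_⟩
        linear_combination (-1 : ℤ) * hsZ
      rcases Nat.lt_or_ge 1 s with h1 | h1
      · exfalso
        have h3 : (b : ℤ) + 1 ≤ 2 * (s - 1) := Int.le_of_dvd (by
          have : (1 : ℤ) < s := by exact_mod_cast h1
          linarith) hdv
        have h4 : (2 : ℤ) ≤ t := by exact_mod_cast ht2
        have h5 : (2 : ℤ) ≤ b := by exact_mod_cast hb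
        have h6 : (0 : ℤ) ≤ ((b : ℤ) + 1) * (t - 2) * s :=
          mul_nonneg (mul_nonneg (by linarith) (by linarith)) (Int.natCast_nonneg s)
        have h7 : ((b : ℤ) + 2) * (b + 1) ≤ (b + 2) * (2 * (s - 1)) :=
          mul_le_mul_of_nonneg_left h3 (by linarith)
        nlinarith
      · have h6 : s = 1 := by omega
        rw [h6] at hsZ
        have h7 : ((b : ℤ) + 1) * (b - t - 2) = 0 := by
          push_cast at hsZ
          linear_combination hsZ
        have h8 : (b : ℤ) - t - 2 = 0 := by
          rcases mul_eq_zero.mp h7 with h9 | h9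
          · have : (0 : ℤ) ≤ b := Int.natCast_nonneg b
            linarith
          · exact h9
        have h9 : (b : ℤ) = ((t + 2 : ℕ) : ℤ) := by push_cast; linarith
        exact_mod_cast h9
    -- `b + 2 ∣ a * (a - 1)`
    have hab2 : b + 2 ≤ a := by
      rw [ht]; nlinarith
    have hb2 : b + 2 ∣ a * (a - 1) := by
      rw [Nat.dvd_iff_prime_pow_dvd_dvd]
      intro r k hr hk
      rcases Nat.eq_zero_or_pos k with rfl | hk0
      · simp
      have hra : r ≤ a := by
        have h1 : r ∣ b + 2 := dvd_trans (dvd_pow_self r (by omega)) hk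
        have h2 : r ≤ b + 2 := Nat.le_of_dvd (by omega) h1
        omega
      have h1 := h r hr hra k
      rcases Nat.lt_or_ge (r ^ k) 3 with h5 | h5
      · have h6 : r ^ k = 2 := by
          have h7 : r ^ 1 ≤ r ^ k := Nat.pow_le_pow_right hr.pos hk0
          rw [pow_one] at h7
          have := hr.two_le
          omega
        rw [h6]
        exact even_iff_two_dvd.mp (Nat.even_mul_pred_self a)
      · have h2 : b % r ^ k = r ^ k - 2 := mod_of_dvd_add two_pos (by omega) hk
        exact dvd_mul_pred_of_mod (by omega)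
    have h12 : b + 2 ∣ 12 := by
      have h1 : ((b : ℤ) + 2) ∣ (a : ℤ) * (a - 1) := by
        have h2 : ((a * (a - 1) : ℕ) : ℤ) = (a : ℤ) * (a - 1) := by
          rw [Nat.cast_mul, Nat.cast_sub (by omega)]; simp
        rw [← h2]
        have : ((b : ℤ) + 2) = ((b + 2 : ℕ) : ℤ) := by push_cast; ring
        rw [this]
        exact Int.natCast_dvd_natCast.mpr hb2
      have haZ : (a : ℤ) = ((b : ℤ) + 2) * (b - 3) + 4 := by
        rw [ht, hbt]; push_cast; ring
      have h2 : ((b : ℤ) + 2) ∣ 12 := by
        have h3 : (12 : ℤ) = (a : ℤ) * (a - 1) -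
            ((b : ℤ) + 2) * (((b : ℤ) - 3) * (((b : ℤ) + 2) * (b - 3) + 7)) := by
          rw [haZ]; ring
        rw [h3]
        exact dvd_sub h1 (Dvd.intro _ rfl)
      have : ((b : ℤ) + 2) = ((b + 2 : ℕ) : ℤ) := by push_cast; ring
      rw [this] at h2
      exact_mod_cast h2
    have h13 : b ≤ 10 := by
      have := Nat.le_of_dvd (by norm_num) h12
      omega
    have hcases : b = 4 ∨ b = 10 := by
      interval_cases b <;> omega
    rcases hcases with h14 | h14
    · have h15 : t = 2 := by omega
      subst h14 h15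
      have h16 : a = 10 := by omega
      subst h16
      have h17 := h 7 (by norm_num) (by norm_num) 1
      norm_num at h17
    · have h15 : t = 8 := by omega
      subst h14 h15
      have h16 : a = 88 := by omega
      subst h16
      have h17 := h 7 (by norm_num) (by norm_num) 1
      norm_num at h17

end Cfsg.Agent.H164
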