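import Mathlib
import Cfsg.Agent.H164.HallGen

/-!
Permutation-theoretic tools for the classification of Hall subgroups of symmetric and
alternating groups.
-/

set_option autoImplicit false

namespace Cfsg.Agent.H164

open Equiv MulAction

/-- Any homomorphism between symmetric groups of finite sets maps even permutations to even
ones. -/
theorem hom_map_alternating_le {β α : Type*} [Fintype β] [DecidableEq β] [Fintype α]
    [DecidableEq α] (Φ : Perm β →* Perm α) :
    (alternatingGroup β).map Φ ≤ alternatingGroup α := by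
  rw [Subgroup.map_le_iff_le_comap, ← Equiv.Perm.closure_three_cycles_eq_alternating,
    Subgroup.closure_le]
  intro σ hσ
  have h3 : σ ^ 3 = 1 := by
    have := pow_orderOf_eq_one σ
    rwa [Equiv.Perm.IsThreeCycle.orderOf hσ] at this
  have h4 : (Perm.sign (Φ σ)) ^ 3 = 1 := by
    rw [← map_pow, ← map_pow, h3, map_one, map_one]
  simp only [SetLike.mem_coe, Subgroup.mem_comap, Perm.mem_alternatingGroup]
  rcases Int.units_eq_one_or (Perm.sign (Φ σ)) with h | h
  · exact h
  · rw [h] at h4
    exact absurd h4 (by decide)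

/-- version of `exists_conj_mem_of_isPGroup` inside a subgroup `A` -/
theorem exists_conj_mem_rel {G : Type*} [Group G] [Finite G] {A H E : Subgroup G} {p : ℕ}
    (hp : p.Prime) (hH : ¬ p ∣ H.relIndex A) (hEA : E ≤ A) (hE : IsPGroup p E) :
    ∃ g ∈ A, ∀ e ∈ E, g⁻¹ * e * g ∈ H := by
  have h1 : IsPGroup p (E.subgroupOf A) := by
    have := hE.comap_of_injective A.subtype A.subtype_injective
    exact this
  obtain ⟨g, hg⟩ := exists_conj_mem_of_isPGroup (H := H.subgroupOf A) (E := E.subgroupOf A) hp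
    hH h1
  refine ⟨g, g.2, fun e he => ?_⟩
  exact hg ⟨e, hEA he⟩ he

section LemmaE

variable {α : Type*} [Fintype α] [DecidableEq α]

/-- Many disjoint copies of a `p`-group of permutations of `Fin s` in a subgroup of index prime
to `p`. -/
theorem exists_copies {A H : Subgroup (Perm α)} {r s t : ℕ} (hr : r.Prime)
    (hidx : ¬ r ∣ H.relIndex A) (K : Subgroup (Perm (Fin s))) (hK : IsPGroup r K)
    (hA : ∀ Φ : Perm (Fin s) →* Perm α, K.map Φ ≤ A) (hts : t * s ≤ Fintype.card α) :
    ∃ ι : Fin t × Fin s → α, Function.Injective ι ∧ ∀ i, ∀ κ ∈ K, ∃ h ∈ H,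
      (∀ x, h (ι (i, x)) = ι (i, κ x)) ∧ ∀ y, (∀ x, y ≠ ι (i, x)) → h y = y := by
  classical
  obtain ⟨ι0⟩ : Nonempty ((Σ _ : Fin t, Fin s) ↪ α) := by
    apply Function.Embedding.nonempty_of_card_le
    simpa using hts
  let Θ : (Fin t → Perm (Fin s)) →* Perm α :=
    (Perm.viaEmbeddingHom ι0).comp (Perm.sigmaCongrRightHom (fun _ : Fin t => Fin s))
  have hΘ1 : ∀ σ (i : Fin t) x, Θ σ (ι0 ⟨i, x⟩) = ι0 ⟨i, σ i x⟩ := by
    intro σ i x
    simp only [Θ, MonoidHom.comp_apply, Perm.viaEmbeddingHom_apply, Perm.viaEmbedding_apply]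
    rfl
  have hΘ2 : ∀ σ y, y ∉ Set.range ι0 → Θ σ y = y := by
    intro σ y hy
    simp only [Θ, MonoidHom.comp_apply, Perm.viaEmbeddingHom_apply]
    exact Perm.viaEmbedding_apply_of_notMem _ _ _ hy
  let E : Subgroup (Perm α) := (Subgroup.pi Set.univ (fun _ : Fin t => K)).map Θ
  have hEp : IsPGroup r E := by
    apply IsPGroup.map
    have : Fact r.Prime := ⟨hr⟩
    obtain ⟨n, hn⟩ := (IsPGroup.iff_card (p := r)).mp hK
    rintro ⟨σ, hσ⟩
    refine ⟨n, ?_⟩
    apply Subtype.ext
    funext i
    have h1 : σ i ∈ K := hσ i (Set.mem_univ _)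
    have h2 : (⟨σ i, h1⟩ : K) ^ (r ^ n) = 1 := by
      rw [← hn]; exact pow_card_eq_one'
    exact congrArg Subtype.val h2
  have hEA : E ≤ A := by
    rw [Subgroup.map_le_iff_le_comap, Subgroup.pi_le_iff]
    intro i
    rw [Subgroup.map_le_iff_le_comap, Subgroup.comap_comap, ← Subgroup.map_le_iff_le_comap]
    exact hA _
  obtain ⟨g, hgA, hg⟩ := exists_conj_mem_rel hr hidx hEA hEp
  refine ⟨fun p => g⁻¹ (ι0 ⟨p.1, p.2⟩), ?_, ?_⟩
  · rintro ⟨i, x⟩ ⟨j, y⟩ h
    have h1 := ι0.injective (g⁻¹.injective h)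
    simp only [Sigma.mk.injEq, heq_eq_eq] at h1
    exact Prod.ext h1.1 h1.2
  · intro i κ hκ
    refine ⟨g⁻¹ * Θ (Pi.mulSingle i κ) * g, hg _ ⟨Pi.mulSingle i κ, ?_, rfl⟩, ?_, ?_⟩
    · intro j _
      by_cases hji : j = i
      · subst hji; simpa using hκ
      · rw [Pi.mulSingle_eq_of_ne hji]; exact K.one_mem
    · intro x
      simp only [Perm.mul_apply]
      rw [show g (g⁻¹ (ι0 ⟨i, x⟩)) = ι0 ⟨i, x⟩ from g.apply_symm_apply _, hΘ1,
        Pi.mulSingle_eq_same]
    · intro y hy
      simp only [Perm.mul_apply]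
      rw [Perm.inv_eq_iff_eq]
      by_cases hr : g y ∈ Set.range ι0
      · obtain ⟨⟨j, x⟩, hx⟩ := hr
        rw [← hx, hΘ1]
        have hji : j ≠ i := by
          rintro rfl
          apply hy x
          change y = g⁻¹ (ι0 ⟨j, x⟩)
          rw [hx]
          exact (g.symm_apply_apply y).symm
        rw [Pi.mulSingle_eq_of_ne hji]
        rfl
      · exact hΘ2 _ _ hr

end LemmaE

/-- A cycle of prime length `q` meeting a small set of "block type" fixes ... contradiction. -/
theorem cycle_block {α : Type*} [Fintype α] [DecidableEq α] {z : Perm α} {q : ℕ}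
    (hq : q.Prime) (hz : z.IsCycle) (hzc : z.support.card = q) (X : Finset α)
    (h2 : 2 ≤ X.card) (hlt : X.card < q) {a : α} (haX : a ∈ X) (haz : a ∈ z.support)
    (hX : ∀ i : ℕ, (∃ x ∈ X, (z ^ i) x ∈ X) → ∀ x ∈ X, (z ^ i) x ∈ X) : False := by
  have hord : orderOf z = q := by rw [hz.orderOf, hzc]
  have key : ∀ x ∈ X, z x ∈ X := by
    by_cases hsub : ∀ x ∈ X, x ∈ z.support
    · obtain ⟨b, hbX, hba⟩ : ∃ b ∈ X, b ≠ a := Finset.exists_mem_ne (by omega) a
      obtain ⟨i, hi⟩ := hz.exists_pow_eq (Perm.mem_support.mp haz) (Perm.mem_support.mp (hsub b hbX))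
      have h3 := hX i ⟨a, haX, hi ▸ hbX⟩
      have hcop : i.Coprime (orderOf z) := by
        rw [hord, Nat.coprime_comm, Nat.Prime.coprime_iff_not_dvd hq]
        rintro ⟨k, rfl⟩
        rw [pow_mul, ← hord, pow_orderOf_eq_one, one_pow] at hi
        exact hba hi.symm
      obtain ⟨m, hm⟩ := exists_pow_eq_self_of_coprime hcop
      have h4 : ∀ m : ℕ, ∀ x ∈ X, ((z ^ i) ^ m) x ∈ X := by
        intro m
        induction m with
        | zero => intro x hx; simpa using hx
        | succ m ih =>
          intro x hx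
          rw [pow_succ, Perm.mul_apply]
          exact ih _ (h3 x hx)
      intro x hx
      have := h4 m x hx
      rwa [hm] at this
    · push Not at hsub
      obtain ⟨c, hcX, hc⟩ := hsub
      have h3 := hX 1 ⟨c, hcX, by rw [pow_one, Perm.notMem_support.mp hc]; exact hcX⟩
      simpa using h3
  have hall : ∀ m : ℕ, (z ^ m) a ∈ X := by
    intro m
    induction m with
    | zero => simpa using haX
    | succ m ih => rw [pow_succ', Perm.mul_apply]; exact key _ ih
  have hsup : z.support ⊆ X := by
    intro y hy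
    obtain ⟨i, hi⟩ := hz.exists_pow_eq (Perm.mem_support.mp haz) (Perm.mem_support.mp hy)
    rw [← hi]; exact hall i
  have := Finset.card_le_card hsup
  omega

/-- two points interchanged by a group element: even order -/
theorem even_of_swap {G α : Type*} [Group G] [Finite G] [MulAction G α] {a b : α} (hab : a ≠ b)
    {g : G} (h1 : g • a = b) (h2 : g • b = a) : 2 ∣ Nat.card G := by
  have h3 : 2 ∣ orderOf g := by
    by_contra hodd
    have hodd' : Odd (orderOf g) := by
      rw [← Nat.not_even_iff_odd, even_iff_two_dvd]; exact hodd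
    obtain ⟨k, hk⟩ := hodd'
    have h4 : (g ^ 2) • a = a := by rw [pow_two, mul_smul, h1, h2]
    have h5 : ∀ k : ℕ, ((g ^ 2) ^ k) • a = a := by
      intro k
      induction k with
      | zero => simp
      | succ k ih => rw [pow_succ, mul_smul, h4, ih]
    have h6 : g ^ (orderOf g) • a = b := by
      rw [hk, pow_succ', mul_smul, pow_mul, h5, h1]
    rw [pow_orderOf_eq_one, one_smul] at h6
    exact hab h6
  exact h3.trans (orderOf_dvd_natCard g)

/-- a 3-cycle of points under a group element: order divisible by 3 -/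
theorem three_dvd_of_rot {G α : Type*} [Group G] [Finite G] [MulAction G α] {a b c : α}
    (hab : a ≠ b) {g : G} (h1 : g • a = b) (h2 : g • b = c) (h3 : g • c = a) :
    3 ∣ Nat.card G := by
  have h4 : 3 ∣ orderOf g := by
    by_contra hnd
    have h5 : (g ^ 3) • a = a := by
      rw [pow_succ, pow_two, mul_smul, mul_smul, h1, h2, h3]
    have hcop : (3 : ℕ).Coprime (orderOf g) :=
      (Nat.Prime.coprime_iff_not_dvd Nat.prime_three).mpr hnd
    obtain ⟨m, hm⟩ := exists_pow_eq_self_of_coprime hcop
    have h6 : ∀ k : ℕ, ((g ^ 3) ^ k) • a = a := by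
      intro k
      induction k with
      | zero => simp
      | succ k ih => rw [pow_succ, mul_smul, h5, ih]
    have h7 := h6 m
    rw [hm, h1] at h7
    exact hab h7.symm
  exact h4.trans (orderOf_dvd_natCard g)

/-- Two overlapping cycles of prime length `p` covering everything generate a group of even
order. -/
theorem even_of_cycles_cover {Ω : Type*} [Fintype Ω] [DecidableEq Ω] {G : Subgroup (Perm Ω)}
    {x y : Perm Ω} {p : ℕ} (hp : p.Prime) (hx : x.IsCycle) (hy : y.IsCycle)
    (hxc : x.support.card = p) (hyc : y.support.card = p) (hxG : x ∈ G) (hyG : y ∈ G)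
    {c : Ω} (hcx : c ∈ x.support) (hcy : c ∈ y.support)
    (hcov : ∀ a, a ∈ x.support ∨ a ∈ y.support) (hne : x.support ≠ Finset.univ) :
    2 ∣ Nat.card G := by
  have htrans : IsPretransitive G Ω := by
    have h1 : ∀ a : Ω, ∃ g : G, g • c = a := by
      intro a
      rcases hcov a with ha | ha
      · obtain ⟨i, hi⟩ := hx.exists_pow_eq (Perm.mem_support.mp hcx) (Perm.mem_support.mp ha)
        exact ⟨⟨x ^ i, pow_mem hxG i⟩, hi⟩
      · obtain ⟨i, hi⟩ := hy.exists_pow_eq (Perm.mem_support.mp hcy) (Perm.mem_support.mp ha)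
        exact ⟨⟨y ^ i, pow_mem hyG i⟩, hi⟩
    refine ⟨fun a b => ?_⟩
    obtain ⟨g, hg⟩ := h1 a
    obtain ⟨h, hh⟩ := h1 b
    exact ⟨h * g⁻¹, by rw [mul_smul, inv_smul_eq_iff.mpr hg.symm, hh]⟩
  have hcard : Fintype.card Ω < 2 * p := by
    have h1 : (Finset.univ : Finset Ω) = x.support ∪ y.support := by
      ext a; simpa using hcov a
    have h2 := Finset.card_union_add_card_inter x.support y.support
    have h3 : 0 < (x.support ∩ y.support).card :=
      Finset.card_pos.mpr ⟨c, Finset.mem_inter.mpr ⟨hcx, hcy⟩⟩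
    rw [← h1, Finset.card_univ] at h2
    omega
  have hltu : x.support.card < Fintype.card Ω := by
    rw [← Finset.card_univ]
    exact Finset.card_lt_card (Finset.ssubset_univ_iff.mpr hne)
  have ht2 := Perm.isPretransitive_of_isCycle_mem hx hxG
  have hcardS : Nat.card (SubMulAction.ofFixingSubgroup G (x.support : Set Ω)ᶜ) = p := by
    rw [← hxc]
    have : ∀ a : Ω, a ∈ (SubMulAction.ofFixingSubgroup G (x.support : Set Ω)ᶜ) ↔ a ∈ x.support := by
      intro a
      simp [SubMulAction.mem_ofFixingSubgroup_iff]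
    rw [Nat.card_congr (Equiv.subtypeEquivRight this), Nat.card_eq_fintype_card,
      Fintype.card_coe]
  have hprim0 : IsPreprimitive (fixingSubgroup G (x.support : Set Ω)ᶜ)
      (SubMulAction.ofFixingSubgroup G (x.support : Set Ω)ᶜ) := by
    apply IsPreprimitive.of_prime_card
    rw [hcardS]; exact hp
  have hprim : IsPreprimitive G Ω := by
    let φ : fixingSubgroup G (x.support : Set Ω)ᶜ → G := fun g => g.1
    let f : SubMulAction.ofFixingSubgroup G (x.support : Set Ω)ᶜ →ₑ[φ] Ω :=
      { toFun := fun a => a.1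
        map_smul' := fun _ _ => rfl }
    refine IsPreprimitive.of_card_lt (f := f) ?_
    have h1 : (Set.range f).ncard = p := by
      rw [← hcardS, ← Nat.card_coe_set_eq]
      exact (Nat.card_range_of_injective (f := f) (fun a b h => Subtype.ext h))
    rw [h1, Nat.card_eq_fintype_card]
    exact hcard
  obtain ⟨n, hn⟩ : ∃ n, Fintype.card Ω - p = n + 1 := ⟨Fintype.card Ω - p - 1, by omega⟩
  have hs : ((x.support : Set Ω)ᶜ).ncard = n + 1 := by
    have h1 := Set.ncard_add_ncard_compl (x.support : Set Ω)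
    rw [Set.ncard_coe_finset, Nat.card_eq_fintype_card] at h1
    omega
  have h2 : IsMultiplyPretransitive G Ω 2 := by
    refine hprim.is_two_pretransitive hs ?_ ht2
    rw [Nat.card_eq_fintype_card]
    have := hp.two_le
    omega
  rw [is_two_pretransitive_iff] at h2
  obtain ⟨d, hd⟩ : ∃ d, d ∉ x.support := by
    by_contra hcon
    push Not at hcon
    exact hne (Finset.eq_univ_iff_forall.mpr hcon)
  have hcd : c ≠ d := fun h => hd (h ▸ hcx)
  obtain ⟨g, hg1, hg2⟩ := h2 hcd hcd.symm
  exact even_of_swap hcd hg1 hg2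

theorem isCycle_of_ofSubtype {α : Type*} {P : α → Prop} [DecidablePred P]
    {x : Perm {a // P a}} (h : (Perm.ofSubtype x).IsCycle) : x.IsCycle := by
  obtain ⟨a, ha, hall⟩ := h
  have hPa : P a := by
    by_contra hPa
    exact ha (Perm.ofSubtype_apply_of_not_mem _ hPa)
  refine ⟨⟨a, hPa⟩, ?_, ?_⟩
  · intro h
    apply ha
    rw [Perm.ofSubtype_apply_of_mem _ hPa, h]
  · rintro ⟨b, hb⟩ hxb
    have h1 : (Perm.ofSubtype x) b ≠ b := by
      rw [Perm.ofSubtype_apply_of_mem _ hb]
      intro h
      exact hxb (Subtype.ext h)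
    obtain ⟨i, hi⟩ := hall h1
    refine ⟨i, ?_⟩
    rw [← map_zpow, Perm.ofSubtype_apply_of_mem _ hPa] at hi
    exact Subtype.ext hi

/-- Two distinct overlapping cycles of the same prime length generate a group of even order. -/
theorem even_of_cycles {α : Type*} [Fintype α] [DecidableEq α] {H : Subgroup (Perm α)}
    {x y : Perm α} {p : ℕ} (hp : p.Prime) (hx : x.IsCycle) (hy : y.IsCycle)
    (hxc : x.support.card = p) (hyc : y.support.card = p) (hxH : x ∈ H) (hyH : y ∈ H)
    {c : α} (hcx : c ∈ x.support) (hcy : c ∈ y.support) (hne : x.support ≠ y.support) :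
    2 ∣ Nat.card H := by
  classical
  let P : α → Prop := fun a => a ∈ x.support ∨ a ∈ y.support
  have hPx : ∀ a, P (x a) ↔ P a := by
    intro a
    by_cases ha : a ∈ x.support
    · have : x a ∈ x.support := Perm.apply_mem_support.mpr ha
      exact ⟨fun _ => Or.inl ha, fun _ => Or.inl this⟩
    · rw [Perm.notMem_support.mp ha]
  have hPy : ∀ a, P (y a) ↔ P a := by
    intro a
    by_cases ha : a ∈ y.support
    · have : y a ∈ y.support := Perm.apply_mem_support.mpr ha
      exact ⟨fun _ => Or.inr ha, fun _ => Or.inr this⟩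
    · rw [Perm.notMem_support.mp ha]
  let x' : Perm {a // P a} := x.subtypePerm hPx
  let y' : Perm {a // P a} := y.subtypePerm hPy
  have hx'x : Perm.ofSubtype x' = x :=
    Perm.ofSubtype_subtypePerm _ (fun a ha => Or.inl (Perm.mem_support.mpr ha))
  have hy'y : Perm.ofSubtype y' = y :=
    Perm.ofSubtype_subtypePerm _ (fun a ha => Or.inr (Perm.mem_support.mpr ha))
  have hx's : ∀ a : {a // P a}, a ∈ x'.support ↔ (a : α) ∈ x.support := by
    intro a
    rw [Perm.mem_support, Perm.mem_support, Ne, Subtype.ext_iff]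
    rfl
  have hy's : ∀ a : {a // P a}, a ∈ y'.support ↔ (a : α) ∈ y.support := by
    intro a
    rw [Perm.mem_support, Perm.mem_support, Ne, Subtype.ext_iff]
    rfl
  have hx'c : x'.IsCycle := by
    apply isCycle_of_ofSubtype; rw [hx'x]; exact hx
  have hy'c : y'.IsCycle := by
    apply isCycle_of_ofSubtype; rw [hy'y]; exact hy
  have hx'card : x'.support.card = p := by
    rw [← hxc, ← hx'c.orderOf, ← hx.orderOf, ← hx'x]
    exact (orderOf_injective _ Perm.ofSubtype_injective _).symm
  have hy'card : y'.support.card = p := by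
    rw [← hyc, ← hy'c.orderOf, ← hy.orderOf, ← hy'y]
    exact (orderOf_injective _ Perm.ofSubtype_injective _).symm
  have h1 := even_of_cycles_cover (G := Subgroup.closure {x', y'}) hp hx'c hy'c hx'card hy'card
    (Subgroup.subset_closure (by simp)) (Subgroup.subset_closure (by simp))
    (c := ⟨c, Or.inl hcx⟩) ((hx's _).mpr hcx) ((hy's _).mpr hcy)
    (fun a => by rw [hx's, hy's]; exact a.2) (by
      intro h
      apply hne
      -- then y.support ⊆ x.support
      have h2 : y.support ⊆ x.support := by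
        intro a ha
        have : (⟨a, Or.inr ha⟩ : {a // P a}) ∈ x'.support := by rw [h]; exact Finset.mem_univ _
        exact (hx's _).mp this
      exact (Finset.eq_of_subset_of_card_le h2 (by omega)).symm)
  have h2 : (Subgroup.closure {x', y'}).map Perm.ofSubtype ≤ H := by
    rw [Subgroup.map_le_iff_le_comap, Subgroup.closure_le]
    rintro g (rfl | rfl)
    · change Perm.ofSubtype x' ∈ H
      rw [hx'x]; exact hxH
    · change Perm.ofSubtype y' ∈ H
      rw [hy'y]; exact hyH
  have h3 : Nat.card ((Subgroup.closure {x', y'}).map Perm.ofSubtype) =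
      Nat.card (Subgroup.closure {x', y'}) :=
    Nat.card_congr ((Subgroup.closure {x', y'}).equivMapOfInjective _
      Perm.ofSubtype_injective).toEquiv.symm
  rw [← h3] at h1
  exact h1.trans (Subgroup.card_dvd_of_le h2)

end Cfsg.Agent.H164
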