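import Mathlib
import Cfsg.Agent.H164.HallCyc

/-!
If a subgroup of `Sym(α)` contains full Sylow subgroups for two primes, then it contains full
Sylow subgroups (or at least elements) for 2 and 3.
-/

set_option autoImplicit false

namespace Cfsg.Agent.H164

open Equiv MulAction

section

variable {α : Type*} [Fintype α] [DecidableEq α]

theorem copy_isCycle {s : ℕ} (hs : 2 ≤ s) (ι : Fin s → α) (hι : Function.Injective ι)
    {h : Perm α} (h1 : ∀ x, h (ι x) = ι (finRotate s x)) (h2 : ∀ y, (∀ x, y ≠ ι x) → h y = y) :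
    h.IsCycle ∧ h.support = Finset.univ.image ι := by
  classical
  have heq : h = (finRotate s).extendDomain (Equiv.ofInjective ι hι) := by
    ext y
    by_cases hy : ∃ x, y = ι x
    · obtain ⟨x, rfl⟩ := hy
      rw [h1]
      exact (Perm.extendDomain_apply_image (finRotate s) (Equiv.ofInjective ι hι) x).symm
    · push Not at hy
      rw [h2 y hy, Perm.extendDomain_apply_not_subtype]
      rintro ⟨x, hx⟩
      exact hy x hx.symm
  constructor
  · rw [heq]
    exact (isCycle_finRotate_of_le hs).extendDomain _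
  · ext y
    simp only [Perm.mem_support, Finset.mem_image, Finset.mem_univ, true_and]
    constructor
    · intro hy
      by_contra hcon
      push Not at hcon
      exact hy (h2 y (fun x hx => hcon x hx.symm))
    · rintro ⟨x, rfl⟩
      rw [h1]
      intro hcon
      have h3 : finRotate s x = x := hι hcon
      have h4 : x ∈ (finRotate s).support := by
        rw [support_finRotate_of_le hs]; exact Finset.mem_univ _
      exact (Perm.mem_support.mp h4) h3

theorem isPGroup_zpowers_finRotate {r k : ℕ} (hr : r.Prime) (hk : 0 < k) :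
    IsPGroup r (Subgroup.zpowers (finRotate (r ^ k))) := by
  have : Fact r.Prime := ⟨hr⟩
  have h2 : 2 ≤ r ^ k := by
    calc 2 ≤ r := hr.two_le
      _ = r ^ 1 := (pow_one r).symm
      _ ≤ r ^ k := Nat.pow_le_pow_right hr.pos hk
  rw [IsPGroup.iff_card]
  refine ⟨k, ?_⟩
  rw [Nat.card_zpowers, (isCycle_finRotate_of_le h2).orderOf, support_finRotate_of_le h2,
    Finset.card_univ, Fintype.card_fin]

/-- Disjoint cycles of length `r ^ k`. -/
theorem exists_cycles {A H : Subgroup (Perm α)} {r k t : ℕ} (hr : r.Prime) (hk : 0 < k)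
    (hidx : ¬ r ∣ H.relIndex A)
    (hA : ∀ Φ : Perm (Fin (r ^ k)) →* Perm α, (Subgroup.zpowers (finRotate (r ^ k))).map Φ ≤ A)
    (hts : t * r ^ k ≤ Fintype.card α) :
    ∃ ι : Fin t × Fin (r ^ k) → α, Function.Injective ι ∧ ∀ i, ∃ h ∈ H,
      h.IsCycle ∧ h.support = Finset.univ.image (fun x => ι (i, x)) := by
  have h2 : 2 ≤ r ^ k := by
    calc 2 ≤ r := hr.two_le
      _ = r ^ 1 := (pow_one r).symm
      _ ≤ r ^ k := Nat.pow_le_pow_right hr.pos hk
  obtain ⟨ι, hι, hall⟩ := exists_copies hr hidx _ (isPGroup_zpowers_finRotate hr hk) hA hts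
  refine ⟨ι, hι, fun i => ?_⟩
  obtain ⟨h, hH, h3, h4⟩ := hall i (finRotate (r ^ k)) (Subgroup.mem_zpowers _)
  refine ⟨h, hH, copy_isCycle h2 (fun x => ι (i, x)) ?_ h3 h4⟩
  intro x y hxy
  exact (Prod.ext_iff.mp (hι hxy)).2

/-- A single cycle of length `r ^ k`. -/
theorem exists_cycle {A H : Subgroup (Perm α)} {r k : ℕ} (hr : r.Prime) (hk : 0 < k)
    (hidx : ¬ r ∣ H.relIndex A)
    (hA : ∀ Φ : Perm (Fin (r ^ k)) →* Perm α, (Subgroup.zpowers (finRotate (r ^ k))).map Φ ≤ A)
    (hts : r ^ k ≤ Fintype.card α) :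
    ∃ h ∈ H, h.IsCycle ∧ h.support.card = r ^ k := by
  obtain ⟨ι, hι, hall⟩ := exists_cycles (t := 1) hr hk hidx hA (by rwa [one_mul])
  obtain ⟨h, hH, h1, h2⟩ := hall 0
  refine ⟨h, hH, h1, ?_⟩
  rw [h2, Finset.card_image_of_injective, Finset.card_univ, Fintype.card_fin]
  intro x y hxy
  exact (Prod.ext_iff.mp (hι hxy)).2

/-- support of a conjugate -/
theorem support_conj (g h : Perm α) (x : α) :
    x ∈ (g * h * g⁻¹).support ↔ g⁻¹ x ∈ h.support := by
  simp only [Perm.mem_support, Perm.mul_apply]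
  constructor
  · intro hx hcon
    apply hx
    rw [hcon]
    exact g.apply_symm_apply x
  · intro hx hcon
    apply hx
    rw [Perm.eq_inv_iff_eq]
    exact hcon

/-- (I.a) Two primes `p < q`: the order is even. -/
theorem even_of_two_primes {H : Subgroup (Perm α)} {p q : ℕ} (hp : p.Prime) (hq : q.Prime)
    (hpq : p < q) (hqn : q ≤ Fintype.card α) (hpi : ¬ p ∣ H.index) (hqi : ¬ q ∣ H.index) :
    2 ∣ Nat.card H := by
  classical
  by_contra hodd
  have hp1 : p ^ 1 = p := pow_one p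
  -- p-cycles
  obtain ⟨ι, hι, hall⟩ := exists_cycles (A := ⊤) (H := H) (t := Fintype.card α / p) hp one_pos
    (by rwa [Subgroup.relIndex_top_right]) (fun _ => le_top)
    (by rw [pow_one]; exact Nat.div_mul_le_self _ _)
  obtain ⟨z, hzH, hzc, hzs⟩ := exists_cycle (A := ⊤) (H := H) hq one_pos
    (by rwa [Subgroup.relIndex_top_right]) (fun _ => le_top) (by rwa [pow_one])
  rw [pow_one] at hzs
  -- z meets some block
  have hmeet : ∃ a ∈ z.support, ∃ i x, ι (i, x) = a := by
    by_contra hcon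
    push Not at hcon
    have h1 : Disjoint z.support (Finset.univ.image ι) := by
      rw [Finset.disjoint_left]
      intro a ha hb
      rw [Finset.mem_image] at hb
      obtain ⟨⟨i, x⟩, _, hx⟩ := hb
      exact hcon a ha i x hx
    have h2 := Finset.card_le_univ (z.support ∪ Finset.univ.image ι)
    rw [Finset.card_union_of_disjoint h1, Finset.card_image_of_injective _ hι, Finset.card_univ,
      Fintype.card_prod, Fintype.card_fin, Fintype.card_fin, pow_one, hzs] at h2
    have h3 := Nat.div_add_mod (Fintype.card α) p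
    have h4 := Nat.mod_lt (Fintype.card α) hp.pos
    have h5 : Fintype.card α / p * p = p * (Fintype.card α / p) := mul_comm _ _
    omega
  obtain ⟨a, haz, i, x, hix⟩ := hmeet
  obtain ⟨h, hH, hhc, hhs⟩ := hall i
  have hcard : h.support.card = p := by
    rw [hhs, Finset.card_image_of_injective, Finset.card_univ, Fintype.card_fin, pow_one]
    intro x y hxy
    exact (Prod.ext_iff.mp (hι hxy)).2
  refine cycle_block hq hzc hzs h.support (by rw [hcard]; exact hp.two_le)
    (by rw [hcard]; exact hpq) (a := a) (by rw [hhs, ← hix]; simp) haz ?_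
  rintro j ⟨x, hx1, hx2⟩ y hy
  have hg : z ^ j ∈ H := pow_mem hzH j
  have h6 : (z ^ j * h * (z ^ j)⁻¹) ∈ H := mul_mem (mul_mem hg hH) (inv_mem hg)
  have h7 : (z ^ j) x ∈ (z ^ j * h * (z ^ j)⁻¹).support := by
    rw [support_conj]
    have : ((z ^ j)⁻¹) ((z ^ j) x) = x := (z ^ j).symm_apply_apply x
    rw [this]; exact hx1
  have h8 : (z ^ j * h * (z ^ j)⁻¹).support = h.support := by
    by_contra hne
    exact hodd (even_of_cycles hp (hhc.conj) hhc (by rw [Perm.card_support_conj]; exact hcard)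
      hcard h6 hH h7 hx2 hne)
  have h9 : (z ^ j) y ∈ (z ^ j * h * (z ^ j)⁻¹).support := by
    rw [support_conj]
    have : ((z ^ j)⁻¹) ((z ^ j) y) = y := (z ^ j).symm_apply_apply y
    rw [this]; exact hy
  rw [h8] at h9
  exact h9

/-- The Klein four group on `Fin 4`. -/
def V4 : Subgroup (Perm (Fin 4)) where
  carrier := {1, swap 0 1 * swap 2 3, swap 0 2 * swap 1 3, swap 0 3 * swap 1 2}
  one_mem' := by simp
  mul_mem' := by
    rintro x y (rfl | rfl | rfl | rfl) (rfl | rfl | rfl | rfl) <;> decide +revert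
  inv_mem' := by
    rintro x (rfl | rfl | rfl | rfl) <;> decide +revert

theorem V4_swap : ∀ e f : Fin 4, e ≠ f → ∃ κ ∈ V4, κ e = f ∧ κ f = e := by
  have h1 : (1 : Perm (Fin 4)) ∈ V4 := V4.one_mem
  have h2 : (swap 0 1 * swap 2 3 : Perm (Fin 4)) ∈ V4 := by
    change _ ∈ ({1, swap 0 1 * swap 2 3, swap 0 2 * swap 1 3, swap 0 3 * swap 1 2} : Set _)
    simp
  have h3 : (swap 0 2 * swap 1 3 : Perm (Fin 4)) ∈ V4 := by
    change _ ∈ ({1, swap 0 1 * swap 2 3, swap 0 2 * swap 1 3, swap 0 3 * swap 1 2} : Set _)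
    simp
  have h4 : (swap 0 3 * swap 1 2 : Perm (Fin 4)) ∈ V4 := by
    change _ ∈ ({1, swap 0 1 * swap 2 3, swap 0 2 * swap 1 3, swap 0 3 * swap 1 2} : Set _)
    simp
  have key : ∀ e f : Fin 4, e ≠ f →
      ((swap 0 1 * swap 2 3 : Perm (Fin 4)) e = f ∧ (swap 0 1 * swap 2 3 : Perm (Fin 4)) f = e) ∨
      ((swap 0 2 * swap 1 3 : Perm (Fin 4)) e = f ∧ (swap 0 2 * swap 1 3 : Perm (Fin 4)) f = e) ∨
      ((swap 0 3 * swap 1 2 : Perm (Fin 4)) e = f ∧ (swap 0 3 * swap 1 2 : Perm (Fin 4)) f = e) := by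
    decide
  intro e f hef
  rcases key e f hef with h | h | h
  · exact ⟨_, h2, h⟩
  · exact ⟨_, h3, h⟩
  · exact ⟨_, h4, h⟩

theorem V4_le : V4 ≤ alternatingGroup (Fin 4) := by
  rintro x (rfl | rfl | rfl | rfl)
  · exact one_mem _
  · rw [Perm.mem_alternatingGroup]; decide
  · rw [Perm.mem_alternatingGroup]; decide
  · rw [Perm.mem_alternatingGroup]; decide

theorem V4_isPGroup : IsPGroup 2 V4 := by
  rintro ⟨x, hx⟩
  refine ⟨1, Subtype.ext ?_⟩
  change x ^ (2 ^ 1) = 1
  rcases hx with rfl | rfl | rfl | rfl <;> decide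

/-- (I.b) A subgroup containing a Sylow 2-subgroup of the alternating group and a cycle of prime
length `p ≥ 5` has order divisible by 3. -/
theorem three_dvd_of_two_and_cycle {H : Subgroup (Perm α)} {p : ℕ} (hp : p.Prime) (hp5 : 5 ≤ p)
    (h2i : ¬ 2 ∣ H.relIndex (alternatingGroup α)) {z : Perm α} (hzH : z ∈ H) (hzc : z.IsCycle)
    (hzs : z.support.card = p) : 3 ∣ Nat.card H := by
  classical
  by_contra h3
  obtain ⟨ι, hι, hall⟩ := exists_copies (A := alternatingGroup α) (H := H)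
    (t := Fintype.card α / 4) (s := 4) Nat.prime_two h2i V4 V4_isPGroup
    (fun Φ => (Subgroup.map_mono V4_le).trans (hom_map_alternating_le Φ))
    (Nat.div_mul_le_self _ _)
  have hmeet : ∃ a ∈ z.support, ∃ i x, ι (i, x) = a := by
    by_contra hcon
    push Not at hcon
    have h1 : Disjoint z.support (Finset.univ.image ι) := by
      rw [Finset.disjoint_left]
      intro a ha hb
      rw [Finset.mem_image] at hb
      obtain ⟨⟨i, x⟩, _, hx⟩ := hb
      exact hcon a ha i x hx
    have h2 := Finset.card_le_univ (z.support ∪ Finset.univ.image ι)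
    rw [Finset.card_union_of_disjoint h1, Finset.card_image_of_injective _ hι, Finset.card_univ,
      Fintype.card_prod, Fintype.card_fin, Fintype.card_fin, hzs] at h2
    omega
  obtain ⟨a, haz, i, x, hix⟩ := hmeet
  set X : Finset α := Finset.univ.image (fun x => ι (i, x)) with hX
  have hXmem : ∀ y, y ∈ X ↔ ∃ x, ι (i, x) = y := by
    intro y; simp [X]
  have hXcard : X.card = 4 := by
    rw [hX, Finset.card_image_of_injective, Finset.card_univ, Fintype.card_fin]
    intro x y hxy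
    exact (Prod.ext_iff.mp (hι hxy)).2
  have hsw : ∀ e ∈ X, ∀ f ∈ X, e ≠ f → ∃ u ∈ H, u e = f ∧ u f = e ∧ ∀ y, y ∉ X → u y = y := by
    intro e he f hf hef
    obtain ⟨x1, rfl⟩ := (hXmem e).mp he
    obtain ⟨x2, rfl⟩ := (hXmem f).mp hf
    obtain ⟨κ, hκ, hκ1, hκ2⟩ := V4_swap x1 x2 (fun h => hef (by rw [h]))
    obtain ⟨u, hu, hu1, hu2⟩ := hall i κ hκ
    refine ⟨u, hu, by rw [hu1, hκ1], by rw [hu1, hκ2], ?_⟩
    intro y hy
    apply hu2
    intro x hxy
    exact hy ((hXmem y).mpr ⟨x, hxy.symm⟩)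
  refine cycle_block hp hzc hzs X (by omega) (by omega) (a := a) ((hXmem a).mpr ⟨x, hix⟩) haz ?_
  rintro j ⟨w, hw1, hw2⟩
  by_contra hcon
  push Not at hcon
  obtain ⟨w', hw'1, hw'2⟩ := hcon
  set g : Perm α := z ^ j with hg
  have hgH : g ∈ H := pow_mem hzH j
  -- f ∈ X \ gX
  obtain ⟨f, hfX, hfg⟩ : ∃ f ∈ X, g⁻¹ f ∉ X := by
    by_contra hcon
    push Not at hcon
    -- g⁻¹ maps X into X, so bijectively
    have h1 : X.image (fun y => g⁻¹ y) ⊆ X := by
      intro y hy
      rw [Finset.mem_image] at hy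
      obtain ⟨x, hx, rfl⟩ := hy
      exact hcon x hx
    have h2 : X.image (fun y => g⁻¹ y) = X := by
      apply Finset.eq_of_subset_of_card_le h1
      rw [Finset.card_image_of_injective _ (g⁻¹).injective]
    have h4 : w' ∈ X.image (fun y => g⁻¹ y) := by rw [h2]; exact hw'1
    rw [Finset.mem_image] at h4
    obtain ⟨y, hy, hyw⟩ := h4
    apply hw'2
    rw [← hyw]
    have : g (g⁻¹ y) = y := g.apply_symm_apply y
    rw [this]; exact hy
  -- e = g w, e' = g w'
  have hef : g w ≠ f := by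
    intro h
    apply hfg
    rw [← h]
    have : g⁻¹ (g w) = w := g.symm_apply_apply w
    rw [this]; exact hw1
  obtain ⟨u, huH, hu1, hu2, hu3⟩ := hsw (g w) hw2 f hfX hef
  have hww : w ≠ w' := by
    rintro rfl
    exact hw'2 hw2
  obtain ⟨v, hvH, hv1, hv2, hv3⟩ := hsw w hw1 w' hw'1 hww
  have hvH' : g * v * g⁻¹ ∈ H := mul_mem (mul_mem hgH hvH) (inv_mem hgH)
  have key : 3 ∣ Nat.card H := by
    have hgv : ∀ y, (g * v * g⁻¹) (g y) = g (v y) := by
      intro y
      simp only [Perm.mul_apply]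
      have : g⁻¹ (g y) = y := g.symm_apply_apply y
      rw [this]
    refine three_dvd_of_rot (G := H) (a := g w) (b := g w') (c := f)
      (fun h => hww (g.injective h))
      (g := (⟨u, huH⟩ : H) * ⟨g * v * g⁻¹, hvH'⟩) ?_ ?_ ?_
    · change u ((g * v * g⁻¹) (g w)) = g w'
      rw [hgv, hv1, hu3 _ hw'2]
    · change u ((g * v * g⁻¹) (g w')) = f
      rw [hgv, hv2, hu1]
    · change u ((g * v * g⁻¹) f) = g w
      have h4 : (g * v * g⁻¹) f = f := by
        simp only [Perm.mul_apply]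
        rw [hv3 _ hfg]
        exact g.apply_symm_apply f
      rw [h4, hu2]
  exact h3 key

end

end Cfsg.Agent.H164
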