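import Mathlib
import Cfsg.Agent.H164.HallTwoThree
import Cfsg.Agent.H164.HallArith

/-!
Classification of the Hall `π`-subgroups of `Sym(α)` when `2, 3 ∈ π` and some prime `≤ |α|` is
not in `π`.
-/

set_option autoImplicit false

namespace Cfsg.Agent.H164

open Equiv MulAction

section

universe u

variable {α : Type u} [Fintype α] [DecidableEq α]

/-- permutations preserving the finset `Δ` -/
def stabF (Δ : Finset α) : Subgroup (Perm α) where
  carrier := {g | ∀ x, g x ∈ Δ ↔ x ∈ Δ}
  one_mem' := by intro x; rfl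
  mul_mem' := by
    intro g h hg hh x
    rw [Perm.mul_apply, hg, hh]
  inv_mem' := by
    intro g hg x
    rw [← hg (g⁻¹ x)]
    rw [show g (g⁻¹ x) = x from g.apply_symm_apply x]

/-- permutations preserving the partition `{Δ, Δᶜ}` -/
def stabP (Δ : Finset α) : Subgroup (Perm α) where
  carrier := {g | (∀ x, g x ∈ Δ ↔ x ∈ Δ) ∨ (∀ x, g x ∈ Δ ↔ x ∉ Δ)}
  one_mem' := by left; intro x; rfl
  mul_mem' := by
    rintro g h (hg | hg) (hh | hh)
    · left; intro x; rw [Perm.mul_apply, hg, hh]
    · right; intro x; rw [Perm.mul_apply, hg, hh]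
    · right; intro x; rw [Perm.mul_apply, hg, hh]
    · left; intro x; rw [Perm.mul_apply, hg, hh, not_not]
  inv_mem' := by
    rintro g (hg | hg)
    · left
      intro x
      rw [← hg (g⁻¹ x)]
      rw [show g (g⁻¹ x) = x from g.apply_symm_apply x]
    · right
      intro x
      have h1 := hg (g⁻¹ x)
      rw [show g (g⁻¹ x) = x from g.apply_symm_apply x] at h1
      rw [h1, not_not]

theorem stabF_le_stabP (Δ : Finset α) : stabF Δ ≤ stabP Δ := fun _ hg => Or.inl hg

theorem card_stabF (Δ : Finset α) :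
    Nat.card (stabF Δ) = Δ.card.factorial * (Fintype.card α - Δ.card).factorial := by
  have h1 : Nat.card (stabF Δ) = Fintype.card {g : Perm α // (fun x => decide (x ∈ Δ)) ∘ g =
      (fun x => decide (x ∈ Δ))} := by
    rw [← Nat.card_eq_fintype_card]
    refine Nat.card_congr (Equiv.subtypeEquivRight fun g => ?_)
    change (∀ x, g x ∈ Δ ↔ x ∈ Δ) ↔ _
    rw [funext_iff]
    simp
  rw [h1, DomMulAct.stabilizer_card, Fintype.prod_bool]
  congr 2
  · rw [Fintype.card_subtype]; congr 1; ext x; simp
  · rw [Fintype.card_subtype]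
    have : (Finset.univ.filter fun x => decide (x ∈ Δ) = false) = Δᶜ := by ext x; simp
    rw [this, Finset.card_compl]

theorem prime_dvd_stabP {Δ : Finset α} {r : ℕ} (hr : r.Prime) (h : r ∣ Nat.card (stabP Δ)) :
    r = 2 ∨ r ≤ Δ.card ∨ r ≤ Fintype.card α - Δ.card := by
  rcases hr.eq_two_or_odd' with h2 | hodd
  · exact Or.inl h2
  right
  have : Fact r.Prime := ⟨hr⟩
  obtain ⟨⟨g, hg⟩, hord⟩ := exists_prime_orderOf_dvd_card' r h
  have hord' : orderOf g = r := by
    rw [← hord]; exact orderOf_injective (stabP Δ).subtype Subtype.val_injective ⟨g, hg⟩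
  have hg2 : g ^ 2 ∈ stabF Δ := by
    rw [pow_two]
    rcases hg with hg | hg
    · exact mul_mem (show g ∈ stabF Δ from hg) (show g ∈ stabF Δ from hg)
    · intro x; rw [Perm.mul_apply, hg, hg, not_not]
  have hcop : (2 : ℕ).Coprime (orderOf g) := by
    rw [hord']
    exact (Nat.Prime.coprime_iff_not_dvd Nat.prime_two).mpr
      (fun h => (Nat.not_even_iff_odd.mpr hodd) (even_iff_two_dvd.mpr h))
  obtain ⟨m, hm⟩ := exists_pow_eq_self_of_coprime hcop
  have hgF : g ∈ stabF Δ := by rw [← hm]; exact pow_mem hg2 m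
  have h3 : r ∣ Nat.card (stabF Δ) := by
    rw [← hord']
    exact (Subgroup.orderOf_dvd_natCard _ hgF)
  rw [card_stabF, hr.dvd_mul, hr.dvd_factorial, hr.dvd_factorial] at h3
  exact h3

/-- the class of `a` for the relation `swap a b ∈ H` -/
noncomputable def cls (H : Subgroup (Perm α)) (a : α) : Finset α :=
  letI := Classical.decPred (fun b : α => swap a b ∈ H)
  Finset.univ.filter (fun b => swap a b ∈ H)

theorem mem_cls {H : Subgroup (Perm α)} {a b : α} : b ∈ cls H a ↔ swap a b ∈ H := by
  simp [cls]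

theorem self_mem_cls {H : Subgroup (Perm α)} (a : α) : a ∈ cls H a := by
  rw [mem_cls, swap_self]; exact H.one_mem

theorem swap_trans {H : Subgroup (Perm α)} {a b c : α} (h1 : swap a b ∈ H) (h2 : swap b c ∈ H) :
    swap a c ∈ H := SubmonoidClass.swap_mem_trans H h1 h2

theorem cls_eq {H : Subgroup (Perm α)} {a b : α} (h : swap a b ∈ H) : cls H a = cls H b := by
  ext c
  rw [mem_cls, mem_cls]
  exact ⟨fun h1 => swap_trans (swap_comm a b ▸ h) h1, fun h1 => swap_trans h h1⟩

theorem cls_eq_of_mem {H : Subgroup (Perm α)} {a b : α} (h : b ∈ cls H a) : cls H b = cls H a :=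
  (cls_eq (mem_cls.mp h)).symm

theorem cls_eq_or_disjoint {H : Subgroup (Perm α)} {a b : α} {c : α} (h1 : c ∈ cls H a)
    (h2 : c ∈ cls H b) : cls H a = cls H b := by
  rw [← cls_eq_of_mem h1, cls_eq_of_mem h2]

theorem swap_conj_mem {H : Subgroup (Perm α)} {h : Perm α} (hh : h ∈ H) {a b : α} :
    swap (h a) (h b) ∈ H ↔ swap a b ∈ H := by
  have h1 : swap (h a) (h b) = h * swap a b * h⁻¹ := by
    rw [Equiv.swap_apply_apply]
  rw [h1]
  constructor
  · intro h2
    have h3 := mul_mem (mul_mem (inv_mem hh) h2) hh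
    have h4 : h⁻¹ * (h * swap a b * h⁻¹) * h = swap a b := by group
    rwa [h4] at h3
  · intro h2
    exact mul_mem (mul_mem hh h2) (inv_mem hh)

theorem mem_cls_apply {H : Subgroup (Perm α)} {h : Perm α} (hh : h ∈ H) {a b : α} :
    h b ∈ cls H (h a) ↔ b ∈ cls H a := by
  rw [mem_cls, mem_cls, swap_conj_mem hh]

theorem cls_apply {H : Subgroup (Perm α)} {h : Perm α} (hh : h ∈ H) (a : α) :
    cls H (h a) = (cls H a).map h.toEmbedding := by
  ext c
  rw [Finset.mem_map_equiv]
  have h1 := mem_cls_apply hh (a := a) (b := h.symm c)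
  rw [show h (h.symm c) = c from h.apply_symm_apply c] at h1
  exact h1

theorem card_cls_apply {H : Subgroup (Perm α)} {h : Perm α} (hh : h ∈ H) (a : α) :
    (cls H (h a)).card = (cls H a).card := by
  rw [cls_apply hh, Finset.card_map]

/-- the full symmetric group on a class is contained in `H` -/
theorem factorial_dvd_card {H : Subgroup (Perm α)} (a : α) :
    (cls H a).card.factorial ∣ Nat.card H := by
  have h1 : ((⊤ : Subgroup (Perm {b // b ∈ cls H a})).map Perm.ofSubtype) ≤ H := by
    rw [← Perm.closure_isSwap, Subgroup.map_le_iff_le_comap, Subgroup.closure_le]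
    rintro _ ⟨x, y, _, rfl⟩
    change Perm.ofSubtype (swap x y) ∈ H
    rw [Perm.ofSubtype_swap_eq]
    have h1 := mem_cls.mp x.2
    have h2 := mem_cls.mp y.2
    exact swap_trans (swap_comm a x ▸ h1) h2
  have h2 : Nat.card ((⊤ : Subgroup (Perm {b // b ∈ cls H a})).map Perm.ofSubtype) =
      (cls H a).card.factorial := by
    rw [Nat.card_congr ((⊤ : Subgroup (Perm {b // b ∈ cls H a})).equivMapOfInjective _
      Perm.ofSubtype_injective).toEquiv.symm, Subgroup.card_top, Nat.card_perm]
    congr 1
    rw [Nat.card_eq_fintype_card, Fintype.card_coe]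
  rw [← h2]
  exact Subgroup.card_dvd_of_le h1

theorem prime_mem_of_le_cls {H : Subgroup (Perm α)} {π : Set ℕ} (hH : Cfsg.IsPiHall π H) {a : α}
    {r : ℕ} (hr : r.Prime) (hra : r ≤ (cls H a).card) : r ∈ π :=
  hH.1 r hr (((hr.dvd_factorial).mpr hra).trans (factorial_dvd_card a))

/-- at most one singleton class -/
theorem few_singletons {H : Subgroup (Perm α)} (h2 : ¬ 2 ∣ H.index) {a b : α} (hab : a ≠ b) :
    2 ≤ (cls H a).card ∨ 2 ≤ (cls H b).card := by
  obtain ⟨ι, hι, hall⟩ := exists_cycles (A := ⊤) (H := H) (t := Fintype.card α / 2)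
    Nat.prime_two one_pos (by rwa [Subgroup.relIndex_top_right]) (fun _ => le_top)
    (by rw [pow_one]; exact Nat.div_mul_le_self _ _)
  have key : ∀ c, c ∈ Finset.univ.image ι → 2 ≤ (cls H c).card := by
    intro c hc
    rw [Finset.mem_image] at hc
    obtain ⟨⟨i, x⟩, _, hx⟩ := hc
    obtain ⟨h, hH, hc, hs⟩ := hall i
    have hcard : h.support.card = 2 := by
      rw [hs, Finset.card_image_of_injective, Finset.card_univ, Fintype.card_fin, pow_one]
      intro x y hxy
      exact (Prod.ext_iff.mp (hι hxy)).2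
    obtain ⟨u, v, huv, rfl⟩ := Perm.card_support_eq_two.mp hcard
    have hcs : c ∈ (swap u v).support := by rw [hs, ← hx]; simp
    rw [Perm.support_swap huv, Finset.mem_insert, Finset.mem_singleton] at hcs
    have : ({u, v} : Finset α) ⊆ cls H c := by
      intro w hw
      rw [Finset.mem_insert, Finset.mem_singleton] at hw
      rw [mem_cls]
      rcases hcs with rfl | rfl <;> rcases hw with rfl | rfl
      · rw [swap_self]; exact H.one_mem
      · exact hH
      · rw [swap_comm]; exact hH
      · rw [swap_self]; exact H.one_mem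
    calc 2 = ({u, v} : Finset α).card := (Finset.card_pair huv).symm
      _ ≤ _ := Finset.card_le_card this
  by_contra hcon
  push Not at hcon
  have ha : a ∉ Finset.univ.image ι := fun h => by have := key a h; omega
  have hb : b ∉ Finset.univ.image ι := fun h => by have := key b h; omega
  have hdis : Disjoint (Finset.univ.image ι) {a, b} := by
    rw [Finset.disjoint_right]
    intro c hc
    rw [Finset.mem_insert, Finset.mem_singleton] at hc
    rcases hc with rfl | rfl
    · exact ha
    · exact hb
  have h3 := Finset.card_le_univ (Finset.univ.image ι ∪ {a, b})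
  rw [Finset.card_union_of_disjoint hdis, Finset.card_image_of_injective _ hι, Finset.card_univ,
    Finset.card_pair hab, Fintype.card_prod, Fintype.card_fin, Fintype.card_fin, pow_one] at h3
  omega

/-- the cycle dichotomy -/
theorem cycle_dichotomy {H : Subgroup (Perm α)} {z : Perm α} (hzH : z ∈ H) (hz : z.IsCycle)
    {a : α} (ha : a ∈ z.support) :
    z.support ⊆ cls H a ∨
      (cls H a).card ∣ z.support.card ∧ (cls H a).card < z.support.card ∧
        (∀ b ∈ z.support, (cls H b).card = (cls H a).card) ∧ ∃ b, b ∈ z.support ∧ b ≠ a ∧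
          b ∉ cls H a := by
  have horb : ∀ b ∈ z.support, ∃ i : ℕ, (z ^ i) a = b := fun b hb =>
    hz.exists_pow_eq (Perm.mem_support.mp ha) (Perm.mem_support.mp hb)
  by_cases h1 : swap a (z a) ∈ H
  · left
    intro b hb
    obtain ⟨i, rfl⟩ := horb b hb
    have : ∀ i : ℕ, swap a ((z ^ i) a) ∈ H := by
      intro i
      induction i with
      | zero =>
        rw [pow_zero, Perm.one_apply, swap_self]
        exact H.one_mem
      | succ i ih =>
        rw [pow_succ', Perm.mul_apply]
        exact swap_trans h1 ((swap_conj_mem hzH).mpr ih)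
    exact mem_cls.mpr (this i)
  · right
    -- for all b in support : swap b (z b) ∉ H
    have h2 : ∀ b ∈ z.support, swap b (z b) ∉ H := by
      intro b hb hcon
      obtain ⟨i, rfl⟩ := horb b hb
      apply h1
      have h3 : z ((z ^ i) a) = (z ^ i) (z a) := by
        rw [← Perm.mul_apply, ← Perm.mul_apply, ← pow_succ', ← pow_succ]
      rw [h3] at hcon
      exact (swap_conj_mem (pow_mem hzH i)).mp hcon
    have h3 : ∀ b ∈ z.support, cls H b ⊆ z.support := by
      intro b hb c hc
      rw [Perm.mem_support]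
      intro hzc
      apply h2 b hb
      have h4 : swap b c ∈ H := mem_cls.mp hc
      have h5 : swap (z b) (z c) ∈ H := (swap_conj_mem hzH).mpr h4
      rw [hzc] at h5
      exact swap_trans h4 (swap_comm c (z b) ▸ h5)
    have h4 : ∀ b ∈ z.support, (cls H b).card = (cls H a).card := by
      intro b hb
      obtain ⟨i, rfl⟩ := horb b hb
      exact card_cls_apply (pow_mem hzH i) a
    refine ⟨?_, ?_, h4, ⟨z a, ?_, ?_, ?_⟩⟩
    · rw [Finset.card_eq_sum_card_image (fun b => cls H b) z.support]
      apply Finset.dvd_sum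
      intro C hC
      rw [Finset.mem_image] at hC
      obtain ⟨b, hb, rfl⟩ := hC
      have : (z.support.filter (fun x => cls H x = cls H b)) = cls H b := by
        ext x
        rw [Finset.mem_filter]
        constructor
        · rintro ⟨_, hx⟩
          rw [← hx]; exact self_mem_cls x
        · intro hx
          exact ⟨h3 b hb hx, cls_eq_of_mem hx⟩
      rw [this, h4 b hb]
    · apply Finset.card_lt_card
      rw [Finset.ssubset_iff_subset_ne]
      refine ⟨h3 a ha, ?_⟩
      intro heq
      have : z a ∈ cls H a := by rw [heq]; exact Perm.apply_mem_support.mpr ha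
      exact h1 (mem_cls.mp this)
    · exact Perm.apply_mem_support.mpr ha
    · exact Perm.mem_support.mp ha
    · intro hcon
      exact h1 (mem_cls.mp hcon)

/-- for a prime `r ∈ π`, `r ≤ n`, some class has size at least `r` -/
theorem exists_large_cls {H : Subgroup (Perm α)} (h2 : ¬ 2 ∣ H.index) {r : ℕ} (hr : r.Prime)
    (hri : ¬ r ∣ H.index) (hrn : r ≤ Fintype.card α) : ∃ a, r ≤ (cls H a).card := by
  obtain ⟨z, hzH, hzc, hzs⟩ := exists_cycle (A := ⊤) (H := H) hr one_pos
    (by rwa [Subgroup.relIndex_top_right]) (fun _ => le_top) (by rwa [pow_one])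
  rw [pow_one] at hzs
  obtain ⟨a, ha⟩ := Finset.card_pos.mp (by rw [hzs]; exact hr.pos : 0 < z.support.card)
  refine ⟨a, ?_⟩
  rcases cycle_dichotomy hzH hzc ha with h | ⟨h1, h3, h4, b, hb, hba, hbc⟩
  · rw [← hzs]; exact Finset.card_le_card h
  · exfalso
    rw [hzs] at h1 h3
    have h5 : (cls H a).card = 1 := by
      rcases (Nat.dvd_prime hr).mp h1 with h | h
      · exact h
      · omega
    have h6 := h4 b hb
    rcases few_singletons h2 hba with h7 | h7 <;> omega

end

end Cfsg.Agent.H164
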