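import Mathlib
import Cfsg.Agent.H164.HallSym

/-!
Main classification theorem for the Hall `π`-subgroups of `Sym(α)` when `2, 3 ∈ π` and some
prime `≤ |α|` is not in `π`: they are stabilisers of a point (`|α|` prime), of a 4-subset
(`|α| = 7`), or of a partition into two 4-subsets (`|α| = 8`).
-/

set_option autoImplicit false

namespace Cfsg.Agent.H164

open Equiv MulAction

section

universe u

variable {α : Type u} [Fintype α] [DecidableEq α]

theorem choose_dvd_index {H : Subgroup (Perm α)} {Δ : Finset α} (h : H ≤ stabF Δ) :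
    (Fintype.card α).choose Δ.card ∣ H.index := by
  refine dvd_trans ?_ (Subgroup.index_dvd_of_le h)
  have h1 := (stabF Δ).card_mul_index
  rw [card_stabF, Nat.card_perm, Nat.card_eq_fintype_card] at h1
  have h2 := Nat.choose_mul_factorial_mul_factorial (Finset.card_le_univ Δ)
  have h3 : (Fintype.card α).choose Δ.card *
      (Δ.card.factorial * (Fintype.card α - Δ.card).factorial) =
      (stabF Δ).index * (Δ.card.factorial * (Fintype.card α - Δ.card).factorial) := by
    rw [mul_comm (stabF Δ).index, h1, ← h2, mul_assoc]
  have h4 : 0 < Δ.card.factorial * (Fintype.card α - Δ.card).factorial :=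
    Nat.mul_pos (Nat.factorial_pos _) (Nat.factorial_pos _)
  rw [Nat.eq_of_mul_eq_mul_right h4 h3]

/-- the action of `H` on an invariant set of classes -/
@[reducible] def kappaAction (H : Subgroup (Perm α)) (κ : Finset (Finset α))
    (hκ : ∀ h ∈ H, ∀ C ∈ κ, C.map h.toEmbedding ∈ κ) : MulAction H {C // C ∈ κ} where
  smul h C := ⟨C.1.map (h : Perm α).toEmbedding, hκ _ h.2 _ C.2⟩
  one_smul C := by
    apply Subtype.ext
    ext x
    change x ∈ C.1.map (1 : Perm α).toEmbedding ↔ x ∈ C.1
    rw [Finset.mem_map_equiv]
    rfl
  mul_smul g h C := by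
    apply Subtype.ext
    change C.1.map ((g : Perm α) * h).toEmbedding =
      (C.1.map (h : Perm α).toEmbedding).map (g : Perm α).toEmbedding
    rw [Finset.map_map]
    rfl

theorem bell_dvd_index {H : Subgroup (Perm α)} {d : ℕ} (hd : 1 ≤ d) (Ω : Finset α)
    (hΩ : ∀ x, x ∈ Ω ↔ (cls H x).card = d) :
    ∃ m, Ω.card = m * d ∧ (Fintype.card α).choose Ω.card * Nat.uniformBell m d ∣ H.index := by
  classical
  set κ : Finset (Finset α) := Ω.image (cls H) with hκdef
  have hsub : ∀ x ∈ Ω, ∀ y ∈ cls H x, y ∈ Ω := by
    intro x hx y hy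
    rw [hΩ] at hx ⊢
    rw [cls_eq_of_mem hy, hx]
  have hfib : ∀ C ∈ κ, (Ω.filter (fun x => cls H x = C)) = C := by
    intro C hC
    rw [hκdef, Finset.mem_image] at hC
    obtain ⟨b, hb, rfl⟩ := hC
    ext x
    rw [Finset.mem_filter]
    constructor
    · rintro ⟨_, hx⟩
      rw [← hx]; exact self_mem_cls x
    · intro hx
      exact ⟨hsub b hb x hx, cls_eq_of_mem hx⟩
  have hcardC : ∀ C ∈ κ, C.card = d := by
    intro C hC
    rw [hκdef, Finset.mem_image] at hC
    obtain ⟨b, hb, rfl⟩ := hC
    exact (hΩ b).mp hb
  have hΩcard : Ω.card = κ.card * d := by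
    rw [Finset.card_eq_sum_card_image (cls H) Ω, ← hκdef,
      Finset.sum_congr rfl (fun C hC => by rw [hfib C hC, hcardC C hC]), Finset.sum_const,
      smul_eq_mul]
  refine ⟨κ.card, hΩcard, ?_⟩
  have hκinv : ∀ h ∈ H, ∀ C ∈ κ, C.map h.toEmbedding ∈ κ := by
    intro h hh C hC
    rw [hκdef, Finset.mem_image] at hC ⊢
    obtain ⟨b, hb, rfl⟩ := hC
    refine ⟨h b, ?_, cls_apply hh b⟩
    rw [hΩ] at hb ⊢
    rw [card_cls_apply hh, hb]
  let _inst := kappaAction H κ hκinv
  let φ : H →* Perm {C // C ∈ κ} := MulAction.toPermHom H {C // C ∈ κ}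
  -- the kernel
  let f : α → Finset α := fun x => if x ∈ Ω then cls H x else ∅
  have hker : Nat.card φ.ker ∣ (Fintype.card α - Ω.card).factorial * d.factorial ^ κ.card := by
    have h1 : Nat.card {g : Perm α // f ∘ g = f} =
        (Fintype.card α - Ω.card).factorial * d.factorial ^ κ.card := by
      rw [Nat.card_eq_fintype_card, DomMulAct.stabilizer_card']
      have h2 : Finset.univ.image f ⊆ insert ∅ κ := by
        intro C hC
        rw [Finset.mem_image] at hC
        obtain ⟨x, _, rfl⟩ := hC
        simp only [f]
        split_ifs with hx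
        · exact Finset.mem_insert_of_mem (Finset.mem_image_of_mem _ hx)
        · exact Finset.mem_insert_self _ _
      rw [Finset.prod_subset h2]
      · have hempty : (∅ : Finset α) ∉ κ := by
          intro h
          have := hcardC _ h
          rw [Finset.card_empty] at this
          omega
        rw [Finset.prod_insert hempty]
        congr 1
        · congr 1
          rw [Fintype.card_subtype, ← Finset.card_compl]
          congr 1
          ext x
          simp only [f, Finset.mem_filter, Finset.mem_univ, true_and, Finset.mem_compl]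
          constructor
          · intro hx hxΩ
            rw [if_pos hxΩ] at hx
            have := self_mem_cls (H := H) x
            rw [hx] at this
            exact absurd this (Finset.notMem_empty x)
          · intro hx
            rw [if_neg hx]
        · rw [Finset.prod_congr rfl (g := fun _ => d.factorial), Finset.prod_const]
          intro C hC
          congr 1
          rw [Fintype.card_subtype, ← hcardC C hC]
          congr 1
          refine Eq.trans ?_ (hfib C hC)
          ext x
          simp only [f, Finset.mem_filter, Finset.mem_univ, true_and]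
          constructor
          · intro hx
            split_ifs at hx with hxΩ
            · exact ⟨hxΩ, hx⟩
            · exfalso; rw [← hx] at hC; exact hempty hC
          · rintro ⟨hx, rfl⟩
            rw [if_pos hx]
      · intro C _ hC
        have : Fintype.card {a // f a = C} = 0 := by
          rw [Fintype.card_eq_zero_iff]
          refine ⟨fun x => hC ?_⟩
          rw [← x.2]
          exact Finset.mem_image_of_mem _ (Finset.mem_univ _)
        rw [this, Nat.factorial_zero]
    rw [← h1]
    let S : Subgroup (Perm α) :=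
      { carrier := {g | f ∘ g = f}
        one_mem' := rfl
        mul_mem' := by
          intro g h hg hh
          change f ∘ (g * h) = f
          rw [Perm.coe_mul, ← Function.comp_assoc, show f ∘ g = f from hg]
          exact hh
        inv_mem' := by
          intro g hg
          change f ∘ (g⁻¹ : Perm α) = f
          have hg' : f ∘ g = f := hg
          nth_rewrite 1 [← hg']
          ext x : 1
          simp only [Function.comp_apply]
          rw [show g (g⁻¹ x) = x from g.apply_symm_apply x] }
    have h2 : (φ.ker.map H.subtype) ≤ S := by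
      rintro _ ⟨h, hh, rfl⟩
      change f ∘ (h : Perm α) = f
      ext x : 1
      simp only [Function.comp_apply, f]
      have hxΩ : (h : Perm α) x ∈ Ω ↔ x ∈ Ω := by
        rw [hΩ, hΩ, card_cls_apply h.2]
      by_cases hx : x ∈ Ω
      · rw [if_pos hx, if_pos (hxΩ.mpr hx)]
        have h3 : φ h = 1 := hh
        have h4 := congrArg (fun σ : Perm {C // C ∈ κ} =>
          ((σ ⟨cls H x, Finset.mem_image_of_mem _ hx⟩ : {C // C ∈ κ}) : Finset α)) h3
        have h5 : (cls H x).map (h : Perm α).toEmbedding = cls H x := h4
        rw [cls_apply h.2, h5]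
      · rw [if_neg hx, if_neg (fun h => hx (hxΩ.mp h))]
    have h3 : Nat.card (φ.ker.map H.subtype) = Nat.card φ.ker :=
      Nat.card_congr (φ.ker.equivMapOfInjective _ H.subtype_injective).toEquiv.symm
    rw [← h3]
    exact Subgroup.card_dvd_of_le h2
  have hrange : Nat.card φ.range ∣ κ.card.factorial := by
    have := Subgroup.card_subgroup_dvd_card φ.range
    rw [Nat.card_perm, Nat.card_eq_fintype_card (α := {C // C ∈ κ}), Fintype.card_coe] at this
    exact this
  have hH : Nat.card H = Nat.card φ.ker * Nat.card φ.range := by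
    rw [← Subgroup.index_ker, Subgroup.card_mul_index]
  have hdvd : Nat.card H ∣ ((Fintype.card α - Ω.card).factorial * d.factorial ^ κ.card) *
      κ.card.factorial := by
    rw [hH]; exact Nat.mul_dvd_mul hker hrange
  obtain ⟨y, hy⟩ := hdvd
  have h1 := H.card_mul_index
  rw [Nat.card_perm, Nat.card_eq_fintype_card (α := α),
    ← Nat.choose_mul_factorial_mul_factorial (Finset.card_le_univ Ω)] at h1
  have h2 : Ω.card.factorial = Nat.uniformBell κ.card d * d.factorial ^ κ.card *
      κ.card.factorial := by
    rw [hΩcard, Nat.uniformBell_mul_eq _ (by omega)]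
  refine ⟨y, ?_⟩
  have hpos : 0 < Nat.card H := Nat.card_pos
  apply Nat.eq_of_mul_eq_mul_left hpos
  rw [h1, h2]
  calc _ = (Fintype.card α).choose Ω.card * Nat.uniformBell κ.card d *
      (((Fintype.card α - Ω.card).factorial * d.factorial ^ κ.card) * κ.card.factorial) := by ring
    _ = _ := by rw [hy]; ring

/-- The classification. -/
theorem hall_sym {H : Subgroup (Perm α)} {π : Set ℕ} (hH : Cfsg.IsPiHall π H) (h2 : 2 ∈ π)
    (h3 : 3 ∈ π) {l : ℕ} (hl : l.Prime) (hln : l ≤ Fintype.card α) (hlπ : l ∉ π) :
    ∃ Δ : Finset α, H = stabP Δ ∧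
      ((Δ.card + 1 = Fintype.card α ∧ (Fintype.card α).Prime ∧ 5 ≤ Fintype.card α ∧
          (∀ r : ℕ, r.Prime → r < Fintype.card α → r ∈ π) ∧ Fintype.card α ∉ π) ∨
        (Δ.card = 4 ∧ (Fintype.card α = 7 ∨ Fintype.card α = 8) ∧ 5 ∉ π ∧ 7 ∉ π)) := by
  classical
  set n := Fintype.card α with hn
  have h2i : ¬ 2 ∣ H.index := hH.2 2 Nat.prime_two h2
  have hl5 : 5 ≤ l := by
    have h4 := hl.two_le
    by_contra hcon
    have : l = 2 ∨ l = 3 ∨ l = 4 := by omega
    rcases this with rfl | rfl | rfl
    · exact hlπ h2
    · exact hlπ h3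
    · exact absurd hl (by decide)
  set k := Nat.log 2 n with hk
  have hk1 : 2 ^ k ≤ n := Nat.pow_log_le_self 2 (by omega)
  have hk2 : n < 2 ^ (k + 1) := Nat.lt_pow_succ_log_self (by norm_num) n
  have hk0 : 0 < k := Nat.log_pos (by norm_num) (by omega)
  obtain ⟨z, hzH, hzc, hzs⟩ := exists_cycle (A := ⊤) (H := H) (k := k) Nat.prime_two hk0
    (by rwa [Subgroup.relIndex_top_right]) (fun _ => le_top) hk1
  have hkpos : 0 < 2 ^ k := pow_pos (by norm_num) k
  obtain ⟨a, ha⟩ := Finset.card_pos.mp (by rw [hzs]; exact hkpos : 0 < z.support.card)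
  have hlt : ∀ x, (cls H x).card < l := by
    intro x
    by_contra hcon
    exact hlπ (prime_mem_of_le_cls hH hl (not_lt.mp hcon))
  rcases cycle_dichotomy hzH hzc ha with hA | ⟨hB1, hB2, hB3, b, hb, hba, hbc⟩
  · -- Case A
    set Δ := cls H a with hΔ
    have hΔk : 2 ^ k ≤ Δ.card := by rw [← hzs]; exact Finset.card_le_card hA
    have hΔn : n < 2 * Δ.card := by
      rw [pow_succ] at hk2; omega
    have hΔl : Δ.card < l := hlt a
    have hΔle : Δ.card ≤ n := Finset.card_le_univ Δ
    have hHΔ : H ≤ stabF Δ := by
      intro h hh x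
      have h4 : cls H (h a) = Δ := by
        have h5 : ∃ c, c ∈ cls H (h a) ∧ c ∈ Δ := by
          by_contra hcon
          push Not at hcon
          have h6 : Disjoint (cls H (h a)) Δ := Finset.disjoint_left.mpr hcon
          have h7 := Finset.card_le_univ (cls H (h a) ∪ Δ)
          rw [Finset.card_union_of_disjoint h6, card_cls_apply hh, ← hΔ, ← hn] at h7
          omega
        obtain ⟨c, hc1, hc2⟩ := h5
        exact cls_eq_or_disjoint hc1 hc2
      have h5 := mem_cls_apply hh (a := a) (b := x)
      rw [h4] at h5
      exact h5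
    have hidx := choose_dvd_index hHΔ
    rw [← hn] at hidx
    obtain ⟨b, hb⟩ : ∃ b, n = Δ.card + b := ⟨n - Δ.card, by omega⟩
    have hnc : ∀ r : ℕ, r.Prime → r ≤ Δ.card → NoCarry r Δ.card b := by
      intro r hr hrle
      apply noCarry_of_not_dvd hr
      intro hdvd
      have h4 : (Δ.card + b).choose b = n.choose Δ.card := by
        rw [hb, Nat.choose_symm_add]
      rw [h4] at hdvd
      exact hH.2 r hr (prime_mem_of_le_cls hH hr hrle) (hdvd.trans hidx)
    have heq : H = stabP Δ := by
      apply hall_eq_of_le hH _ (hHΔ.trans (stabF_le_stabP Δ))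
      intro r hr hrd
      rcases prime_dvd_stabP hr hrd with h4 | h4 | h4
      · rw [h4]; exact h2
      · exact prime_mem_of_le_cls hH hr h4
      · apply prime_mem_of_le_cls hH hr (a := a)
        rw [← hΔ]
        omega
    refine ⟨Δ, heq, ?_⟩
    rcases Nat.lt_or_ge b 2 with hb2 | hb2
    · left
      have hb1 : b = 1 := by omega
      have hnl : n = l := by omega
      refine ⟨by omega, by rw [hnl]; exact hl, by omega, ?_, by rw [hnl]; exact hlπ⟩
      intro r hr hrn
      exact prime_mem_of_le_cls hH hr (a := a) (by rw [← hΔ]; omega)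
    · right
      obtain ⟨h4, h5⟩ := four_three hb2 (by omega) hnc
      have hn7 : n = 7 := by omega
      have hlarge : ∀ r, r.Prime → 5 ≤ r → r ≤ 7 → r ∉ π := by
        intro r hr hr5 hr7 hrπ
        obtain ⟨c, hc⟩ := exists_large_cls h2i hr (hH.2 r hr hrπ) (by omega)
        by_cases hcd : ∃ e, e ∈ cls H c ∧ e ∈ Δ
        · obtain ⟨e, he1, he2⟩ := hcd
          rw [cls_eq_or_disjoint he1 he2, ← hΔ] at hc
          omega
        · push Not at hcd
          have h6 : Disjoint (cls H c) Δ := Finset.disjoint_left.mpr hcd
          have h7 := Finset.card_le_univ (cls H c ∪ Δ)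
          rw [Finset.card_union_of_disjoint h6, ← hn] at h7
          omega
      exact ⟨h4, Or.inl hn7, hlarge 5 (by norm_num) (by norm_num) (by norm_num),
        hlarge 7 (by norm_num) (by norm_num) (by norm_num)⟩
  · -- Case B
    set d := (cls H a).card with hd
    rw [hzs] at hB1 hB2
    have hd1 : 1 ≤ d := Finset.card_pos.mpr ⟨a, self_mem_cls a⟩
    have hd2 : 2 ≤ d := by
      have h4 := hB3 b hb
      rcases few_singletons h2i hba with h5 | h5 <;> omega
    set Ω : Finset α := Finset.univ.filter (fun x => (cls H x).card = d) with hΩ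
    have hΩmem : ∀ x, x ∈ Ω ↔ (cls H x).card = d := by intro x; simp [hΩ]
    have hΩk : 2 ^ k ≤ Ω.card := by
      rw [← hzs]
      apply Finset.card_le_card
      intro x hx
      rw [hΩmem]
      exact hB3 x hx
    obtain ⟨m, hm, hdvd⟩ := bell_dvd_index hd1 Ω hΩmem
    rw [← hn] at hdvd
    have hΩn : Ω.card ≤ n := Finset.card_le_univ Ω
    have hm2 : 2 ≤ m := by
      by_contra hcon
      have : m = 0 ∨ m = 1 := by omega
      rcases this with rfl | rfl <;> omega
    have hbell : ∀ p < m, (p * d + d - 1).choose (d - 1) ∣ H.index := by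
      intro p hp
      refine dvd_trans ?_ ((Nat.dvd_mul_left _ _).trans hdvd)
      rw [Nat.uniformBell_eq]
      exact Finset.dvd_prod_of_mem _ (Finset.mem_range.mpr hp)
    have hd3 : d = 4 := by
      have h4 := hbell 1 (by omega)
      rw [one_mul] at h4
      have hne2 : d ≠ 2 := by
        intro h5
        rw [h5] at h4
        exact hH.2 3 Nat.prime_three h3 (by simpa using h4)
      have h5 : ∀ r : ℕ, r.Prime → r ≤ d → NoCarry r d (d - 1) := by
        intro r hr hrd
        apply noCarry_of_not_dvd hr
        intro hcon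
        have h6 : d + (d - 1) = d + d - 1 := by omega
        rw [h6] at hcon
        exact hH.2 r hr (prime_mem_of_le_cls hH hr (a := a) hrd) (hcon.trans h4)
      exact (four_three (by omega) (by omega) h5).1
    have hm3 : m = 2 := by
      by_contra hcon
      have h4 := hbell 2 (by omega)
      rw [hd3] at h4
      apply hH.2 3 Nat.prime_three h3
      refine dvd_trans ?_ h4
      decide
    have hΩ8 : Ω.card = 8 := by rw [hm, hm3, hd3]
    have hk3 : k ≤ 3 := by
      by_contra hcon
      have : 2 ^ 4 ≤ 2 ^ k := Nat.pow_le_pow_right (by norm_num) (by omega)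
      omega
    have hn16 : n < 16 := by
      have : 2 ^ (k + 1) ≤ 2 ^ 4 := Nat.pow_le_pow_right (by norm_num) (by omega)
      omega
    have hn8 : n = 8 := by
      have h4 : ¬ 3 ∣ n.choose 8 := by
        intro hcon
        apply hH.2 3 Nat.prime_three h3
        refine hcon.trans (dvd_trans ?_ hdvd)
        rw [hΩ8]
        exact Nat.dvd_mul_right _ _
      have hn8' : 8 ≤ n := by omega
      clear_value n
      interval_cases n
      · rfl
      all_goals exact absurd (by decide) h4
    have hall : ∀ x, (cls H x).card = 4 := by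
      have h4 : Ω = Finset.univ := by
        apply Finset.eq_univ_of_card
        rw [hΩ8, ← hn, hn8]
      intro x
      rw [← hd3, ← hΩmem, h4]
      exact Finset.mem_univ x
    have hHP : H ≤ stabP (cls H a) := by
      intro h hh
      by_cases hha : h a ∈ cls H a
      · left
        intro x
        have h5 := mem_cls_apply hh (a := a) (b := x)
        rw [cls_eq_of_mem hha] at h5
        exact h5
      · right
        have h4 : cls H (h a) = (cls H a)ᶜ := by
          apply Finset.eq_of_subset_of_card_le
          · intro c hc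
            rw [Finset.mem_compl]
            intro hc2
            apply hha
            rw [← cls_eq_or_disjoint hc hc2]
            exact self_mem_cls _
          · rw [Finset.card_compl, hall, hall, ← hn, hn8]
        intro x
        have h5 := mem_cls_apply hh (a := a) (b := x)
        rw [h4, Finset.mem_compl] at h5
        tauto
    have heq : H = stabP (cls H a) := by
      apply hall_eq_of_le hH _ hHP
      intro r hr hrd
      rcases prime_dvd_stabP hr hrd with h4 | h4 | h4
      · rw [h4]; exact h2
      · exact prime_mem_of_le_cls hH hr h4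
      · apply prime_mem_of_le_cls hH hr (a := a)
        rw [← hn, hn8, hall] at h4
        rw [hall]
        omega
    refine ⟨cls H a, heq, Or.inr ⟨hall a, Or.inr hn8, ?_, ?_⟩⟩
    · intro h5
      obtain ⟨c, hc⟩ := exists_large_cls h2i (r := 5) (by norm_num) (hH.2 5 (by norm_num) h5)
        (by omega)
      rw [hall c] at hc
      omega
    · intro h5
      obtain ⟨c, hc⟩ := exists_large_cls h2i (r := 7) (by norm_num) (hH.2 7 (by norm_num) h5)
        (by omega)
      rw [hall c] at hc
      omega

end

end Cfsg.Agent.H164
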