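import Mathlib
import Cfsg.Agent.H164.HallSymMain

/-!
Hall `π`-subgroups of alternating groups with `2, 3 ∈ π` extend to Hall `π`-subgroups of the
symmetric group.
-/

set_option autoImplicit false

namespace Cfsg.Agent.H164

open Equiv MulAction

universe u

theorem sup_pi {G : Type u} [Group G] [Finite G] {π : Set ℕ} {H N : Subgroup G}
    (hle : H ≤ Subgroup.normalizer (N : Set G)) (hH : Cfsg.IsPiSubgroup π H)
    (hN : Cfsg.IsPiSubgroup π N) : Cfsg.IsPiSubgroup π (H ⊔ N) := by
  intro r hr hrd
  have h1 : Nat.card (H ⊔ N : Subgroup G) = Nat.card N * N.relIndex (H ⊔ N) := by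
    have h2 := (N.subgroupOf (H ⊔ N)).card_mul_index
    rw [← h2]
    congr 1
    exact Nat.card_congr (Subgroup.subgroupOfEquivOfLe (le_sup_right : N ≤ H ⊔ N)).toEquiv
  have h2 : N.relIndex (H ⊔ N) = N.relIndex H := by
    have := Subgroup.normal_subgroupOf_of_le_normalizer hle
    have := Subgroup.normal_subgroupOf_sup_of_le_normalizer hle
    exact Nat.card_congr
      (QuotientGroup.quotientInfEquivProdNormalizerQuotient H N hle).toEquiv.symm
  rw [h1, h2, hr.dvd_mul] at hrd
  rcases hrd with h | h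
  · exact hN r hr h
  · exact hH r hr (h.trans (Subgroup.relIndex_dvd_card _ _))

section

variable {α : Type u} [Fintype α] [DecidableEq α]

/-- the 3-cycle `a → b → c → a` -/
def cyc (a b c : α) : Perm α := swap a b * swap b c

theorem cyc_rot {a b c : α} (hab : a ≠ b) (hbc : b ≠ c) (hac : a ≠ c) :
    cyc b c a = cyc a b c := by
  ext x
  simp only [cyc, Perm.mul_apply, swap_apply_def]
  split_ifs <;> simp_all

theorem cyc_inv (a b c : α) : (cyc a b c)⁻¹ = cyc c b a := by
  rw [cyc, cyc, mul_inv_rev, swap_inv, swap_inv, swap_comm b c, swap_comm a b]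

theorem cyc_conj (h : Perm α) (a b c : α) : h * cyc a b c * h⁻¹ = cyc (h a) (h b) (h c) := by
  rw [cyc, cyc, swap_apply_apply, swap_apply_apply]
  group

theorem cyc_apply_left {a b c : α} (hab : a ≠ b) (hac : a ≠ c) : cyc a b c a = b := by
  rw [cyc, Perm.mul_apply, swap_apply_of_ne_of_ne hab hac, swap_apply_left]

theorem cyc_apply_mid {a b c : α} (hac : a ≠ c) (hbc : b ≠ c) : cyc a b c b = c := by
  rw [cyc, Perm.mul_apply, swap_apply_left, swap_apply_of_ne_of_ne hac.symm hbc.symm]

theorem cyc_apply_right (a b c : α) : cyc a b c c = a := by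
  rw [cyc, Perm.mul_apply, swap_apply_right, swap_apply_right]

theorem cyc_apply_of_ne {a b c x : α} (h1 : x ≠ a) (h2 : x ≠ b) (h3 : x ≠ c) :
    cyc a b c x = x := by
  rw [cyc, Perm.mul_apply, swap_apply_of_ne_of_ne h2 h3, swap_apply_of_ne_of_ne h1 h2]

theorem sign_cyc {a b c : α} (hab : a ≠ b) (hbc : b ≠ c) : Perm.sign (cyc a b c) = 1 := by
  rw [cyc, map_mul, Perm.sign_swap hab, Perm.sign_swap hbc]
  rfl

/-- `K` contains the 3-cycle `(a b c)` -/
structure T3 (K : Subgroup (Perm α)) (a b c : α) : Prop where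
  ab : a ≠ b
  bc : b ≠ c
  ac : a ≠ c
  mem : cyc a b c ∈ K

variable {K : Subgroup (Perm α)}

theorem T3.rot {a b c : α} (h : T3 K a b c) : T3 K b c a :=
  ⟨h.bc, h.ac.symm, h.ab.symm, by rw [cyc_rot h.ab h.bc h.ac]; exact h.mem⟩

theorem T3.rev {a b c : α} (h : T3 K a b c) : T3 K c b a :=
  ⟨h.bc.symm, h.ab.symm, h.ac.symm, by rw [← cyc_inv]; exact inv_mem h.mem⟩

theorem T3.swap12 {a b c : α} (h : T3 K a b c) : T3 K b a c := h.rot.rot.rev.rot.rot.rot
theorem T3.swap23 {a b c : α} (h : T3 K a b c) : T3 K a c b := h.rot.rev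

theorem T3.conj {a b c : α} (h : T3 K a b c) {g : Perm α} (hg : g ∈ K) :
    T3 K (g a) (g b) (g c) :=
  ⟨fun h' => h.ab (g.injective h'), fun h' => h.bc (g.injective h'),
    fun h' => h.ac (g.injective h'), by
      rw [← cyc_conj]; exact mul_mem (mul_mem hg h.mem) (inv_mem hg)⟩

theorem T3.two {a b c d : α} (h1 : T3 K a b c) (h2 : T3 K a b d) (hcd : c ≠ d) :
    T3 K b c d := by
  have h := h2.conj h1.mem
  rwa [cyc_apply_left h1.ab h1.ac, cyc_apply_mid h1.ac h1.bc,
    cyc_apply_of_ne h2.ac.symm h2.bc.symm hcd.symm] at h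

theorem T3.two' {a b c d : α} (h1 : T3 K a b c) (h2 : T3 K a b d) (hcd : c ≠ d) :
    T3 K a c d := T3.two h1.swap12 h2.swap12 hcd

theorem T3.three {a b c d e : α} (h1 : T3 K a b c) (h2 : T3 K a d e) (hbd : b ≠ d) (hbe : b ≠ e)
    (hcd : c ≠ d) (hce : c ≠ e) : T3 K d b c := by
  have h := h1.conj h2.mem
  rwa [cyc_apply_left h2.ab h2.ac, cyc_apply_of_ne h1.ab.symm hbd hbe,
    cyc_apply_of_ne h1.ac.symm hcd hce] at h

/-- the relation -/
def R3 (K : Subgroup (Perm α)) (a b : α) : Prop := a = b ∨ ∃ c, T3 K a b c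

theorem R3.refl (a : α) : R3 K a a := Or.inl rfl

theorem R3.symm {a b : α} (h : R3 K a b) : R3 K b a := by
  rcases h with rfl | ⟨c, hc⟩
  · exact Or.inl rfl
  · exact Or.inr ⟨c, hc.swap12⟩

/-- from `a ≈ b`, `a ≈ c` with `a, b, c` distinct get the 3-cycle `(a b c)` -/
theorem R3.full {a b c : α} (h1 : R3 K a b) (h2 : R3 K a c) (hab : a ≠ b) (hac : a ≠ c)
    (hbc : b ≠ c) : T3 K a b c := by
  rcases h1 with h1 | ⟨x, h1⟩
  · exact absurd h1 hab
  rcases h2 with h2 | ⟨y, h2⟩
  · exact absurd h2 hac
  by_cases hxc : x = c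
  · subst hxc; exact h1
  by_cases hyb : y = b
  · subst hyb; exact h2.swap23
  by_cases hxy : x = y
  · subst hxy
    exact T3.two' h1.swap23 h2.swap23 hbc
  · -- a b x, a c y
    have h3 : T3 K c b x := T3.three h1 h2 hbc (fun h => hyb h.symm) hxc hxy
    -- T b x a , T b x c
    have h4 : T3 K b x a := h1.rot
    have h5 : T3 K b x c := h3.rot
    exact (T3.two' h4 h5 hac).swap12

theorem R3.trans {a b c : α} (h1 : R3 K a b) (h2 : R3 K b c) : R3 K a c := by
  by_cases hab : a = b
  · subst hab; exact h2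
  by_cases hbc : b = c
  · subst hbc; exact h1
  by_cases hac : a = c
  · subst hac; exact R3.refl a
  · have h3 : T3 K b a c := R3.full h1.symm h2 (fun h => hab h.symm) hbc hac
    exact Or.inr ⟨b, h3.rot⟩

theorem R3.conj {a b : α} (h : R3 K a b) {g : Perm α} (hg : g ∈ K) : R3 K (g a) (g b) := by
  rcases h with rfl | ⟨c, hc⟩
  · exact Or.inl rfl
  · exact Or.inr ⟨g c, hc.conj hg⟩

/-- equivalence classes -/
noncomputable def cls3 (K : Subgroup (Perm α)) (a : α) : Finset α :=
  letI := Classical.decPred (fun b : α => R3 K a b)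
  Finset.univ.filter (fun b => R3 K a b)

theorem mem_cls3 {a b : α} : b ∈ cls3 K a ↔ R3 K a b := by simp [cls3]

theorem cls3_eq_iff {a b : α} : cls3 K a = cls3 K b ↔ R3 K a b := by
  constructor
  · intro h
    have : b ∈ cls3 K a := by rw [h, mem_cls3]; exact R3.refl b
    exact mem_cls3.mp this
  · intro h
    ext c
    rw [mem_cls3, mem_cls3]
    exact ⟨fun h1 => h.symm.trans h1, fun h1 => h.trans h1⟩

/-- the alternating group on a class is contained in `K` -/
theorem odd_prime_dvd_card {a : α} {r : ℕ} (hr : r.Prime) (hr2 : r ≠ 2)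
    (hra : r ≤ (cls3 K a).card) : r ∣ Nat.card K := by
  classical
  have h1 : (alternatingGroup {b // b ∈ cls3 K a}).map Perm.ofSubtype ≤ K := by
    rw [← Perm.closure_three_cycles_eq_alternating, Subgroup.map_le_iff_le_comap,
      Subgroup.closure_le]
    intro σ hσ
    change Perm.ofSubtype σ ∈ K
    obtain ⟨x, hx⟩ : ∃ x, x ∈ σ.support := by
      have := Perm.IsThreeCycle.card_support hσ
      exact Finset.card_pos.mp (by omega)
    have h2 := (Perm.IsThreeCycle.eq_swap_mul_swap_iff_mem_support hσ).mpr hx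
    have h3 := (Perm.IsThreeCycle.nodup_iff_mem_support hσ).mpr hx
    have h4 : Perm.ofSubtype σ = cyc (x : α) (σ x : α) (σ (σ x) : α) := by
      conv_lhs => rw [h2]
      rw [map_mul, Perm.ofSubtype_swap_eq, Perm.ofSubtype_swap_eq, cyc]
    rw [h4]
    simp only [List.nodup_cons, List.mem_cons, List.not_mem_nil, or_false, not_or,
      not_false_eq_true, List.nodup_nil, and_true] at h3
    obtain ⟨⟨h5, h6⟩, h7⟩ := h3
    have hx1 : R3 K a x := mem_cls3.mp x.2
    have hx2 : R3 K a (σ x) := mem_cls3.mp (σ x).2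
    have hx3 : R3 K a (σ (σ x)) := mem_cls3.mp (σ (σ x)).2
    exact (R3.full (hx1.symm.trans hx2) (hx1.symm.trans hx3) (fun h => h5 (Subtype.ext h))
      (fun h => h6 (Subtype.ext h)) (fun h => h7 (Subtype.ext h))).mem
  have h2 : Nat.card ((alternatingGroup {b // b ∈ cls3 K a}).map Perm.ofSubtype) =
      Nat.card (alternatingGroup {b // b ∈ cls3 K a}) :=
    Nat.card_congr ((alternatingGroup {b // b ∈ cls3 K a}).equivMapOfInjective _
      Perm.ofSubtype_injective).toEquiv.symm
  have h3 : r ∣ 2 * Nat.card (alternatingGroup {b // b ∈ cls3 K a}) := by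
    have : Nontrivial {b // b ∈ cls3 K a} := by
      rw [← Fintype.one_lt_card_iff_nontrivial, Fintype.card_coe]
      have := hr.two_le
      omega
    rw [two_mul_nat_card_alternatingGroup, Nat.card_perm, hr.dvd_factorial,
      Nat.card_eq_fintype_card, Fintype.card_coe]
    exact hra
  have h4 : r ∣ Nat.card (alternatingGroup {b // b ∈ cls3 K a}) := by
    rcases hr.dvd_mul.mp h3 with h | h
    · exfalso
      exact hr2 ((Nat.prime_dvd_prime_iff_eq hr Nat.prime_two).mp h)
    · exact h
  rw [← h2] at h4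
  exact h4.trans (Subgroup.card_dvd_of_le h1)

/-- even permutations preserving the classes -/
def DD (K : Subgroup (Perm α)) : Subgroup (Perm α) where
  carrier := {g | Perm.sign g = 1 ∧ ∀ x, R3 K x (g x)}
  one_mem' := ⟨map_one _, fun x => R3.refl x⟩
  mul_mem' := by
    rintro g h ⟨hg1, hg2⟩ ⟨hh1, hh2⟩
    exact ⟨by rw [map_mul, hg1, hh1, one_mul], fun x => (hh2 x).trans (hg2 (h x))⟩
  inv_mem' := by
    rintro g ⟨hg1, hg2⟩
    refine ⟨by rw [map_inv, hg1, inv_one], fun x => ?_⟩
    have h1 := (hg2 (g⁻¹ x)).symm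
    rwa [show g (g⁻¹ x) = x from g.apply_symm_apply x] at h1

theorem DD_pi {π : Set ℕ} (h2 : 2 ∈ π) (hK : Cfsg.IsPiSubgroup π K) :
    Cfsg.IsPiSubgroup π (DD K) := by
  classical
  intro r hr hrd
  by_cases hr2 : r = 2
  · rw [hr2]; exact h2
  let f : α → Finset α := cls3 K
  have h3 : Nat.card (DD K) ∣ Fintype.card {g : Perm α // f ∘ g = f} := by
    let S : Subgroup (Perm α) :=
      { carrier := {g | f ∘ g = f}
        one_mem' := rfl
        mul_mem' := by
          intro g h hg hh
          change f ∘ (g * h) = f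
          rw [Perm.coe_mul, ← Function.comp_assoc, show f ∘ g = f from hg]
          exact hh
        inv_mem' := by
          intro g hg
          change f ∘ (g⁻¹ : Perm α) = f
          have hg' : f ∘ g = f := hg
          nth_rewrite 1 [← hg']
          ext x : 1
          simp only [Function.comp_apply]
          rw [show g (g⁻¹ x) = x from g.apply_symm_apply x] }
    have h4 : DD K ≤ S := by
      rintro g ⟨_, hg⟩
      change f ∘ g = f
      ext x : 1
      exact cls3_eq_iff.mpr (hg x).symm
    have h5 := Subgroup.card_dvd_of_le h4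
    rw [← Nat.card_eq_fintype_card]
    exact h5
  have h4 := hrd.trans h3
  rw [DomMulAct.stabilizer_card', hr.prime.dvd_finsetProd_iff] at h4
  obtain ⟨C, hC, hrC⟩ := h4
  rw [Finset.mem_image] at hC
  obtain ⟨a, _, rfl⟩ := hC
  rw [hr.dvd_factorial] at hrC
  have h5 : Fintype.card {b // f b = f a} = (cls3 K a).card := by
    rw [Fintype.card_subtype]
    congr 1
    ext b
    rw [Finset.mem_filter, mem_cls3]
    simp only [Finset.mem_univ, true_and, f]
    rw [cls3_eq_iff]
    exact ⟨fun h => h.symm, fun h => h.symm⟩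
  rw [h5] at hrC
  exact hK r hr (odd_prime_dvd_card hr hr2 hrC)

/-- `K` normalises `DD K` -/
theorem le_normalizer_DD : K ≤ Subgroup.normalizer (DD K : Set (Perm α)) := by
  have key : ∀ k ∈ K, ∀ d ∈ DD K, k * d * k⁻¹ ∈ DD K := by
    rintro k hk d ⟨hd1, hd2⟩
    refine ⟨?_, fun x => ?_⟩
    · rw [map_mul, map_mul, hd1, mul_one, map_inv, mul_inv_cancel]
    · have h1 := (hd2 (k⁻¹ x)).conj hk
      rwa [show k (k⁻¹ x) = x from k.apply_symm_apply x] at h1
  intro k hk
  rw [Subgroup.mem_normalizer_iff]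
  intro d
  constructor
  · intro hd; exact key k hk d hd
  · intro hd
    have h1 := key k⁻¹ (inv_mem hk) _ hd
    have h2 : k⁻¹ * (k * d * k⁻¹) * k⁻¹⁻¹ = d := by group
    rwa [h2] at h1

/-- Hall subgroups of the alternating group, as subgroups of the symmetric group -/
structure HallAltSub (π : Set ℕ) (K : Subgroup (Perm α)) : Prop where
  le : K ≤ alternatingGroup α
  pi : Cfsg.IsPiSubgroup π K
  idx : ∀ p : ℕ, p.Prime → p ∈ π → ¬ p ∣ K.relIndex (alternatingGroup α)

theorem HallAltSub.eq_of_le {π : Set ℕ} (hK : HallAltSub π K) {L : Subgroup (Perm α)}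
    (hL : Cfsg.IsPiSubgroup π L) (hle : K ≤ L) (hLA : L ≤ alternatingGroup α) : K = L := by
  have h1 : K.relIndex L = 1 := by
    by_contra hne
    obtain ⟨r, hr, hrd⟩ := Nat.exists_prime_and_dvd hne
    have h2 : K.relIndex L ∣ Nat.card L := Subgroup.relIndex_dvd_card _ _
    have h3 : K.relIndex L ∣ K.relIndex (alternatingGroup α) := by
      rw [← Subgroup.relIndex_mul_relIndex K L _ hle hLA]
      exact Nat.dvd_mul_right _ _
    exact hK.idx r hr (hL r hr (hrd.trans h2)) (hrd.trans h3)
  exact le_antisymm hle (Subgroup.relIndex_eq_one.mp h1)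

theorem DD_le {π : Set ℕ} (hK : HallAltSub π K) (h2 : 2 ∈ π) : DD K ≤ K := by
  have h1 : K = K ⊔ DD K := by
    apply hK.eq_of_le (sup_pi le_normalizer_DD hK.pi (DD_pi h2 hK.pi)) le_sup_left
    rw [sup_le_iff]
    refine ⟨hK.le, ?_⟩
    rintro g ⟨hg, _⟩
    exact Perm.mem_alternatingGroup.mpr hg
  exact (le_sup_right : DD K ≤ K ⊔ DD K).trans h1.symm.le

theorem exists_hall_extension {π : Set ℕ} (hK : HallAltSub π K) (h2 : 2 ∈ π) (h3 : 3 ∈ π)
    (hn : 3 ≤ Fintype.card α) :
    ∃ H : Subgroup (Perm α), Cfsg.IsPiHall π H ∧ H ⊓ alternatingGroup α = K ∧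
      ∃ t ∈ H, Perm.sign t = -1 := by
  classical
  -- a 3-cycle in K
  obtain ⟨z, hzK, hzc, hzs⟩ := exists_cycle (A := alternatingGroup α) (H := K)
    Nat.prime_three one_pos (hK.idx 3 Nat.prime_three h3) (by
      intro Φ
      refine (Subgroup.map_mono ?_).trans (hom_map_alternating_le Φ)
      rw [Subgroup.zpowers_le, Perm.mem_alternatingGroup, sign_finRotate]
      rfl) (by rwa [pow_one])
  rw [pow_one] at hzs
  have hz3 : z.IsThreeCycle := card_support_eq_three_iff.mp hzs
  obtain ⟨a, ha⟩ : ∃ x, x ∈ z.support := Finset.card_pos.mp (by omega)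
  have hz1 := (Perm.IsThreeCycle.eq_swap_mul_swap_iff_mem_support hz3).mpr ha
  have hz2 := (Perm.IsThreeCycle.nodup_iff_mem_support hz3).mpr ha
  simp only [List.nodup_cons, List.mem_cons, List.not_mem_nil, or_false, not_or,
    not_false_eq_true, List.nodup_nil, and_true] at hz2
  obtain ⟨⟨h5, h6⟩, h7⟩ := hz2
  set b := z a with hb
  set c := z b with hc
  have hT : T3 K a b c := ⟨h5, h7, h6, by rw [cyc, ← hz1]; exact hzK⟩
  have hab : R3 K a b := Or.inr ⟨c, hT⟩
  set t : Perm α := swap a b with ht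
  have htt : t * t = 1 := swap_mul_self a b
  have htR : ∀ x, R3 K x (t x) := by
    intro x
    by_cases hxa : x = a
    · rw [hxa, ht, swap_apply_left]; exact hab
    by_cases hxb : x = b
    · rw [hxb, ht, swap_apply_right]; exact hab.symm
    rw [ht, swap_apply_of_ne_of_ne hxa hxb]; exact R3.refl x
  have hsignt : Perm.sign t = -1 := Perm.sign_swap h5
  have hDD := DD_le hK h2
  -- t normalises K
  have htK : ∀ k ∈ K, t * k * t ∈ K := by
    intro k hk
    have h8 : t * (k * t * k⁻¹) ∈ K := by
      apply hDD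
      refine ⟨?_, fun x => ?_⟩
      · rw [map_mul, map_mul, map_mul, map_inv, hsignt]
        have : Perm.sign k = 1 := Perm.mem_alternatingGroup.mp (hK.le hk)
        rw [this]; rfl
      · have h9 : R3 K x ((k * t * k⁻¹) x) := by
          have h1 := (htR (k⁻¹ x)).conj hk
          rwa [show k (k⁻¹ x) = x from k.apply_symm_apply x] at h1
        exact h9.trans (htR _)
    have h9 : t * k * t = (t * (k * t * k⁻¹)) * k := by group
    rw [h9]; exact mul_mem h8 hk
  let H : Subgroup (Perm α) :=
    { carrier := {g | g ∈ K ∨ t * g ∈ K}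
      one_mem' := Or.inl (one_mem K)
      mul_mem' := by
        rintro g h (hg | hg) (hh | hh)
        · exact Or.inl (mul_mem hg hh)
        · right
          have : t * (g * h) = (t * g * t) * (t * h) := by
            calc t * (g * h) = t * g * 1 * h := by group
              _ = _ := by rw [← htt]; group
          rw [this]; exact mul_mem (htK g hg) hh
        · right
          rw [← mul_assoc]; exact mul_mem hg hh
        · left
          have : g * h = (t * (t * g) * t) * (t * h) := by
            calc g * h = 1 * g * 1 * h := by group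
              _ = _ := by rw [← htt]; group
          rw [this]; exact mul_mem (htK _ hg) hh
      inv_mem' := by
        rintro g (hg | hg)
        · exact Or.inl (inv_mem hg)
        · right
          have h1 : t * ((t * g)⁻¹) * t = t * g⁻¹ := by
            have : t⁻¹ = t := inv_eq_of_mul_eq_one_left htt
            rw [mul_inv_rev, this]
            calc t * (g⁻¹ * t) * t = t * g⁻¹ * (t * t) := by group
              _ = _ := by rw [htt, mul_one]
          rw [← h1]; exact htK _ (inv_mem hg) }
  have hKH : K ≤ H := fun g hg => Or.inl hg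
  have htH : t ∈ H := by
    right; rw [htt]; exact one_mem K
  have hHA : H ⊓ alternatingGroup α = K := by
    apply le_antisymm
    · rintro g ⟨hg | hg, hgA⟩
      · exact hg
      · exfalso
        have h1 : Perm.sign (t * g) = 1 := Perm.mem_alternatingGroup.mp (hK.le hg)
        rw [map_mul, hsignt, Perm.mem_alternatingGroup.mp hgA] at h1
        exact absurd h1 (by decide)
    · exact le_inf hKH hK.le
  have hnt : Nontrivial α := Fintype.one_lt_card_iff_nontrivial.mp (by omega)
  have hAi : (alternatingGroup α).index = 2 := alternatingGroup.index_eq_two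
  have hrel : (alternatingGroup α).relIndex H = 2 := by
    have h1 : (alternatingGroup α).relIndex H ∣ 2 := by
      rw [← hAi]; exact Subgroup.relIndex_dvd_index_of_normal _ _
    rcases (Nat.dvd_prime Nat.prime_two).mp h1 with h | h
    · exfalso
      rw [Subgroup.relIndex_eq_one] at h
      have := Perm.mem_alternatingGroup.mp (h htH)
      rw [hsignt] at this
      exact absurd this (by decide)
    · exact h
  have hKrel : K.relIndex H = 2 := by
    rw [← hHA, Subgroup.inf_relIndex_left, hrel]
  have hidx : H.index = K.relIndex (alternatingGroup α) := by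
    have h1 := Subgroup.relIndex_mul_index hKH
    have h2 := Subgroup.relIndex_mul_index hK.le
    rw [← h2, hKrel, hAi] at h1
    omega
  refine ⟨H, ⟨?_, ?_⟩, hHA, t, htH, hsignt⟩
  · intro r hr hrd
    have h1 : Nat.card H = Nat.card K * 2 := by
      rw [← hKrel]
      have := (K.subgroupOf H).card_mul_index
      rw [← this]
      congr 1
      exact (Nat.card_congr (Subgroup.subgroupOfEquivOfLe hKH).toEquiv)
    rw [h1, hr.dvd_mul] at hrd
    rcases hrd with h | h
    · exact hK.pi r hr h
    · rw [(Nat.prime_dvd_prime_iff_eq hr Nat.prime_two).mp h]; exact h2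
  · intro r hr hrπ hrd
    rw [hidx] at hrd
    exact hK.idx r hr hrπ hrd

end

end Cfsg.Agent.H164
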