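import Mathlib
import Cfsg.Agent.H164.HallAlt

/-!
`E_π` and `C_π` for symmetric and alternating groups.
-/

set_option autoImplicit false

namespace Cfsg.Agent.H164

open Equiv MulAction

universe u

section

variable {α : Type u} [Fintype α] [DecidableEq α]

theorem hallAltSub_map {π : Set ℕ} {K : Subgroup (alternatingGroup α)}
    (hK : Cfsg.IsPiHall π K) : HallAltSub π (K.map (alternatingGroup α).subtype) := by
  refine ⟨?_, ?_, ?_⟩
  · rintro _ ⟨k, _, rfl⟩
    exact k.2
  · intro r hr hrd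
    rw [Nat.card_congr (K.equivMapOfInjective _
      (alternatingGroup α).subtype_injective).toEquiv.symm] at hrd
    exact hK.1 r hr hrd
  · intro r hr hrπ hrd
    have : (K.map (alternatingGroup α).subtype).relIndex (alternatingGroup α) = K.index := by
      have h1 : (K.map (alternatingGroup α).subtype).subgroupOf (alternatingGroup α) = K :=
        Subgroup.comap_map_eq_self_of_injective (alternatingGroup α).subtype_injective K
      rw [Subgroup.relIndex, h1]
    rw [this] at hrd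
    exact hK.2 r hr hrπ hrd

theorem isPiHall_subgroupOf {π : Set ℕ} {K : Subgroup (Perm α)} (hK : HallAltSub π K) :
    Cfsg.IsPiHall π (K.subgroupOf (alternatingGroup α)) := by
  refine ⟨?_, hK.idx⟩
  intro r hr hrd
  rw [Nat.card_congr (Subgroup.subgroupOfEquivOfLe hK.le).toEquiv] at hrd
  exact hK.pi r hr hrd

theorem inf_hall [Nontrivial α] {π : Set ℕ} {H : Subgroup (Perm α)} (hH : Cfsg.IsPiHall π H) :
    HallAltSub π (H ⊓ alternatingGroup α) := by
  refine ⟨inf_le_right, isPiSubgroup_mono inf_le_left hH.1, ?_⟩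
  intro r hr hrπ hrd
  have hAi : (alternatingGroup α).index = 2 := alternatingGroup.index_eq_two
  have h1 := Subgroup.relIndex_mul_index (inf_le_right : H ⊓ alternatingGroup α ≤ _)
  have h2 := Subgroup.relIndex_mul_index (inf_le_left : H ⊓ alternatingGroup α ≤ H)
  rw [Subgroup.inf_relIndex_left] at h2
  rw [← h2, hAi] at h1
  have h3 : (alternatingGroup α).relIndex H ∣ 2 := by
    rw [← hAi]; exact Subgroup.relIndex_dvd_index_of_normal _ _
  rcases (Nat.dvd_prime Nat.prime_two).mp h3 with h | h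
  · rw [h, one_mul] at h1
    apply hH.2 r hr hrπ
    rw [← h1]
    exact Dvd.dvd.mul_right hrd _
  · rw [h, mul_comm 2] at h1
    apply hH.2 r hr hrπ
    rw [← Nat.eq_of_mul_eq_mul_right two_pos h1]
    exact hrd

theorem two_three_mem {π : Set ℕ} {K : Subgroup (Perm α)} (hK : HallAltSub π K) {p q : ℕ}
    (hp : p.Prime) (hq : q.Prime) (hpq : p < q) (hpπ : p ∈ π) (hqπ : q ∈ π)
    (hqn : q ≤ Fintype.card α) : 2 ∈ π ∧ 3 ∈ π := by
  have hq3 : 3 ≤ q := by have := hp.two_le; omega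
  have hnt : Nontrivial α := Fintype.one_lt_card_iff_nontrivial.mp (by omega)
  have hAi : (alternatingGroup α).index = 2 := alternatingGroup.index_eq_two
  have h2 : 2 ∈ π := by
    by_contra h2
    have h1 := Subgroup.relIndex_mul_index hK.le
    rw [hAi] at h1
    have hndvd : ∀ r : ℕ, r.Prime → r ∈ π → ¬ r ∣ K.index := by
      intro r hr hrπ hrd
      rw [← h1, hr.dvd_mul] at hrd
      rcases hrd with h | h
      · exact hK.idx r hr hrπ h
      · rw [(Nat.prime_dvd_prime_iff_eq hr Nat.prime_two).mp h] at hrπ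
        exact h2 hrπ
    exact h2 (hK.pi 2 Nat.prime_two
      (even_of_two_primes hp hq hpq hqn (hndvd p hp hpπ) (hndvd q hq hqπ)))
  refine ⟨h2, ?_⟩
  by_cases hq3' : q = 3
  · rw [← hq3']; exact hqπ
  have hq5 : 5 ≤ q := by
    by_contra hcon
    have : q = 4 := by omega
    rw [this] at hq
    exact absurd hq (by decide)
  obtain ⟨z, hzK, hzc, hzs⟩ := exists_cycle (A := alternatingGroup α) (H := K)
    hq one_pos (hK.idx q hq hqπ) (by
      intro Φ
      refine (Subgroup.map_mono ?_).trans (hom_map_alternating_le Φ)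
      rw [Subgroup.zpowers_le, Perm.mem_alternatingGroup, sign_finRotate, pow_one]
      have : Even (q - 1) := hq.even_sub_one (by omega)
      exact this.neg_one_pow) (by rwa [pow_one])
  rw [pow_one] at hzs
  exact hK.pi 3 Nat.prime_three
    (three_dvd_of_two_and_cycle hq hq5 (hK.idx 2 Nat.prime_two h2) hzK hzc hzs)

theorem exists_perm_finset {Δ Δ' : Finset α} (h : Δ.card = Δ'.card) :
    ∃ g : Perm α, ∀ x, g x ∈ Δ' ↔ x ∈ Δ := by
  have h1 : Fintype.card {x // x ∈ Δ} = Fintype.card {x // x ∈ Δ'} := by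
    rw [Fintype.card_coe, Fintype.card_coe, h]
  let e : {x // x ∈ Δ} ≃ {x // x ∈ Δ'} := Fintype.equivOfCardEq h1
  refine ⟨e.extendSubtype, fun x => ?_⟩
  constructor
  · intro hx
    by_contra hcon
    exact e.extendSubtype_not_mem x hcon hx
  · intro hx
    exact e.extendSubtype_mem x hx

theorem mem_map_conj {G : Type*} [Group G] {H : Subgroup G} {g x : G} :
    x ∈ H.map (MulAut.conj g).toMonoidHom ↔ g⁻¹ * x * g ∈ H := by
  constructor
  · rintro ⟨y, hy, rfl⟩
    have : g⁻¹ * ((MulAut.conj g).toMonoidHom y) * g = y := by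
      change g⁻¹ * (g * y * g⁻¹) * g = y
      group
    rw [this]; exact hy
  · intro h
    refine ⟨_, h, ?_⟩
    change g * (g⁻¹ * x * g) * g⁻¹ = x
    group

theorem stabP_map_conj {Δ Δ' : Finset α} {g : Perm α} (hg : ∀ x, g x ∈ Δ' ↔ x ∈ Δ) :
    stabP Δ' = (stabP Δ).map (MulAut.conj g).toMonoidHom := by
  have hg' : ∀ x, g⁻¹ x ∈ Δ ↔ x ∈ Δ' := by
    intro x
    rw [← hg, show g (g⁻¹ x) = x from g.apply_symm_apply x]
  ext h
  rw [mem_map_conj]
  constructor
  · rintro (hh | hh)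
    · left
      intro x
      simp only [Perm.mul_apply]
      rw [hg', hh, hg]
    · right
      intro x
      simp only [Perm.mul_apply]
      rw [hg', hh, hg]
  · rintro (hh | hh)
    · left
      intro x
      have h1 := hh (g⁻¹ x)
      simp only [Perm.mul_apply] at h1
      rw [show g (g⁻¹ x) = x from g.apply_symm_apply x, hg', hg'] at h1
      exact h1
    · right
      intro x
      have h1 := hh (g⁻¹ x)
      simp only [Perm.mul_apply] at h1
      rw [show g (g⁻¹ x) = x from g.apply_symm_apply x, hg', hg'] at h1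
      exact h1

/-- at most one prime of `π` is `≤ n` -/
def OnePrime (π : Set ℕ) (n : ℕ) : Prop :=
  ∀ r s : ℕ, r.Prime → s.Prime → r ∈ π → s ∈ π → r ≤ n → s ≤ n → r = s

theorem exists_two_of_not_onePrime {π : Set ℕ} {n : ℕ} (h : ¬ OnePrime π n) :
    ∃ p q : ℕ, p.Prime ∧ q.Prime ∧ p < q ∧ p ∈ π ∧ q ∈ π ∧ q ≤ n := by
  unfold OnePrime at h
  push Not at h
  obtain ⟨r, s, hr, hs, hrπ, hsπ, hrn, hsn, hne⟩ := h
  rcases lt_or_gt_of_ne hne with h | h
  · exact ⟨r, s, hr, hs, h, hrπ, hsπ, hsn⟩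
  · exact ⟨s, r, hs, hr, h, hsπ, hrπ, hrn⟩

theorem sym_one {π : Set ℕ} (h : OnePrime π (Fintype.card α)) :
    Cfsg.IsCPiGroup π (Perm α) ∧ Cfsg.IsDPiGroup π (Perm α) := by
  apply one_prime
  intro r s hr hs hrπ hsπ hrd hsd
  rw [Nat.card_perm, Nat.card_eq_fintype_card] at hrd hsd
  exact h r s hr hs hrπ hsπ (hr.dvd_factorial.mp hrd) (hs.dvd_factorial.mp hsd)

theorem alt_dvd {r : ℕ} (hr : r.Prime) (h : r ∣ Nat.card (alternatingGroup α)) :
    r ≤ Fintype.card α := by
  have h1 := h.trans (Subgroup.card_subgroup_dvd_card (alternatingGroup α))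
  rw [Nat.card_perm, Nat.card_eq_fintype_card] at h1
  exact hr.dvd_factorial.mp h1

theorem alt_one {π : Set ℕ} (h : OnePrime π (Fintype.card α)) :
    Cfsg.IsCPiGroup π (alternatingGroup α) ∧ Cfsg.IsDPiGroup π (alternatingGroup α) := by
  apply one_prime
  intro r s hr hs hrπ hsπ hrd hsd
  exact h r s hr hs hrπ hsπ (alt_dvd hr hrd) (alt_dvd hs hsd)

/-- classification of Hall subgroups of `Sym(α)` when `π` has two primes `≤ |α|`, in the form of
conjugacy -/
theorem sym_C {π : Set ℕ} (hE : Cfsg.IsEPiGroup π (Perm α)) : Cfsg.IsCPiGroup π (Perm α) := by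
  by_cases h1 : OnePrime π (Fintype.card α)
  · exact (sym_one h1).1
  obtain ⟨p, q, hp, hq, hpq, hpπ, hqπ, hqn⟩ := exists_two_of_not_onePrime h1
  have hnt : Nontrivial α := Fintype.one_lt_card_iff_nontrivial.mp (by have := hp.two_le; omega)
  have h23 : 2 ∈ π ∧ 3 ∈ π := by
    obtain ⟨H, hH⟩ := hE
    exact two_three_mem (inf_hall hH) hp hq hpq hpπ hqπ hqn
  by_cases h2 : ∀ r : ℕ, r.Prime → r ≤ Fintype.card α → r ∈ π
  · refine (all_primes ?_).1
    intro r hr hrd
    rw [Nat.card_perm, Nat.card_eq_fintype_card] at hrd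
    exact h2 r hr (hr.dvd_factorial.mp hrd)
  push Not at h2
  obtain ⟨l, hl, hln, hlπ⟩ := h2
  refine ⟨hE, fun H K hH hK => ?_⟩
  obtain ⟨Δ, rfl, hΔ⟩ := hall_sym hH h23.1 h23.2 hl hln hlπ
  obtain ⟨Δ', rfl, hΔ'⟩ := hall_sym hK h23.1 h23.2 hl hln hlπ
  have hcard : Δ.card = Δ'.card := by
    rcases hΔ with ⟨h3, h4, h5, h6, h7⟩ | ⟨h3, h4, h5, h6⟩ <;>
      rcases hΔ' with ⟨h3', h4', h5', h6', h7'⟩ | ⟨h3', h4', h5', h6'⟩
    · omega
    · exfalso
      rcases h4' with h8 | h8
      · exact h5' (h6 5 (by norm_num) (by omega))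
      · rw [h8] at h4; exact absurd h4 (by decide)
    · exfalso
      rcases h4 with h8 | h8
      · exact h5 (h6' 5 (by norm_num) (by omega))
      · rw [h8] at h4'; exact absurd h4' (by decide)
    · omega
  obtain ⟨g, hg⟩ := exists_perm_finset hcard
  exact ⟨g, stabP_map_conj hg⟩

/-- Hall subgroups of the alternating group extend, when `π` contains two primes `≤ n` -/
theorem alt_extend {π : Set ℕ} (h1 : ¬ OnePrime π (Fintype.card α)) {K : Subgroup (Perm α)}
    (hK : HallAltSub π K) : ∃ H : Subgroup (Perm α), Cfsg.IsPiHall π H ∧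
      H ⊓ alternatingGroup α = K ∧ ∃ t ∈ H, Perm.sign t = -1 := by
  obtain ⟨p, q, hp, hq, hpq, hpπ, hqπ, hqn⟩ := exists_two_of_not_onePrime h1
  obtain ⟨h2, h3⟩ := two_three_mem hK hp hq hpq hpπ hqπ hqn
  exact exists_hall_extension hK h2 h3 (by have := hp.two_le; omega)

theorem alt_E_of_sym_E {π : Set ℕ} (hE : Cfsg.IsEPiGroup π (Perm α)) :
    Cfsg.IsEPiGroup π (alternatingGroup α) := by
  by_cases h1 : OnePrime π (Fintype.card α)
  · exact (alt_one h1).1.1
  obtain ⟨p, q, hp, hq, hpq, hpπ, hqπ, hqn⟩ := exists_two_of_not_onePrime h1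
  have hnt : Nontrivial α := Fintype.one_lt_card_iff_nontrivial.mp (by have := hp.two_le; omega)
  obtain ⟨H, hH⟩ := hE
  exact ⟨_, isPiHall_subgroupOf (inf_hall hH)⟩

theorem sym_E_of_alt_E {π : Set ℕ} (hE : Cfsg.IsEPiGroup π (alternatingGroup α)) :
    Cfsg.IsEPiGroup π (Perm α) := by
  by_cases h1 : OnePrime π (Fintype.card α)
  · exact (sym_one h1).1.1
  obtain ⟨K, hK⟩ := hE
  obtain ⟨H, hH, _⟩ := alt_extend h1 (hallAltSub_map hK)
  exact ⟨H, hH⟩

theorem alt_C {π : Set ℕ} (hE : Cfsg.IsEPiGroup π (alternatingGroup α)) :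
    Cfsg.IsCPiGroup π (alternatingGroup α) := by
  by_cases h1 : OnePrime π (Fintype.card α)
  · exact (alt_one h1).1
  refine ⟨hE, fun K L hK hL => ?_⟩
  obtain ⟨HK, hHK, hHK1, t, ht, htsign⟩ := alt_extend h1 (hallAltSub_map hK)
  obtain ⟨HL, hHL, hHL1, _⟩ := alt_extend h1 (hallAltSub_map hL)
  obtain ⟨g, hg⟩ := (sym_C ⟨HK, hHK⟩).2 HK HL hHK hHL
  -- make `g` even
  obtain ⟨g', hg', hg's⟩ : ∃ g' : Perm α, HL = HK.map (MulAut.conj g').toMonoidHom ∧
      g' ∈ alternatingGroup α := by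
    rcases Int.units_eq_one_or (Perm.sign g) with h | h
    · exact ⟨g, hg, Perm.mem_alternatingGroup.mpr h⟩
    · refine ⟨g * t, ?_, ?_⟩
      · rw [hg]
        ext x
        rw [mem_map_conj, mem_map_conj]
        have h2 : (g * t)⁻¹ * x * (g * t) = t⁻¹ * (g⁻¹ * x * g) * t := by group
        rw [h2]
        constructor
        · intro h3
          exact mul_mem (mul_mem (inv_mem ht) h3) ht
        · intro h3
          have h4 := mul_mem (mul_mem ht h3) (inv_mem ht)
          have h5 : t * (t⁻¹ * (g⁻¹ * x * g) * t) * t⁻¹ = g⁻¹ * x * g := by group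
          rwa [h5] at h4
      · rw [Perm.mem_alternatingGroup, map_mul, h, htsign]; rfl
  refine ⟨⟨g', hg's⟩, ?_⟩
  have hmemK : ∀ x : alternatingGroup α, x ∈ K ↔ (x : Perm α) ∈ HK := by
    intro x
    have h2 : (x : Perm α) ∈ HK ⊓ alternatingGroup α ↔ (x : Perm α) ∈ HK :=
      ⟨fun h => h.1, fun h => ⟨h, x.2⟩⟩
    rw [← h2, hHK1]
    exact (Subgroup.mem_map_iff_mem (alternatingGroup α).subtype_injective).symm
  have hmemL : ∀ x : alternatingGroup α, x ∈ L ↔ (x : Perm α) ∈ HL := by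
    intro x
    have h2 : (x : Perm α) ∈ HL ⊓ alternatingGroup α ↔ (x : Perm α) ∈ HL :=
      ⟨fun h => h.1, fun h => ⟨h, x.2⟩⟩
    rw [← h2, hHL1]
    exact (Subgroup.mem_map_iff_mem (alternatingGroup α).subtype_injective).symm
  ext x
  rw [mem_map_conj, hmemK, hmemL, hg', mem_map_conj]
  rfl

end

end Cfsg.Agent.H164
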