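import Cfsg.Agent.H177.AARow
import Cfsg.Agent.H177.AARow2
import Cfsg.Agent.H235.AA.CycFull
import Cfsg.Agent.H681.NoBadSuz
import Cfsg.Agent.H149.Sp.Conway
import Cfsg.Agent.BpSpor.Row.Suz

/-!
# `AA` problem: the Suzuki sporadic group (helper164, S3833, S3834, S3840)
-/

set_option autoImplicit false
set_option maxRecDepth 100000

namespace Cfsg.Agent.H164.AASuz

open Subgroup Cfsg Cfsg.Spor Cfsg.Agent.H177.AARow Cfsg.Agent.H460.AA Cfsg.Agent.H459.Rad
open Cfsg.Agent.SporadicRecognition.SuzOrder Cfsg.Agent.SuzThree.Basic Cfsg.Agent.SuzThree.Elts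
  Cfsg.Agent.SuzThree.Elementary Cfsg.Agent.SuzThree.NormElts Cfsg.Agent.SuzThree.NormAct
  Cfsg.Agent.BpSpor.SuzThreeCentral Cfsg.Agent.SporadicRecognition.SuzPhi Cfsg.Agent.SporadicRecognition.SuzBound
  Cfsg.Agent.Lib.PermNetOrbit

/-- an element of order three of `N(A0)` in the radical lies in `A0` -/
theorem mem_A0_of_rad {b : Suz} (hb : b ∈ NA) (hr : (⟨b, hb⟩ : NA) ∈ solvableRadical NA) : b ∈ A0 := by
  have hfin := Cfsg.Agent.BpSpor.SuzThreeCentral.finSuz
  have hs : IsSimpleGroup (NA ⧸ A0.subgroupOf NA) := Cfsg.Agent.Cit.ElevenFact.simple isoM11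
  have hcard : Nat.card (NA ⧸ A0.subgroupOf NA) = 7920 := by
    obtain ⟨e⟩ := isoM11
    rw [Nat.card_congr e.toEquiv, HNType.Alt.card_M11]
  have h1 := map_rad_le (QuotientGroup.mk'_surjective (A0.subgroupOf NA)) hr
  rw [rad_eq_bot_of_simple (Cfsg.Agent.H177.AARow2.not_solvable_of_card (by rw [hcard]; norm_num)), mem_bot] at h1
  exact mem_subgroupOf.1 ((QuotientGroup.eq_one_iff _).1 h1)

/-- `L = L₃(4)` is not soluble -/
theorem not_solvable_L : ¬ Group.IsSolvable (Cfsg.Agent.KFacts.SuzLFour.L) := by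
  intro hs
  have := Cfsg.Agent.CTwoTab.SuzPlane.simple_L
  have h1 := IsSimpleGroup.comm_iff_isSolvable.2 hs
  exact Cfsg.Agent.CTwoTab.Suz.na_L ⟨⟨h1⟩⟩

theorem three : NoA 3 Suz := by
  have hfin := Cfsg.Agent.BpSpor.SuzThreeCentral.finSuz
  have h3 : Fact (Nat.Prime 3) := ⟨Nat.prime_three⟩
  have h2 : Fact (Nat.Prime 2) := ⟨Nat.prime_two⟩
  intro a ha hR hP
  have hidx := Subgroup.card_mul_index NA
  rw [card_NA, card_Suz] at hidx
  have hM : NA ≠ ⊤ := by
    intro h1
    have h2 := card_NA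
    rw [h1, card_top, card_Suz] at h2
    norm_num at h2
  have hi : ¬ 3 ∣ NA.index := by
    intro h3
    obtain ⟨c, hc⟩ := h3
    rw [hc] at hidx
    omega
  obtain ⟨g, hg⟩ := Cfsg.Agent.H177.AATools.conj_mem_of_index hi ha
  have hb := Cfsg.Agent.H177.AATools.order_conj ha g
  have hRb := RC_conj hR g
  have hPb := Cfsg.Agent.H177.AATools.pe_conj hP g
  have hbA : g * a * g⁻¹ ∈ A0 := mem_A0_of_rad hg (mem_radIn_coe.1 (mem_radIn hRb hM hg))
  -- an involution commuting with `b`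
  obtain ⟨t, ht⟩ := exists_prime_orderOf_dvd_card' 2 (Cfsg.Agent.H681.NoBadSuz.even_A0 hbA)
  have hto : orderOf (t : Suz) = 2 := by rw [Subgroup.orderOf_coe, ht]
  have htt : (t : Suz) * t = 1 := by rw [← pow_two, ← hto, pow_orderOf_eq_one]
  have ht1 : (t : Suz) ≠ 1 := by
    intro h0
    rw [h0, orderOf_one] at hto
    omega
  have hcomm : (t : Suz) * (g * a * g⁻¹) = (g * a * g⁻¹) * t := mem_centralizer_singleton_iff.1 t.2
  rcases Cfsg.Agent.CTwoTab.Suz.classes htt ht1 with hc | hc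
  · obtain ⟨c, hc⟩ := isConj_iff.1 hc
    refine Cfsg.Agent.H177.AATools.false_of_large (p := 3) (KFacts.SuzLarge.large.conj c) (by norm_num) hb ?_ hPb
    rw [hc]
    exact hcomm.symm
  · obtain ⟨c, hc⟩ := isConj_iff.1 hc
    have hc' : Cfsg.Agent.KFacts.SuzLFour.e0 = c⁻¹ * t * c := by rw [← hc]; group
    have h4 : c⁻¹ * (g * a * g⁻¹) * c ∈ Cfsg.Agent.KFacts.SuzLFour.L := by
      refine Cfsg.Agent.BpSpor.SuzThree.mem_L_of_cube ?_ ?_
      · have := conj_pow (i := 3) (a := c⁻¹) (b := g * a * g⁻¹)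
        rw [inv_inv] at this
        rw [this, ← hb, pow_orderOf_eq_one, mul_one, inv_mul_cancel]
      · rw [hc']
        calc c⁻¹ * (g * a * g⁻¹) * c * (c⁻¹ * t * c) = c⁻¹ * ((g * a * g⁻¹) * t) * c := by group
          _ = c⁻¹ * t * c * (c⁻¹ * (g * a * g⁻¹) * c) := by rw [← hcomm]; group
    have hRc := RC_conj hRb c⁻¹
    rw [inv_inv] at hRc
    have := Cfsg.Agent.CTwoTab.SuzPlane.simple_L
    refine false_of_mem ?_ hRc ?_ h4 (rad_eq_bot_of_simple not_solvable_L)
    · intro h1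
      have h5 : g * a * g⁻¹ = 1 := by
        have h6 : g * a * g⁻¹ = c * (c⁻¹ * (g * a * g⁻¹) * c) * c⁻¹ := by group
        rw [h6, h1]
        group
      rw [h5, orderOf_one] at hb
      omega
    · intro h1
      have h5 := Nat.card_congr Cfsg.Agent.CTwoTab.SuzPlane.equiv.toEquiv
      rw [h1, card_top, card_Suz, Cfsg.Agent.CTwoTab.SuzPlane.card_PSL3] at h5
      norm_num at h5

/-! ### `p = 5` -/

theorem card_stab0 : Nat.card (stabL φ [0]) = 251596800 := by
  have h7 := step7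
  have h6 := step6
  have h5 := step5
  have h4 := step4
  have h3 := step3
  have h0 : Nat.card (stabL φ []) ≤ Nat.card Suz :=
    Nat.card_le_card_of_injective _ (Subtype.val_injective)
  rw [card_Suz] at h0
  rw [card_stab] at h3
  omega

theorem not_comm {p q : ℕ} (hp : Cfsg.Agent.H149.Sp.P5 p) (hq : Cfsg.Agent.H149.Sp.P5 q) (hpq : p < q)
    (h57 : ¬ (p = 5 ∧ q = 7)) {x y : Suz} (hx : orderOf x = p) (hy : orderOf y = q) : x * y ≠ y * x := by
  intro hc
  obtain ⟨e'⟩ := LThreeCo1Suz.Main.t0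
  have hadj : Cfsg.Agent.H163.PG.Adj Suz p q := by
    refine ⟨x * y, ?_⟩
    rw [(show Commute x y from hc).orderOf_mul_eq_mul_orderOf_of_coprime (by
      rw [hx, hy]
      exact (Nat.coprime_primes hp.prime hq.prime).2 hpq.ne), hx, hy]
  have h1 := (Cfsg.Agent.H163.PG.adj_congr e'.symm).1 hadj
  have hfin : Finite Spor.Co1 := by
    have : Finite Co0 := Cfsg.Agent.CoOneType.FrameFix.finite_co0
    exact Quotient.finite _
  have h2 := Cfsg.Agent.H149.Sp.adj_of_surjective (QuotientGroup.mk' _) (QuotientGroup.mk'_surjective _) h1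
  obtain ⟨x, y, hx, hy, hxy⟩ := h2.of_subgroup.exists_commute hp.prime hq.prime
  exact Cfsg.Agent.H149.Sp.co1_not_comm hp hq hpq h57 hx hy hxy

theorem five : NoA 5 Suz := by
  have hfin := Cfsg.Agent.BpSpor.SuzThreeCentral.finSuz
  have hidx := (stabL φ [0]).card_mul_index
  rw [card_stab0, card_Suz] at hidx
  have hi : (stabL φ [0]).index = 1782 := by omega
  refine noA_two_primes (r := 13) (by norm_num) (by norm_num)
    (fun x y hx hy => not_comm (Or.inl rfl) (Or.inr (Or.inr (Or.inr (Or.inl rfl)))) (by norm_num) (by norm_num) hx hy)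
    2 1 ?_ (by decide) ?_ (by decide) (H := stabL φ [0]) ?_ ?_ ?_
  · rw [card_Suz]; norm_num
  · rw [card_Suz]; norm_num
  · intro h
    rw [h, index_top] at hi
    omega
  · rw [card_stab0]; norm_num
  · rw [hi]; norm_num

theorem cyc {p : ℕ} (hp : p = 7 ∨ p = 11 ∨ p = 13) : NoA p Suz := by
  have hfin := Cfsg.Agent.BpSpor.SuzThreeCentral.finSuz
  have hs : IsSimpleGroup Suz := Cfsg.Agent.S1694.result.1
  have hpp : p.Prime := by rcases hp with rfl | rfl | rfl <;> norm_num
  have hf : Fact p.Prime := ⟨hpp⟩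
  intro a ha _ hP
  have hna : ¬ IsMulCommutative Suz := by
    intro hm
    let _ : CommGroup Suz := { (inferInstance : Group Suz) with mul_comm := hm.is_comm.comm }
    have h1 : (Nat.card Suz).Prime := IsSimpleGroup.prime_card
    rw [card_Suz] at h1
    norm_num at h1
  obtain ⟨g, hg⟩ := Cfsg.Agent.H235.AA.Cyc.pa_cyc_full hna (p := p) (by rcases hp with rfl | rfl | rfl <;> norm_num)
    (Cfsg.Agent.H235.AA.Cyc.card_sylow_of_not_sq
      (by rw [card_Suz]; rcases hp with rfl | rfl | rfl <;> norm_num)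
      (by rw [card_Suz]; rcases hp with rfl | rfl | rfl <;> norm_num)) ha
  exact hg (hP g)

/-- **The Suzuki sporadic group** -/
theorem core_suz {K : Type*} [Group K] (h : Spor.IsoSuz K) : Core K := by
  have hf : Finite K := Nat.finite_of_card_ne_zero (by
    rw [(Cfsg.Agent.BpSpor.Row.dat_suz h).card]; norm_num)
  have e : K ≃* Suz := h.some
  refine core_of_dat (Cfsg.Agent.BpSpor.Row.dat_suz h) (l := [(2, 13), (3, 7), (5, 2), (7, 1), (11, 1), (13, 1)])
    (by decide +kernel) (by norm_num) (fun x hx hx2 _ => ?_)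
  simp only [List.mem_cons, List.not_mem_nil, or_false] at hx
  rcases hx with rfl | rfl | rfl | rfl | rfl | rfl
  · exact absurd rfl hx2
  · exact three.of_equiv e
  · exact five.of_equiv e
  · exact (cyc (Or.inl rfl)).of_equiv e
  · exact (cyc (Or.inr (Or.inl rfl))).of_equiv e
  · exact (cyc (Or.inr (Or.inr rfl))).of_equiv e

end Cfsg.Agent.H164.AASuz
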