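import Cfsg.Agent.H177.AARow
import Cfsg.Agent.H235.AA.CycFull
import Cfsg.Agent.H804.TitsFive
import Cfsg.Agent.H933.TitsRadThree
import Cfsg.Agent.BpSpor.Row.Tits

/-!
# `AA` problem: the Tits group (helper164, S3833, S3834, S3840)
-/

set_option autoImplicit false

namespace Cfsg.Agent.H164.AATits

open Subgroup Cfsg Cfsg.Agent.H177.AARow Cfsg.Agent.H460.AA Cfsg.Agent.H459.Rad

/-- `3` : all elements are conjugate to `t`, `(t v) ^ 13 = 1` with an involution `v` -/
theorem noA_three {G : Type*} [Group G] (h : Cfsg.Agent.H933.TitsRadThree.Prop3 G) : NoA 3 G := by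
  obtain ⟨t, v, h1, h2, h3, h4, h5⟩ := h
  intro a ha _ hP
  obtain ⟨c, hc⟩ := isConj_iff.1 (h5 a ha)
  have hv : v⁻¹ = v := inv_eq_of_mul_eq_one_right h3
  have h6 := (hP (c⁻¹ * v * c)).conj c
  have h7 : c * (a * (c⁻¹ * v * c * a * (c⁻¹ * v * c)⁻¹)) * c⁻¹ = (t * v) ^ 2 := by
    rw [← hc, pow_two]
    nth_rewrite 4 [← hv]
    group
  rw [h7] at h6
  have h8 : (t * v) ^ 2 = 1 := by
    refine h6.eq_one ?_
    intro h9
    have h10 : orderOf ((t * v) ^ 2) ∣ 13 := orderOf_dvd_of_pow_eq_one (by rw [← pow_mul, mul_comm, pow_mul, h4, one_pow])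
    have := h9.trans h10
    omega
  have h9 : t * v = 1 := by
    have h10 : (t * v) ^ 12 = 1 := by rw [show 12 = 2 * 6 from rfl, pow_mul, h8, one_pow]
    rw [show (13 : ℕ) = 12 + 1 from rfl, pow_succ, h10, one_mul] at h4
    exact h4
  have h10 : t = v := by rw [← hv]; exact eq_inv_of_mul_eq_one_left h9
  apply h2
  have h11 : t * t = 1 := by rw [h10]; exact h3
  rw [pow_succ, pow_two, h11, one_mul] at h1
  exact h1

theorem noA_three' {K : Type*} [Group K] (h : Lie.IsoTits K) : NoA 3 K :=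
  noA_three (Cfsg.Agent.H933.TitsRadThree.prop3_iso h)

/-- `5` : all elements are conjugate to `a`, with a conjugate `g a g⁻¹` -/
def Prop5 (G : Type*) [Group G] : Prop :=
  ∃ a g : G, a ^ 5 = 1 ∧ a ≠ 1 ∧ (a * (g * a * g⁻¹)) ^ 13 = 1 ∧ (a * (g * a * g⁻¹) ^ 2) ^ 8 = 1 ∧
    ∀ y : G, orderOf y = 5 → ∃ s : G, s * y * s⁻¹ = a

theorem Prop5.congr {G H : Type*} [Group G] [Group H] (e : G ≃* H) (h : Prop5 G) : Prop5 H := by
  obtain ⟨a, g, h1, h2, h3, h4, h5⟩ := h
  refine ⟨e a, e g, by rw [← map_pow, h1, map_one], fun h6 => h2 (e.injective (by rw [h6, map_one])), ?_, ?_,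
    fun y hy => ?_⟩
  · rw [← map_inv, ← map_mul, ← map_mul, ← map_mul, ← map_pow, h3, map_one]
  · rw [← map_inv, ← map_mul, ← map_mul, ← map_pow, ← map_mul, ← map_pow, h4, map_one]
  · obtain ⟨s, hs⟩ := h5 (e.symm y) (by rw [MulEquiv.orderOf_eq, hy])
    refine ⟨e s, ?_⟩
    rw [← hs]
    simp

theorem noA_five_gen {G : Type*} [Group G] (h : Prop5 G) : NoA 5 G := by
  obtain ⟨a, g, a5, a1, h13, h8, hconj⟩ := h
  intro y hy _ hP
  obtain ⟨s, hs⟩ := hconj y hy
  have h6 := (hP (s⁻¹ * g * s)).conj s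
  have h7 : s * (y * (s⁻¹ * g * s * y * (s⁻¹ * g * s)⁻¹)) * s⁻¹ = a * (g * a * g⁻¹) := by
    rw [← hs]
    group
  rw [h7] at h6
  have h9 : a * (g * a * g⁻¹) = 1 := by
    refine h6.eq_one ?_
    intro h9
    have h10 := h9.trans (orderOf_dvd_of_pow_eq_one h13)
    omega
  have h10 : g * a * g⁻¹ = a⁻¹ := (inv_eq_of_mul_eq_one_right h9).symm
  rw [h10] at h8
  apply a1
  have h11 : a ^ 8 = 1 := by
    have : a * a⁻¹ ^ 2 = a⁻¹ := by group
    rw [this, inv_pow, inv_eq_one] at h8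
    exact h8
  have h12 : a ^ 16 = 1 := by rw [show 16 = 8 * 2 from rfl, pow_mul, h11, one_pow]
  have h13 : a ^ 15 = 1 := by rw [show 15 = 5 * 3 from rfl, pow_mul, a5, one_pow]
  rw [show (16 : ℕ) = 15 + 1 from rfl, pow_succ, h13, one_mul] at h12
  exact h12

section Model

open Cfsg.Agent.Omega.TwoF.Tits Cfsg.Agent.Omega.TwoF.Scalar Cfsg.Agent.Omega.TwoF.Orb
  Cfsg.Agent.ChevalleyStructure.Tits.Main Cfsg.Agent.ChevalleyStructure.Tits.Mat
  Cfsg.Agent.ChevalleyStructure.Tits.Order Cfsg.Agent.H804.TitsFive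

theorem prop5_C : Prop5 C := ⟨a, g8, a5, a1, pow13, pow8, fun _ hy => exists_conj hy⟩

theorem prop5_aux (T : Subgroup (GL I52 (ZMod 2))) (hT : T = H0) : Prop5 ↥(_root_.commutator T) := by
  subst hT
  exact prop5_C

theorem prop5_tits : Prop5 Cfsg.Lie.TitsGroup := prop5_aux _ T0_eq_H0

end Model

theorem noA_five {K : Type*} [Group K] (h : Lie.IsoTits K) : NoA 5 K := by
  obtain ⟨e⟩ := h
  have e' := e.symm
  exact noA_five_gen (@Prop5.congr Cfsg.Lie.TitsGroup K _ _ e' prop5_tits)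

theorem noA_thirteen {K : Type*} [Group K] (h : Lie.IsoTits K) : NoA 13 K := by
  have ho := Cfsg.Agent.CpAutTits.Row.out h
  have D := Cfsg.Agent.BpSpor.Row.dat_tits h
  have := D.simple
  have : Finite K := Nat.finite_of_card_ne_zero (by rw [ho.card]; norm_num)
  have hf : Fact (Nat.Prime 13) := ⟨by norm_num⟩
  intro a ha _ hP
  have hna : ¬ IsMulCommutative K := by
    intro hm
    let _ : CommGroup K := { (inferInstance : Group K) with mul_comm := hm.is_comm.comm }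
    have h1 : (Nat.card K).Prime := IsSimpleGroup.prime_card
    rw [ho.card] at h1
    norm_num at h1
  obtain ⟨g, hg⟩ := Cfsg.Agent.H235.AA.Cyc.pa_cyc_full hna (p := 13) (by norm_num)
    (Cfsg.Agent.H235.AA.Cyc.card_sylow_of_not_sq (by rw [ho.card]; norm_num) (by rw [ho.card]; norm_num)) ha
  exact hg (hP g)

/-- **the Tits group** -/
theorem core_tits {K : Type*} [Group K] (h : Lie.IsoTits K) : Core K := by
  refine core_of_dat (Cfsg.Agent.BpSpor.Row.dat_tits h) (l := [(2, 11), (3, 3), (5, 2), (13, 1)])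
    (by decide +kernel) (by norm_num) (fun x hx hx2 _ => ?_)
  simp only [List.mem_cons, List.not_mem_nil, or_false] at hx
  rcases hx with rfl | rfl | rfl | rfl
  · exact absurd rfl hx2
  · exact noA_three' h
  · exact noA_five h
  · exact noA_thirteen h

end Cfsg.Agent.H164.AATits
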