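import Cfsg.Agent.Lib.InvolutionKernel
import Cfsg.Agent.Lib.PGroupCoprimeAction
import Cfsg.Agent.H241.NHTools
import Cfsg.Agent.CpAut.LyFiveRow

/-!
# Tools for the nilpotent Hall row of `Ly`

* `comm_of_inv` : an involution `t` with `4 ∤ |C(t)|`, commuting with no element of order `p`: `p`-subgroups are abelian;
* `nc_of_invol` : `NC p q` from an element of order `q` and an involution;
* `fr_lift` : Frobenius relations lift through double covers of alternating groups.
-/

set_option autoImplicit false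

open Subgroup

namespace Cfsg.Agent.H164.LyNH

open Cfsg.Agent.H241.NH Cfsg.Agent.H630.NH

/-- An involution `t` with `4 ∤ |C(t)|` which commutes with no element of order `p`: all `p`-subgroups are abelian. -/
theorem comm_of_inv {K : Type*} [Group K] [Finite K] {t : K} (ht : t * t = 1) (ht1 : t ≠ 1)
    (hC : ¬ 4 ∣ Nat.card (centralizer ({t} : Set K))) {p : ℕ} [hp : Fact p.Prime] (hp2 : p ≠ 2)
    (hfix : ∀ x : K, orderOf x = p → t * x ≠ x * t) (A : Subgroup K) (hA : IsPGroup p A) :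
    ∀ a ∈ A, ∀ b ∈ A, a * b = b * a := by
  obtain ⟨N, hNn, hodd, hidx, hmem⟩ := Cfsg.Agent.Lib.InvolutionKernel.exists_odd_index_two ht ht1 hC
  have hoddp : ∀ {B : Subgroup K}, IsPGroup p B → ∀ b ∈ B, Odd (orderOf b) := by
    intro B hB b hb
    obtain ⟨k, hk⟩ := IsPGroup.iff_orderOf.1 hB ⟨b, hb⟩
    rw [Subgroup.orderOf_mk] at hk
    rw [hk]
    exact (hp.out.odd_of_ne_two hp2).pow
  have hAN : A ≤ N := fun a ha => (hmem a).2 (hoddp hA a ha)
  have hT : IsPGroup 2 (zpowers t) := by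
    refine IsPGroup.of_card (n := 1) ?_
    rw [Nat.card_zpowers, pow_one]
    exact orderOf_eq_prime (by rw [pow_two, ht]) ht1
  obtain ⟨S, ⟨T, hTS⟩, hS⟩ := Cfsg.Agent.Lib.PGroupCoprimeAction.exists_invariant_sylow hT
    (H := N) (by rw [← even_iff_two_dvd, Nat.not_even_iff_odd]; exact hodd)
    (fun b _ u hu => hNn.conj_mem u hu b) p
  have hSp : IsPGroup p S := by
    rw [← hTS]
    exact T.2.map _
  have hti : t⁻¹ = t := inv_eq_of_mul_eq_one_right ht
  -- `t` acts on `S` without fixed points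
  let φ : S →* S :=
    { toFun := fun u => ⟨t * u * t⁻¹, hS t (mem_zpowers t) u u.2⟩
      map_one' := Subtype.ext (by simp)
      map_mul' := fun u v => Subtype.ext (by
        show t * (u * v) * t⁻¹ = t * u * t⁻¹ * (t * v * t⁻¹)
        group) }
  have hφ : MonoidHom.FixedPointFree φ := by
    intro u hu
    by_contra hu1
    have h1 : t * (u : K) * t⁻¹ = u := congrArg Subtype.val hu
    obtain ⟨k, hk⟩ := IsPGroup.iff_orderOf.1 hSp u
    have hk0 : k ≠ 0 := by
      rintro rfl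
      rw [pow_zero, orderOf_eq_one_iff] at hk
      exact hu1 hk
    obtain ⟨j, rfl⟩ := Nat.exists_eq_succ_of_ne_zero hk0
    have h2 : orderOf ((u : K) ^ p ^ j) = p := by
      rw [orderOf_pow_of_dvd (pow_ne_zero _ hp.out.ne_zero), orderOf_coe, hk, Nat.pow_succ,
        Nat.mul_div_cancel_left _ (pow_pos hp.out.pos _)]
      rw [orderOf_coe, hk]
      exact pow_dvd_pow p (Nat.le_succ j)
    refine hfix _ h2 ?_
    have h3 : Commute t (u : K) := by
      show t * (u : K) = u * t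
      rw [mul_inv_eq_iff_eq_mul] at h1
      exact h1
    exact (h3.pow_right _).eq
  have hinv : Function.Involutive φ := by
    intro u
    apply Subtype.ext
    show t * (t * (u : K) * t⁻¹) * t⁻¹ = u
    rw [hti]
    calc t * (t * (u : K) * t) * t = (t * t) * u * (t * t) := by group
      _ = u := by rw [ht, one_mul, mul_one]
  have hcomm := fun u v : S => hφ.commute_all_of_involutive hinv u v
  -- transport to `A`
  have hA' : IsPGroup p (A.subgroupOf N) := hA.comap_of_injective N.subtype (subtype_injective N)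
  obtain ⟨T', hT'⟩ := hA'.exists_le_sylow
  obtain ⟨n, hn⟩ := MulAction.exists_smul_eq N T' T
  have key : ∀ a ∈ A, (n : K) * a * (n : K)⁻¹ ∈ S := by
    intro a ha
    have h1 : (⟨a, hAN ha⟩ : N) ∈ (T' : Subgroup N) := hT' ha
    have h2 : n * ⟨a, hAN ha⟩ * n⁻¹ ∈ (T : Subgroup N) := by
      rw [← hn]
      exact Subgroup.smul_mem_pointwise_smul (m := (⟨a, hAN ha⟩ : N)) (a := MulAut.conj n) (S := (T' : Subgroup N)) h1
    rw [← hTS]
    exact ⟨_, h2, rfl⟩
  intro a ha b hb
  have h1 := congrArg Subtype.val (hcomm ⟨_, key a ha⟩ ⟨_, key b hb⟩).eq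
  have h2 : (n : K) * a * (n : K)⁻¹ * ((n : K) * b * (n : K)⁻¹) =
    (n : K) * b * (n : K)⁻¹ * ((n : K) * a * (n : K)⁻¹) := h1
  have h3 : (n : K) * (a * b) * (n : K)⁻¹ = (n : K) * (b * a) * (n : K)⁻¹ := by
    calc (n : K) * (a * b) * (n : K)⁻¹ = (n : K) * a * (n : K)⁻¹ * ((n : K) * b * (n : K)⁻¹) := by group
      _ = _ := h2
      _ = (n : K) * (b * a) * (n : K)⁻¹ := by group
  exact mul_left_cancel (mul_right_cancel h3)

/-- `NC p q` from an element `y` of order `q`, an involution commuting with it and a nonabelian `p`-group; the Sylow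
`q`-subgroups have order `q`. -/
theorem nc_of_invol {X : Type*} [Group X] [Finite X] {p q : ℕ} (hp : p.Prime) (hq : q.Prime) (hpq : p ≠ q) (hp2 : p ≠ 2)
    (hd : q ∣ Nat.card X) (hq2 : ¬ q ^ 2 ∣ Nat.card X) {y t : X} (hy : orderOf y = q) (ht : t * t = 1) (ht1 : t ≠ 1)
    (hty : t * y = y * t)
    (h4 : ¬ 4 ∣ Nat.card (centralizer ({t} : Set X) ⊓ centralizer ({y} : Set X) : Subgroup X))
    (hpc : ¬ p ∣ Nat.card (centralizer ({t} : Set X) ⊓ centralizer ({y} : Set X) : Subgroup X))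
    (A : Subgroup X) (hA : IsPGroup p A) {a b : X} (ha : a ∈ A) (hb : b ∈ A) (hab : a * b ≠ b * a) : NC p q X := by
  have hFp : Fact p.Prime := ⟨hp⟩
  have hFq : Fact q.Prime := ⟨hq⟩
  refine nc_of_group hp hq hpq hd A hA fun y' hy' hc => hab ?_
  -- `y'` is conjugate to a generator of `⟨y⟩`
  obtain ⟨g, hg⟩ : ∃ g : X, ∃ i : ℤ, g * y' * g⁻¹ = y ^ i := by
    have h1 : IsPGroup q (zpowers y) := IsPGroup.of_card (n := 1) (by rw [Nat.card_zpowers, hy, pow_one])
    have h2 : IsPGroup q (zpowers y') := IsPGroup.of_card (n := 1) (by rw [Nat.card_zpowers, hy', pow_one])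
    obtain ⟨Q, hQ⟩ := h1.exists_le_sylow
    obtain ⟨Q', hQ'⟩ := h2.exists_le_sylow
    have hQc : Nat.card (Q : Subgroup X) ≤ q := by
      obtain ⟨k, hk⟩ := IsPGroup.iff_card.1 Q.2
      rw [hk]
      have h4 : k < 2 := by
        by_contra hk2
        refine hq2 ((Nat.pow_dvd_pow q (not_lt.1 hk2)).trans ?_)
        rw [← hk]; exact card_subgroup_dvd_card _
      calc q ^ k ≤ q ^ 1 := Nat.pow_le_pow_right hq.pos (by omega)
        _ = q := pow_one q
    have hQe : (Q : Subgroup X) = zpowers y := by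
      symm
      refine Subgroup.eq_of_le_of_card_ge hQ ?_
      rw [Nat.card_zpowers, hy]
      exact hQc
    obtain ⟨g, hg⟩ := MulAction.exists_smul_eq X Q' Q
    have h5 : g * y' * g⁻¹ ∈ (Q : Subgroup X) := by
      rw [← hg]
      exact Subgroup.smul_mem_pointwise_smul (m := y') (a := MulAut.conj g) (S := (Q' : Subgroup X))
        (hQ' (mem_zpowers y'))
    rw [hQe] at h5
    obtain ⟨i, hi⟩ := h5
    exact ⟨g, i, hi.symm⟩
  obtain ⟨i, hi⟩ := hg
  -- `y` is a power of the conjugate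
  have hy1 : y ∈ zpowers (g * y' * g⁻¹) := by
    have h1 : g * y' * g⁻¹ ∈ zpowers y := by rw [hi]; exact zpow_mem (mem_zpowers y) i
    have h2 : zpowers (g * y' * g⁻¹) = zpowers y := by
      refine Subgroup.eq_of_le_of_card_ge (by rwa [zpowers_le]) ?_
      rw [Nat.card_zpowers, Nat.card_zpowers, hy]
      have h3 : orderOf (g * y' * g⁻¹) = q := by
        rw [← hy']; exact MulEquiv.orderOf_eq (MulAut.conj g) y'
      rw [h3]
    rw [h2]
    exact mem_zpowers y
  -- the conjugate of `A` centralises `y`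
  have hAc : ∀ c ∈ A, (g * c * g⁻¹) * y = y * (g * c * g⁻¹) := by
    intro c hcA
    obtain ⟨j, hj⟩ := hy1
    have h1 : Commute (g * c * g⁻¹) (g * y' * g⁻¹) := by
      show g * c * g⁻¹ * (g * y' * g⁻¹) = g * y' * g⁻¹ * (g * c * g⁻¹)
      have := hc c hcA
      calc g * c * g⁻¹ * (g * y' * g⁻¹) = g * (c * y') * g⁻¹ := by group
        _ = g * (y' * c) * g⁻¹ := by rw [this]
        _ = _ := by group
    have h2 := (h1.zpow_right j).eq
    have h3 : (g * y' * g⁻¹) ^ j = y := hj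
    rw [h3] at h2
    exact h2
  set K := centralizer ({y} : Set X) with hK
  let tK : K := ⟨t, mem_centralizer_singleton_iff.2 hty⟩
  -- the centraliser of `t` in `K`
  have hle : ∀ d : ℕ, d ∣ Nat.card (centralizer ({tK} : Set K)) →
      d ∣ Nat.card (centralizer ({t} : Set X) ⊓ centralizer ({y} : Set X) : Subgroup X) := by
    intro d hd
    refine hd.trans ?_
    rw [← card_map_of_injective (f := K.subtype) (subtype_injective K)]
    apply card_dvd_of_le
    rintro _ ⟨u, hu, rfl⟩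
    refine mem_inf.2 ⟨?_, u.2⟩
    rw [mem_centralizer_singleton_iff]
    exact congrArg Subtype.val (mem_centralizer_singleton_iff.1 hu)
  have hcomm := comm_of_inv (K := K) (t := tK) (Subtype.ext ht) (fun h => ht1 (congrArg Subtype.val h))
    (fun h => h4 (hle 4 h)) hp2 (fun x hx hc => hpc (hle p (by
      have hxm : x ∈ centralizer ({tK} : Set K) := mem_centralizer_singleton_iff.2 hc.symm
      rw [← hx, ← Subgroup.orderOf_mk x hxm]
      exact orderOf_dvd_natCard _)))
    ((A.map (MulAut.conj g).toMonoidHom).subgroupOf K) ((hA.map _).comap_of_injective K.subtype (subtype_injective K))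
  have h1 := hcomm ⟨g * a * g⁻¹, mem_centralizer_singleton_iff.2 (hAc a ha)⟩
    (mem_subgroupOf.2 ⟨a, ha, rfl⟩) ⟨g * b * g⁻¹, mem_centralizer_singleton_iff.2 (hAc b hb)⟩
    (mem_subgroupOf.2 ⟨b, hb, rfl⟩)
  have h2 : g * a * g⁻¹ * (g * b * g⁻¹) = g * b * g⁻¹ * (g * a * g⁻¹) := congrArg Subtype.val h1
  have h3 : g * (a * b) * g⁻¹ = g * (b * a) * g⁻¹ := by
    calc g * (a * b) * g⁻¹ = g * a * g⁻¹ * (g * b * g⁻¹) := by group
      _ = _ := h2
      _ = g * (b * a) * g⁻¹ := by group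
  exact mul_left_cancel (mul_right_cancel h3)

open Cfsg.Agent.SporRec.TwoAn Equiv in
/-- Frobenius relations lift through double covers of alternating groups. -/
theorem fr_lift {n : ℕ} {C : Type*} [Group C] (K : Cover (Fin n) C) {p q : ℕ} (hp : p.Prime) (hq : q.Prime)
    (hp2 : p ≠ 2) (hq2 : q ≠ 2) {σ τ : Perm (Fin n)} (hσ : Perm.sign σ = 1) (hτ : Perm.sign τ = 1) (hσp : σ ^ p = 1)
    (hτq : τ ^ q = 1) {m : ℕ} (hm : σ * τ * σ⁻¹ = τ ^ m) (hne : σ * τ ≠ τ * σ) : Fr p q C := by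
  have lift : ∀ (r : ℕ), Odd r → ∀ ρ : Perm (Fin n), Perm.sign ρ = 1 → ρ ^ r = 1 → ∃ u : C, K.π u = ρ ∧ u ^ r = 1 := by
    intro r hr ρ hρ hρr
    have h1 : ρ ∈ K.π.range := by rw [K.range_eq]; exact Perm.mem_alternatingGroup.2 hρ
    obtain ⟨u, rfl⟩ := h1
    have h2 : K.π (u ^ r) = 1 := by rw [map_pow, hρr]
    have h3 : (u ^ r) ^ 2 = 1 := by
      rcases (K.ker _).1 h2 with h | h
      · rw [h, one_pow]
      · rw [h]; exact K.z_pow_two
    refine ⟨u ^ (r + 1), ?_, ?_⟩
    · rw [map_pow, pow_succ, hρr, one_mul]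
    · obtain ⟨k, hk⟩ := hr
      have : (r + 1) * r = r * 2 * (k + 1) := by rw [hk]; ring
      rw [← pow_mul, this, pow_mul, pow_mul, h3, one_pow]
  obtain ⟨u, hu, hup⟩ := lift p (hp.odd_of_ne_two hp2) σ hσ hσp
  obtain ⟨y, hy, hyq⟩ := lift q (hq.odd_of_ne_two hq2) τ hτ hτq
  have hz : ∀ g, g * K.z = K.z * g := K.z_comm
  have hrel : u * y * u⁻¹ = y ^ m := by
    have h1 : K.π (u * y * u⁻¹ * (y ^ m)⁻¹) = 1 := by
      rw [map_mul, map_mul, map_mul, map_inv, map_inv, map_pow, hu, hy, hm, mul_inv_cancel]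
    rcases (K.ker _).1 h1 with h | h
    · exact mul_inv_eq_one.1 h
    · exfalso
      have h2 : u * y * u⁻¹ = K.z * y ^ m := mul_inv_eq_iff_eq_mul.1 h
      have h3 : (u * y * u⁻¹) ^ q = 1 := by rw [conj_pow, hyq, mul_one, mul_inv_cancel]
      rw [h2, (show Commute K.z (y ^ m) from (hz _).symm).mul_pow, ← pow_mul, mul_comm m q, pow_mul, hyq, one_pow,
        mul_one] at h3
      have h4 := orderOf_dvd_of_pow_eq_one h3
      rw [K.orderOf_z] at h4
      exact hq2 ((Nat.prime_dvd_prime_iff_eq Nat.prime_two hq).1 h4).symm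
  refine fr_of_rel hp hq hup hyq hrel ?_
  intro h
  apply hne
  rw [← hu, ← hy, ← map_mul, ← map_mul, h]

end Cfsg.Agent.H164.LyNH
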