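import Cfsg.Agent.H164.LyNHa
import Cfsg.Agent.R10.FiveComm
import Cfsg.Agent.Ly.McL.Main
import Cfsg.Agent.Ly.McL.ClassX
import Cfsg.Agent.TypeM.OutLyFin
import Cfsg.Agent.H393.Iso.McLLy
import Cfsg.Agent.NotCT.Orders

/-!
# Row of the nilpotent Hall cluster: `Ly`
-/

set_option autoImplicit false
set_option maxRecDepth 100000

open Subgroup

namespace Cfsg.Agent.H164.LyNH

open Cfsg Cfsg.Agent.H241.NH Cfsg.Agent.H630.NH Cfsg.Agent.H393.Iso
open Cfsg.Agent.Ly.Mat7 Cfsg.Agent.Ly.Pres Cfsg.Agent.Ly.WalkCtx Cfsg.Agent.Ly.McL.Main Cfsg.Agent.Ly.McL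
  Cfsg.Agent.Ly.Cover Cfsg.Agent.Ly.McL.Cosets

/-! ### Elements commuting with a regular unipotent element -/

section

variable {n : ℕ}

theorem pow_sub_mulVec {Y N : Matrix (Fin n) (Fin n) (ZMod 5)} (hc : Y * N = N * Y) {e : Fin n → ZMod 5} (he : e ≠ 0)
    (hNe : N.mulVec e = 0) (hker : ∀ v, N.mulVec v = 0 → ∃ c : ZMod 5, v = c • e) {k : ℕ} (hk : 0 < k) (hY : Y ^ k = 1)
    (i : ℕ) : ∀ v : Fin n → ZMod 5, (N ^ i).mulVec v = 0 → ((Y ^ 4 - 1) ^ i).mulVec v = 0 := by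
  have : Fact (Nat.Prime 5) := ⟨by norm_num⟩
  -- `Y` acts on `e` as a scalar
  obtain ⟨c, hYe⟩ := hker (Y.mulVec e) (by
    rw [Matrix.mulVec_mulVec, ← hc, ← Matrix.mulVec_mulVec, hNe, Matrix.mulVec_zero])
  have hpow : ∀ j : ℕ, (Y ^ j).mulVec e = c ^ j • e := by
    intro j
    induction j with
    | zero => simp
    | succ j ih => rw [pow_succ, ← Matrix.mulVec_mulVec, hYe, Matrix.mulVec_smul, ih, smul_smul, pow_succ, mul_comm]
  have hc0 : c ≠ 0 := by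
    rintro rfl
    have h1 := hpow k
    rw [hY, Matrix.one_mulVec, zero_pow hk.ne', zero_smul] at h1
    exact he h1
  have h4 : (Y ^ 4 - 1).mulVec e = 0 := by
    have h5 : c ^ 4 = 1 := ZMod.pow_card_sub_one_eq_one hc0
    rw [Matrix.sub_mulVec, hpow, h5, one_smul, Matrix.one_mulVec, sub_self]
  have hker' : ∀ v, N.mulVec v = 0 → (Y ^ 4 - 1).mulVec v = 0 := by
    intro v hv
    obtain ⟨d, rfl⟩ := hker v hv
    rw [Matrix.mulVec_smul, h4, smul_zero]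
  have hcomm : ∀ j : ℕ, (Y ^ 4 - 1) * N ^ j = N ^ j * (Y ^ 4 - 1) := by
    intro j
    have h1 : Commute Y N := hc
    exact ((h1.pow_left 4).sub_left (Commute.one_left N)).pow_right j
  induction i with
  | zero =>
    intro v hv
    rw [pow_zero, Matrix.one_mulVec] at hv ⊢
    exact hv
  | succ i ih =>
    intro v hv
    rw [pow_succ, ← Matrix.mulVec_mulVec]
    apply ih
    rw [Matrix.mulVec_mulVec, ← hcomm, ← Matrix.mulVec_mulVec]
    apply hker'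
    rw [Matrix.mulVec_mulVec, ← pow_succ']
    exact hv

theorem pow_hundred {Y N : Matrix (Fin 7) (Fin 7) (ZMod 5)} (hc : Y * N = N * Y) {e : Fin 7 → ZMod 5} (he : e ≠ 0)
    (hNe : N.mulVec e = 0) (hker : ∀ v, N.mulVec v = 0 → ∃ c : ZMod 5, v = c • e) (hN : N ^ 7 = 0) {k : ℕ} (hk : 0 < k)
    (hY : Y ^ k = 1) : Y ^ 100 = 1 := by
  have : Fact (Nat.Prime 5) := ⟨by norm_num⟩
  have h1 : (Y ^ 4 - 1) ^ 7 = 0 := by
    apply Matrix.ext_of_mulVec_single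
    intro i
    rw [pow_sub_mulVec hc he hNe hker hk hY 7 _ (by rw [hN, Matrix.zero_mulVec]), Matrix.zero_mulVec]
  have h2 : (Y ^ 4 - 1) ^ 5 ^ 2 = 0 := by
    have : (5 : ℕ) ^ 2 = 7 + 18 := by norm_num
    rw [this, pow_add, h1, zero_mul]
  rw [sub_pow_char_pow_of_commute (p := 5) (h := Commute.one_right (Y ^ 4)), one_pow, sub_eq_zero, ← pow_mul] at h2
  exact h2

end

/-- the word of a regular unipotent element of `G₂(5)` -/
def uw : List ℕ := [1, 4, 2, 0]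

/-- its matrix -/
def Um : Matrix (Fin 7) (Fin 7) (ZMod 5) :=
  !![1, 0, 0, 2, 1, 2, 1; 1, 1, 4, 2, 0, 3, 4; 0, 0, 1, 0, 0, 4, 4; 0, 0, 1, 1, 0, 4, 0; 0, 0, 1, 2, 1, 3, 1;
    0, 0, 0, 0, 0, 1, 0; 0, 0, 0, 0, 0, 1, 1]

/-- the nilpotent part -/
def Nm : Matrix (Fin 7) (Fin 7) (ZMod 5) :=
  !![0, 0, 0, 2, 1, 2, 1; 1, 0, 4, 2, 0, 3, 4; 0, 0, 0, 0, 0, 4, 4; 0, 0, 1, 0, 0, 4, 0; 0, 0, 1, 2, 0, 3, 1;
    0, 0, 0, 0, 0, 0, 0; 0, 0, 0, 0, 0, 1, 0]

/-- an almost left inverse of `Nm` -/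
def Cm : Matrix (Fin 7) (Fin 7) (ZMod 5) :=
  !![0, 1, 3, 2, 4, 0, 0; 0, 0, 0, 0, 0, 0, 0; 0, 0, 0, 1, 0, 0, 1; 0, 0, 3, 2, 3, 0, 1; 1, 0, 0, 1, 4, 0, 2;
    0, 0, 0, 0, 0, 0, 1; 0, 0, 4, 0, 0, 0, 4]

/-- decidable equality -/
local instance decZFive : DecidableEq (ZMod 5) := inferInstanceAs (DecidableEq (Fin 5))

theorem Um_eq : ((ev gen uw : GL (Fin 7) (ZMod 5)) : Matrix (Fin 7) (Fin 7) (ZMod 5)) = Um := by
  have h1 := (evalK_spec uw oneN_ok).2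
  rw [toM_oneN, Matrix.one_mul] at h1
  rw [← h1]
  decide +kernel

theorem Nm_eq : Um = Nm + 1 := by decide +kernel

theorem Cm_mul : Cm * Nm = 1 - Matrix.vecMulVec (Pi.single 1 1) (Pi.single 1 1) := by decide +kernel

theorem Nm_pow : Nm ^ 7 = 0 := by
  have h2 : Nm ^ 7 = Nm * Nm * (Nm * Nm) * (Nm * Nm * Nm) := by
    simp only [pow_succ, pow_zero, one_mul, mul_assoc]
  rw [h2]
  decide +kernel

theorem Nm_single : Nm.mulVec (Pi.single 1 1) = 0 := by decide +kernel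

theorem single_ne : (Pi.single 1 1 : Fin 7 → ZMod 5) ≠ 0 := by decide +kernel

theorem Nm_ker (v : Fin 7 → ZMod 5) (hv : Nm.mulVec v = 0) : ∃ c : ZMod 5, v = c • (Pi.single 1 1 : Fin 7 → ZMod 5) := by
  have h1 : (Cm * Nm).mulVec v = 0 := by rw [← Matrix.mulVec_mulVec, hv, Matrix.mulVec_zero]
  rw [Cm_mul, Matrix.sub_mulVec, Matrix.one_mulVec, sub_eq_zero] at h1
  refine ⟨v 1, ?_⟩
  conv_lhs => rw [h1]
  ext i
  rw [Matrix.vecMulVec_mulVec]
  simp [mul_comm]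

/-- An element of finite order of `GL₇(5)` commuting with the regular unipotent element has order dividing 100. -/
theorem pow_hundred_of_commute {Y : GL (Fin 7) (ZMod 5)} (h : Y * ev gen uw = ev gen uw * Y) : Y ^ 100 = 1 := by
  have h1 : (Y : Matrix (Fin 7) (Fin 7) (ZMod 5)) * Um = Um * Y := by
    have := congrArg Units.val h
    rwa [Units.val_mul, Units.val_mul, Um_eq] at this
  rw [Nm_eq, mul_add, add_mul, mul_one, one_mul, add_left_inj] at h1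
  have h2 : (Y : Matrix (Fin 7) (Fin 7) (ZMod 5)) ^ orderOf Y = 1 := by
    rw [← Units.val_pow_eq_pow_val, pow_orderOf_eq_one, Units.val_one]
  have h3 := pow_hundred h1 single_ne Nm_single Nm_ker Nm_pow (orderOf_pos Y) h2
  apply Units.ext
  rw [Units.val_pow_eq_pow_val, h3, Units.val_one]

/-! ### The centraliser of a Sylow 5-subgroup -/

/-- the data -/
noncomputable abbrev D : Cfsg.Agent.Ly.Upper.Data gens := Cfsg.Agent.Ly.Index.data

theorem cardLy : Nat.card Spor.Ly = 51765179004000000 := Cfsg.Agent.Ly.Setup.card_ly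

theorem nn_dvd : ∀ j : Fin 5, 5 ^ 6 ∣ nn j → j = 0 := by decide +kernel

/-- An element centralising a subgroup of order divisible by `5 ^ 6` of `HH` lies in `HH`. -/
theorem mem_HH_of_comm (A : Subgroup Spor.Ly) (hA : A ≤ HH gens) (h5 : 5 ^ 6 ∣ Nat.card A) {g : Spor.Ly}
    (hg : ∀ a ∈ A, a * g = g * a) : g ∈ HH gens := by
  have hfin : Finite Spor.Ly := Cfsg.Agent.Ly.Setup.finite_ly
  obtain ⟨i, hi, h1, hh1, h2, hh2, hw⟩ := D.double_cosets closure_gens g⁻¹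
  have hw' : g = h2⁻¹ * w gens ⟨i, hi⟩ * h1⁻¹ := by
    rw [← inv_inv g, hw, w]
    group
  have h3 : A.map (MulAut.conj h2).toMonoidHom ≤ KK (HH gens) (w gens ⟨i, hi⟩) := by
    rintro _ ⟨a, ha, rfl⟩
    show h2 * a * h2⁻¹ ∈ _
    rw [mem_KK]
    refine ⟨mul_mem (mul_mem hh2 (hA ha)) (inv_mem hh2), ?_⟩
    have h4 : (w gens ⟨i, hi⟩)⁻¹ * (h2 * a * h2⁻¹) * w gens ⟨i, hi⟩ = h1⁻¹ * (g⁻¹ * a * g) * h1 := by
      rw [hw']
      group
    rw [h4]
    have h5 : g⁻¹ * a * g = a := by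
      rw [mul_assoc, hg a ha]
      group
    rw [h5]
    exact mul_mem (mul_mem (inv_mem hh1) (hA ha)) hh1
  have h4 := (Main.exact D closure_gens cardLy ⟨i, hi⟩)
  have h5' : 5 ^ 6 ∣ nn ⟨i, hi⟩ := by
    rw [← h4.2, h4.1]
    refine h5.trans ?_
    have h6 := card_dvd_of_le h3
    rwa [Subgroup.card_map_of_injective (MulAut.conj h2).injective] at h6
  have hi0 : i = 0 := congrArg Fin.val (nn_dvd ⟨i, hi⟩ h5')
  subst hi0
  have hw0 : w gens ⟨0, hi⟩ = 1 := by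
    show (base gens 0)⁻¹ = 1
    exact inv_one
  rw [hw', hw0, mul_one]
  exact mul_mem (inv_mem hh2) (inv_mem hh1)

/-! ### The facts for the prime 5 -/

open Cfsg.Agent.R10.FiveComm in
theorem U_le : (U : Subgroup Spor.Ly) ≤ HH gens := by
  rw [U, closure_le]
  rintro y (rfl | hy)
  · exact X4_mem gens 1
  · rw [Set.mem_singleton_iff] at hy
    rw [hy]
    exact ev_mem_HH gens [4, 2, 0]

open Cfsg.Agent.R10.FiveComm in
theorem u_mem : ev (X4 gens) uw ∈ (U : Subgroup Spor.Ly) := by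
  have h1 : ev (X4 gens) uw = gens 1 * ev (X4 gens) [4, 2, 0] := by
    rw [uw, ev_cons]
    rfl
  rw [h1]
  exact mul_mem (subset_closure (Or.inl rfl)) (subset_closure (Or.inr rfl))

open Cfsg.Agent.R10.FiveComm in
theorem isPGroup_U : IsPGroup 5 (U : Subgroup Spor.Ly) := by
  have : Fact (Nat.Prime 5) := ⟨by norm_num⟩
  exact IsPGroup.of_card (n := 6) (by rw [card_U]; norm_num)

open Cfsg.Agent.R10.FiveComm in
/-- `NC 5 q` for all primes `q ≠ 2, 5`. -/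
theorem nc_five {q : ℕ} (hq : q.Prime) (hq2 : q ≠ 2) (hq5 : q ≠ 5) (hd : q ∣ Nat.card Spor.Ly) : NC 5 q Spor.Ly := by
  have hfin : Finite Spor.Ly := Cfsg.Agent.Ly.Setup.finite_ly
  refine nc_of_group (by norm_num) hq (Ne.symm hq5) hd U isPGroup_U fun y hy hc => ?_
  have h1 : y ∈ HH gens := mem_HH_of_comm U U_le (by rw [card_U]; norm_num) hc
  rw [← D.range_φ] at h1
  obtain ⟨m, rfl⟩ := h1
  have hinj := injective_φ D closure_gens cardLy
  have h2 : (m : GL (Fin 7) (ZMod 5)) * ev gen uw = ev gen uw * m := by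
    have h3 : D.φ m * D.φ (ev Cfsg.Agent.Ly.Upper.Data.hgen uw) = D.φ (ev Cfsg.Agent.Ly.Upper.Data.hgen uw) * D.φ m := by
      rw [D.φ_ev]
      exact (hc _ u_mem).symm
    rw [← map_mul, ← map_mul] at h3
    have h4 := congrArg Subtype.val (hinj h3)
    rw [Subgroup.coe_mul, Subgroup.coe_mul, Cfsg.Agent.Ly.Upper.Data.coe_ev] at h4
    exact h4
  have h3 : m ^ 100 = 1 := Subtype.ext (by
    rw [Subgroup.coe_pow]
    exact pow_hundred_of_commute h2)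
  have h4 : orderOf (D.φ m) ∣ 100 := orderOf_dvd_of_pow_eq_one (by rw [← map_pow, h3, map_one])
  rw [hy] at h4
  have h5 : (100 : ℕ) = 2 ^ 2 * 5 ^ 2 := by norm_num
  rw [h5] at h4
  rcases hq.dvd_mul.1 h4 with h | h
  · exact hq2 ((Nat.prime_dvd_prime_iff_eq hq Nat.prime_two).1 (hq.dvd_of_dvd_pow h))
  · exact hq5 ((Nat.prime_dvd_prime_iff_eq hq Nat.prime_five).1 (hq.dvd_of_dvd_pow h))

end Cfsg.Agent.H164.LyNH
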