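import Cfsg.Agent.H164.LyNHb

/-!
# Row of the nilpotent Hall cluster: `Ly` (the prime 3, and the row)
-/

set_option autoImplicit false
set_option maxRecDepth 100000

open Subgroup

namespace Cfsg.Agent.H164.LyNH

open Cfsg Cfsg.Agent.H241.NH Cfsg.Agent.H630.NH Cfsg.Agent.H393.Iso
open Cfsg.Agent.Ly.Mat7 Cfsg.Agent.Ly.Pres Cfsg.Agent.Ly.WalkCtx Cfsg.Agent.Ly.McL.Main Cfsg.Agent.Ly.McL
  Cfsg.Agent.Ly.Cover Cfsg.Agent.Ly.McL.Cosets

/-! ### The element `x` with `C(x) = 3.McL` -/

/-- the element -/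
noncomputable def x₀ : Spor.Ly := ev (X4 gens) Cfsg.Agent.Ly.McL.Data.xw

theorem x₀_order : orderOf x₀ = 3 := order_x' D closure_gens cardLy

theorem x₀_card : Nat.card (centralizer ({x₀} : Set Spor.Ly)) = 2694384000 :=
  have : Finite Spor.Ly := Cfsg.Agent.Ly.Setup.finite_ly
  (Main.main D closure_gens cardLy
    (Cfsg.Agent.Ly.McL.ClassX.card_centralizer_x_le Cfsg.Agent.Ly.T1.card_Hhat)).1

theorem nc_three_big {q : ℕ} (hq : q.Prime) (hq3 : 3 ≠ q) (hd : q ∣ 51765179004000000) (hn : ¬ q ∣ 2694384000) :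
    NC 3 q Spor.Ly := by
  have hfin : Finite Spor.Ly := Cfsg.Agent.Ly.Setup.finite_ly
  refine nc_of_card (a := 1) hq hq3 ⟨1, by rw [x₀_order, pow_one]⟩ ?_ ?_
  · rw [cardLy, pow_one]; exact hd
  · rw [x₀_card, pow_one]; exact hn

/-! ### A nonabelian 3-group -/

open Cfsg.Agent.TypeM.OutLyFin in
theorem w1_pow : eqW (w1 ++ w1 ++ w1) [] = true := by decide +kernel

open Cfsg.Agent.TypeM.OutLyFin in
theorem w2_pow : eqW (w2 ++ w2 ++ w2) [] = true := by decide +kernel

/-- the generators -/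
noncomputable def a₁ : Spor.Ly := ev (X4 gens) Cfsg.Agent.TypeM.OutLyFin.w1

/-- the generators -/
noncomputable def a₂ : Spor.Ly := ev (X4 gens) Cfsg.Agent.TypeM.OutLyFin.w2

theorem a₁_pow : a₁ ^ 3 = 1 := by
  have h := D.wp _ _ w1_pow
  rw [ev_append, ev_append, ev_nil] at h
  rw [pow_succ, pow_two]; exact h

theorem a₂_pow : a₂ ^ 3 = 1 := by
  have h := D.wp _ _ w2_pow
  rw [ev_append, ev_append, ev_nil] at h
  rw [pow_succ, pow_two]; exact h

theorem a₁_comm : a₁ * x₀ = x₀ * a₁ := by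
  have h := D.wp _ _ Cfsg.Agent.TypeM.OutLyFin.chk1
  rwa [ev_append, ev_append] at h

theorem a₂_comm : a₂ * x₀ = x₀ * a₂ := by
  have h := D.wp _ _ Cfsg.Agent.TypeM.OutLyFin.chk2
  rwa [ev_append, ev_append] at h

theorem a_rel : x₀ * (a₁ * a₂) = a₂ * a₁ := by
  have h := D.wp _ _ Cfsg.Agent.TypeM.OutLyFin.chk3
  rwa [ev_append, ev_append, ev_append] at h

theorem x₀_pow : x₀ ^ 3 = 1 := by rw [← x₀_order, pow_orderOf_eq_one]

/-- the 3-group -/
noncomputable def A3 : Subgroup Spor.Ly := zpowers a₁ ⊔ (zpowers a₂ ⊔ zpowers x₀)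

theorem isPGroup_zp {g : Spor.Ly} (h : g ^ 3 = 1) : IsPGroup 3 (zpowers g) :=
  IsPGroup.of_surjective (G := zpowers g) (H := zpowers g) (by
    rintro ⟨y, i, rfl⟩
    refine ⟨1, Subtype.ext ?_⟩
    show (g ^ i) ^ 3 ^ 1 = 1
    rw [pow_one, ← zpow_natCast, ← zpow_mul, mul_comm, zpow_mul, zpow_natCast, h, one_zpow])
    (MonoidHom.id _) Function.surjective_id

theorem mem_norm {G : Type*} [Group G] [Finite G] {A : Subgroup G} {g : G} (h : ∀ t ∈ A, g * t * g⁻¹ ∈ A) :
    g ∈ normalizer (A : Set G) := by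
  have h1 : A.map (MulAut.conj g).toMonoidHom = A := by
    refine Subgroup.eq_of_le_of_card_ge ?_ ?_
    · rintro _ ⟨t, ht, rfl⟩
      exact h t ht
    · rw [Subgroup.card_map_of_injective (MulAut.conj g).injective]
  rw [mem_normalizer_iff]
  intro t
  refine ⟨fun ht => h t ht, fun ht => ?_⟩
  have h2 : g * t * g⁻¹ ∈ A.map (MulAut.conj g).toMonoidHom := by rw [h1]; exact ht
  obtain ⟨s, hs, hst⟩ := h2
  have h3 : g * s * g⁻¹ = g * t * g⁻¹ := hst
  have h4 : s = t := mul_left_cancel (mul_right_cancel h3)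
  rwa [← h4]

theorem isPGroup_A3 : IsPGroup 3 A3 := by
  have hfin : Finite Spor.Ly := Cfsg.Agent.Ly.Setup.finite_ly
  have h1 : IsPGroup 3 (zpowers a₂ ⊔ zpowers x₀ : Subgroup Spor.Ly) := by
    refine IsPGroup.to_sup_of_normal_right' (isPGroup_zp a₂_pow) (isPGroup_zp x₀_pow) ?_
    rw [zpowers_le]
    refine mem_norm fun t ht => ?_
    obtain ⟨n, rfl⟩ := mem_zpowers_iff.1 ht
    have h : Commute a₂ (x₀ ^ n) := (show Commute a₂ x₀ from a₂_comm).zpow_right n
    rw [h.eq, mul_inv_cancel_right]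
    exact ht
  refine IsPGroup.to_sup_of_normal_right' (isPGroup_zp a₁_pow) h1 ?_
  rw [zpowers_le]
  refine mem_norm fun t ht => ?_
  have h3 : (zpowers a₂ ⊔ zpowers x₀ : Subgroup Spor.Ly) ≤
      (zpowers a₂ ⊔ zpowers x₀ : Subgroup Spor.Ly).comap (MulAut.conj a₁).toMonoidHom := by
    rw [sup_le_iff, zpowers_le, zpowers_le, mem_comap, mem_comap]
    constructor
    · show a₁ * a₂ * a₁⁻¹ ∈ _
      have h4 : a₁ * a₂ * a₁⁻¹ = x₀⁻¹ * a₂ := by
        have h5 : a₁ * a₂ = x₀⁻¹ * (a₂ * a₁) := by rw [← a_rel]; group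
        rw [h5]; group
      rw [h4]
      exact mul_mem (inv_mem (mem_sup_right (mem_zpowers x₀))) (mem_sup_left (mem_zpowers a₂))
    · show a₁ * x₀ * a₁⁻¹ ∈ _
      rw [a₁_comm, mul_inv_cancel_right]
      exact mem_sup_right (mem_zpowers x₀)
  exact h3 ht

theorem a_not_comm : a₁ * a₂ ≠ a₂ * a₁ := by
  intro h
  have h1 := a_rel
  rw [← h] at h1
  have h2 : x₀ = 1 := mul_eq_right.1 h1
  have h3 := x₀_order
  rw [h2, orderOf_one] at h3
  exact absurd h3 (by norm_num)

/-! ### Permutations -/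

open Equiv in
/-- `i ↦ 2 i` on the first seven points -/
def s7 : Perm (Fin 11) where
  toFun i := ![0, 2, 4, 6, 1, 3, 5, 7, 8, 9, 10] i
  invFun i := ![0, 4, 1, 5, 2, 6, 3, 7, 8, 9, 10] i
  left_inv := by decide
  right_inv := by decide

open Equiv in
/-- a 7-cycle -/
def t7 : Perm (Fin 11) where
  toFun i := ![1, 2, 3, 4, 5, 6, 0, 7, 8, 9, 10] i
  invFun i := ![6, 0, 1, 2, 3, 4, 5, 7, 8, 9, 10] i
  left_inv := by decide
  right_inv := by decide

open Equiv in
theorem fr37 {C : Type*} [Group C] (K : Cfsg.Agent.SporRec.TwoAn.Cover (Fin 11) C) : Fr 3 7 C :=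
  fr_lift K (by norm_num) (by norm_num) (by norm_num) (by norm_num) (σ := s7) (τ := t7) (m := 2)
    (by decide +kernel) (by decide +kernel) (by decide +kernel) (by decide +kernel) (by decide +kernel)
    (by decide +kernel)

theorem nc_three_seven : NC 3 7 Spor.Ly := by
  have hfin : Finite Spor.Ly := Cfsg.Agent.Ly.Setup.finite_ly
  obtain ⟨L⟩ := Cfsg.Agent.TypeM.FactsLy.exists_mt_ly
  exact (Fr.sub (fr37 L.K)).nc (by norm_num) (by norm_num)

open Equiv Cfsg.Agent.SporRec.TwoAn in
theorem exists_eleven {C : Type*} [Group C] (K : Cover (Fin 11) C) :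
    ∃ y : C, orderOf y = 11 ∧ Nat.card (centralizer ({y} : Set C)) ∣ 22 := by
  have h1 : finRotate 11 ∈ K.π.range := by
    rw [K.range_eq, Perm.mem_alternatingGroup]
    decide +kernel
  obtain ⟨u, hu⟩ := h1
  have h11 : (finRotate 11) ^ 11 = 1 := by decide +kernel
  have h2 : K.π (u ^ 11) = 1 := by rw [map_pow, hu, h11]
  have h3 : (u ^ 11) ^ 2 = 1 := by
    rcases (K.ker _).1 h2 with h | h
    · rw [h, one_pow]
    · rw [h]; exact K.z_pow_two
  have hπ : K.π (u ^ 12) = finRotate 11 := by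
    rw [map_pow, hu, pow_succ, h11, one_mul]
  refine ⟨u ^ 12, ?_, ?_⟩
  · have : Fact (Nat.Prime 11) := ⟨by norm_num⟩
    refine orderOf_eq_prime ?_ ?_
    · have : 12 * 11 = 11 * 2 * 6 := by norm_num
      rw [← pow_mul, this, pow_mul, pow_mul, h3, one_pow]
    · intro h
      rw [h, map_one] at hπ
      exact absurd hπ (by decide +kernel)
  · refine (Cfsg.Agent.CpAut.Cyc.card_cent_dvd K (u ^ 12)).trans ?_
    rw [hπ]
    have hcyc : (finRotate 11).cycleType = {11} := cycleType_finRotate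
    have h4 : Nat.card (centralizer ({finRotate 11} : Set (Perm (Fin 11)))) = 11 := by
      rw [Perm.nat_card_centralizer, hcyc]
      simp
    rw [h4]

theorem nc_three_eleven : NC 3 11 Spor.Ly := by
  have hfin : Finite Spor.Ly := Cfsg.Agent.Ly.Setup.finite_ly
  obtain ⟨L⟩ := Cfsg.Agent.TypeM.FactsLy.exists_mt_ly
  obtain ⟨y, hy, hc⟩ := exists_eleven L.K
  have hcard : Nat.card (centralizer ({L.t} : Set Spor.Ly) ⊓ centralizer ({(y : Spor.Ly)} : Set Spor.Ly) :
      Subgroup Spor.Ly) ∣ 22 := by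
    refine dvd_trans ?_ hc
    rw [← card_map_of_injective (f := (centralizer ({L.t} : Set Spor.Ly)).subtype) (subtype_injective _)]
    apply card_dvd_of_le
    rintro g ⟨h1, h2⟩
    refine ⟨⟨g, h1⟩, ?_, rfl⟩
    change _ ∈ centralizer ({y} : Set (centralizer ({L.t} : Set Spor.Ly)))
    rw [mem_centralizer_singleton_iff]
    exact Subtype.ext (mem_centralizer_singleton_iff.1 h2)
  refine nc_of_invol (p := 3) (q := 11) (by norm_num) (by norm_num) (by norm_num) (by norm_num)
    (by rw [cardLy]; norm_num) (by rw [cardLy]; norm_num) (y := (y : Spor.Ly)) (t := L.t)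
    (by rw [orderOf_coe]; exact hy) L.t_mul_t ?_ ?_ ?_ ?_ A3 isPGroup_A3
    (mem_sup_left (mem_zpowers a₁)) (mem_sup_right (mem_sup_left (mem_zpowers a₂))) a_not_comm
  · intro h
    apply L.K.z_ne
    apply Subtype.ext
    rw [L.hz, h]
    rfl
  · exact (mem_centralizer_singleton_iff.1 y.2).symm
  · intro h
    have := h.trans hcard
    revert this
    norm_num
  · intro h
    have := h.trans hcard
    revert this
    norm_num

/-! ### The row -/

theorem row_Ly' : Row Spor.Ly := by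
  have hfin : Finite Spor.Ly := Cfsg.Agent.Ly.Setup.finite_ly
  obtain ⟨L⟩ := Cfsg.Agent.TypeM.FactsLy.exists_mt_ly
  have hfive : ∀ q, q.Prime → q ≠ 2 → q ≠ 5 → q ∣ 51765179004000000 → NC 5 q Spor.Ly := fun q hq h2 h5 hd =>
    nc_five hq h2 h5 (by rwa [cardLy])
  refine row_of (N := 51765179004000000) (k := 8) cardLy [3, 5, 7, 11, 31, 37, 67] [3, 5] [31, 37, 67] 7 []
    ?_ ?_ ?_ ?_ ?_ ?_ ?_ ?_
  · decide +kernel
  · decide +kernel
  · decide +kernel
  · exact ab_of_not_cube (by norm_num) (by rw [cardLy]; norm_num)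
  · intro p hp q hq hpq
    simp only [List.mem_cons, List.not_mem_nil, or_false] at hp hq
    rcases hp with rfl | rfl
    · rcases hq with rfl | rfl | rfl | rfl | rfl | rfl | rfl
      · exact absurd rfl hpq
      · exact (hfive 3 (by norm_num) (by norm_num) (by norm_num) (by norm_num)).symm
      · exact nc_three_seven
      · exact nc_three_eleven
      · exact nc_three_big (by norm_num) (by norm_num) (by norm_num) (by norm_num)
      · exact nc_three_big (by norm_num) (by norm_num) (by norm_num) (by norm_num)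
      · exact nc_three_big (by norm_num) (by norm_num) (by norm_num) (by norm_num)
    · rcases hq with rfl | rfl | rfl | rfl | rfl | rfl | rfl
      · exact hfive _ (by norm_num) (by norm_num) (by norm_num) (by norm_num)
      · exact absurd rfl hpq
      · exact hfive _ (by norm_num) (by norm_num) (by norm_num) (by norm_num)
      · exact hfive _ (by norm_num) (by norm_num) (by norm_num) (by norm_num)
      · exact hfive _ (by norm_num) (by norm_num) (by norm_num) (by norm_num)
      · exact hfive _ (by norm_num) (by norm_num) (by norm_num) (by norm_num)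
      · exact hfive _ (by norm_num) (by norm_num) (by norm_num) (by norm_num)
  · intro r hr
    simp only [List.mem_cons, List.not_mem_nil, or_false] at hr
    rcases hr with rfl | rfl | rfl
    · exact solv_of_na (by norm_num) (by rw [cardLy]; norm_num)
        (na_of_mt (by norm_num) (by norm_num) (by norm_num) L)
    · exact solv_of_na (by norm_num) (by rw [cardLy]; norm_num)
        (na_of_mt (by norm_num) (by norm_num) (by norm_num) L)
    · exact solv_of_na (by norm_num) (by rw [cardLy]; norm_num)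
        (na_of_mt (by norm_num) (by norm_num) (by norm_num) L)
  · intro a ha; exact absurd ha (by simp)
  · decide +kernel

/-- **The row `Ly`.** -/
theorem row_ly {G : Type*} [Group G] [Finite G] [IsSimpleGroup G] (h : Spor.IsoLy G) : Row G := by
  obtain ⟨e⟩ := h
  exact row_Ly'.congr e.symm

end Cfsg.Agent.H164.LyNH
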