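import Mathlib
import Cfsg.Agent.H531.RealMove
import Cfsg.Agent.H716.CopRow

/-!
# The criterion for `TRow` from field automorphisms

`TRow.of_field` : a homomorphism `h : Fˣ → K` which is equivariant under the field automorphisms of `K`, with small kernel,
and an element of order `r` (the characteristic of `F`) centralised by the image of `h`.
-/

set_option autoImplicit false

namespace Cfsg.Agent.H164.TRow

open Cfsg.Agent.H531 Cfsg.Agent.H716.CopRow Subgroup

/-- If a generator `u` of `Fˣ` is moved by `τ` into `u w` with `w ^ c = 1`, the order of `τ` is at most `c`. -/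
theorem orderOf_le {F : Type*} [Field F] [Finite F] {τ : F ≃+* F} {u : Fˣ} (hu : ∀ x : Fˣ, x ∈ zpowers u)
    {c : ℕ} (hc : 0 < c) {w : Fˣ} (hw : w ^ c = 1) (hτ : Units.map (τ : F →* F) u = u * w) : orderOf τ ≤ c := by
  classical
  have hfin : Finite (F ≃+* F) := Finite.of_injective (fun f : F ≃+* F => (f : F → F)) DFunLike.coe_injective
  -- the action of `τ ^ k` on the units
  let m : (F ≃+* F) →* Monoid.End Fˣ :=
    { toFun := fun σ => Units.map (σ : F →* F)
      map_one' := by
        apply MonoidHom.ext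
        intro x
        exact Units.ext rfl
      map_mul' := fun σ ρ => by
        apply MonoidHom.ext
        intro x
        exact Units.ext rfl }
  have hinj : ∀ σ ρ : F ≃+* F, m σ u = m ρ u → σ = ρ := by
    intro σ ρ h
    have h1 : m σ = m ρ := by
      apply MonoidHom.ext
      intro x
      obtain ⟨k, rfl⟩ := mem_zpowers_iff.1 (hu x)
      show Units.map (σ : F →* F) (u ^ k) = Units.map (ρ : F →* F) (u ^ k)
      have h' : Units.map (σ : F →* F) u = Units.map (ρ : F →* F) u := h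
      rw [map_zpow, map_zpow, h']
    ext x
    rcases eq_or_ne x 0 with hx | hx
    · rw [hx, map_zero, map_zero]
    · have := congrArg (fun f : Fˣ →* Fˣ => ((f (Units.mk0 x hx) : Fˣ) : F)) h1
      exact this
  have hk : ∀ k : ℕ, (m (τ ^ k) u * u⁻¹) ^ c = 1 := by
    intro k
    induction k with
    | zero =>
      rw [pow_zero, map_one]
      show (u * u⁻¹) ^ c = 1
      rw [mul_inv_cancel, one_pow]
    | succ k ih =>
      have h1 : m (τ ^ (k + 1)) u = m (τ ^ k) (m τ u) := by
        rw [pow_succ, map_mul]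
        rfl
      have h2 : m τ u = u * w := hτ
      rw [h1, h2, map_mul]
      have h3 : m (τ ^ k) u * m (τ ^ k) w * u⁻¹ = (m (τ ^ k) u * u⁻¹) * m (τ ^ k) w := by
        rw [mul_assoc, mul_comm (m (τ ^ k) w), ← mul_assoc]
      rw [h3, mul_pow, ih, one_mul, ← map_pow, hw, map_one]
  let f : Fin (orderOf τ) → rootsOfUnity c F := fun k => ⟨m (τ ^ (k : ℕ)) u * u⁻¹, by
    rw [mem_rootsOfUnity]
    exact hk k⟩
  have hf : Function.Injective f := by
    intro a b hab
    have h1 : m (τ ^ (a : ℕ)) u * u⁻¹ = m (τ ^ (b : ℕ)) u * u⁻¹ := congrArg Subtype.val hab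
    have h2 := hinj _ _ (mul_right_cancel h1)
    exact Fin.ext (pow_injOn_Iio_orderOf a.2 b.2 h2)
  have : NeZero c := ⟨hc.ne'⟩
  have h1 : Nat.card (Fin (orderOf τ)) ≤ Nat.card (rootsOfUnity c F) := Nat.card_le_card_of_injective f hf
  rw [Nat.card_eq_fintype_card, Fintype.card_fin] at h1
  exact h1.trans (card_rootsOfUnity F c)

/-- **The criterion.** -/
theorem of_field {r : ℕ} [hr : Fact r.Prime] {K : Type*} [Group K] [Finite K] {F : Type*} [Field F] [Finite F]
    [CharP F r] (φ : (F ≃+* F) →* MulAut K) (hco : FieldConj φ) (h : Fˣ →* K)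
    (hφ : ∀ (τ : F ≃+* F) (u : Fˣ), φ τ (h u) = h (Units.map (τ : F →* F) u))
    {c : ℕ} (hc : 0 < c) (hker : ∀ u : Fˣ, h u = 1 → u ^ c = 1)
    (hcp : ∀ p : ℕ, p.Prime → p ≤ c → p ∣ Nat.card K)
    {v : K} (hv : orderOf v = r) (hcomm : ∀ u : Fˣ, Commute (h u) v) : TRow r K := by
  intro p hp hpK α hα
  have hfin : Finite (F ≃+* F) := Finite.of_injective (fun f : F ≃+* F => (f : F → F)) DFunLike.coe_injective
  have hpf : Fact p.Prime := ⟨hp⟩
  obtain ⟨g, τ, hg⟩ := hco α (by rw [hα]; exact (Nat.Prime.coprime_iff_not_dvd hp).2 hpK)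
  obtain ⟨m, hm⟩ := MonoidHom.map_cyclic (Units.map (τ : F →* F))
  obtain ⟨u, hu⟩ := IsCyclic.exists_generator (α := Fˣ)
  have h2 : α = g⁻¹ * φ τ * g := by rw [← hg]; group
  have h3 : φ τ (h u) = h u ^ m := by
    rw [hφ, ← map_zpow, hm]
  have h4 : α (g⁻¹ (h u)) = g⁻¹ (h u ^ m) := by
    rw [h2]
    show g⁻¹ (φ τ (g (g⁻¹ (h u)))) = _
    rw [MulAut.apply_inv_self, h3]
  have ho : ∀ x : K, orderOf (g⁻¹ x) = orderOf x := fun x => MulEquiv.orderOf_eq g⁻¹ x
  refine ⟨g⁻¹ (h u), g⁻¹ v, (hcomm u).map g⁻¹, ?_, ?_, ?_, ?_⟩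
  · rw [ho, hv]
  · rw [ho, ho, hv]
    have h5 : orderOf (h u) ∣ Nat.card F - 1 := by
      refine (orderOf_map_dvd h u).trans ?_
      rw [← Nat.card_units]
      exact orderOf_dvd_natCard u
    refine Nat.Coprime.coprime_dvd_left h5 ?_
    rw [Nat.coprime_comm, hr.1.coprime_iff_not_dvd]
    intro hd
    have : Fintype F := Fintype.ofFinite F
    obtain ⟨n, _, hn⟩ := FiniteField.card F r
    rw [Nat.card_eq_fintype_card, hn] at hd
    have h6 : r ∣ r ^ (n : ℕ) := dvd_pow_self r n.ne_zero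
    have h7 : 1 ≤ r ^ (n : ℕ) := Nat.one_le_pow _ _ hr.1.pos
    have h8 : r ∣ 1 := by
      have := (Nat.dvd_sub_iff_right h7 h6).1 hd
      exact this
    exact hr.1.one_lt.ne' (Nat.dvd_one.1 h8)
  · rw [h4, map_zpow]
    exact zpow_mem (mem_zpowers _) _
  · intro h5
    rw [h4] at h5
    have h6 : h u ^ m = h u := g⁻¹.injective h5
    have h7 : h (u ^ (m - 1)) = 1 := by rw [map_zpow, zpow_sub_one, h6, mul_inv_cancel]
    have h8 := hker _ h7
    have h9 : Units.map (τ : F →* F) u = u * u ^ (m - 1) := by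
      rw [hm, zpow_sub_one, mul_comm, inv_mul_cancel_right]
    have h10 := orderOf_le hu hc h8 h9
    apply hpK
    apply hcp p hp
    have h11 : orderOf (φ τ) = p := by
      rw [← hα]
      refine (SemiconjBy.orderOf_eq g (x := α) (y := φ τ) ?_).symm
      show g * α = φ τ * g
      rw [← hg]; group
    have h12 : p ∣ orderOf τ := by
      rw [← h11]
      exact orderOf_map_dvd φ τ
    exact (Nat.le_of_dvd (orderOf_pos τ) h12).trans h10

end Cfsg.Agent.H164.TRow
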