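import Mathlib
import Cfsg.Prelude.Def_LieTypeChar
import Cfsg.Agent.H164.TRow
import Cfsg.Agent.H967.CopChev
import Cfsg.Agent.H254.CopMain
import Cfsg.Agent.S1032
import Cfsg.Agent.S1037
import Cfsg.Agent.ChevalleyStructure.HMatDiagAll

/-!
# `TRow` for the exceptional Chevalley groups
-/

set_option autoImplicit false

namespace Cfsg.Agent.H164.TRowExc

open Cfsg Cfsg.Lie Cfsg.Agent.H531 Cfsg.Agent.H716.CopRow Cfsg.Agent.H967.CopMat Cfsg.Agent.H967.CopRow
  Cfsg.Agent.H967.CopChev Cfsg.Agent.ChevStructure.FieldMap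
  Cfsg.Agent.ChevalleyStructure Cfsg.Agent.ChevalleyStructure.Elts Cfsg.Agent.ChevalleyStructure.SL2Hom
  Cfsg.Agent.ChevalleyStructure.HMatDiagAll

variable {D : ChevalleyDatum} {F : Type*} [Field F]

theorem phi_mem (hD : InList D) {a : ℕ} (ha : a < D.nroots) (g : Matrix.SpecialLinearGroup (Fin 2) F) :
    phi (SL2All.good_of_mem D hD a ha) F g ∈ D.group F := by
  have h : phi (SL2All.good_of_mem D hD a ha) F g ∈ (phi (SL2All.good_of_mem D hD a ha) F).range := ⟨g, rfl⟩
  rw [range_phi] at h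
  have h1 : D.rootSubgroup F a ≤ D.group F := by
    rw [rootSubgroup_eq_range hD]
    rintro _ ⟨t, rfl⟩
    exact xG_mem_group hD _ _
  have h2 : D.rootSubgroup F (D.neg a) ≤ D.group F := by
    rw [rootSubgroup_eq_range hD]
    rintro _ ⟨t, rfl⟩
    exact xG_mem_group hD _ _
  exact (sup_le h1 h2) h

/-- The homomorphism from `SL₂(F)` to the Chevalley group attached to a root. -/
noncomputable def sl (hD : InList D) {a : ℕ} (ha : a < D.nroots) (F : Type*) [Field F] :
    Matrix.SpecialLinearGroup (Fin 2) F →* ↥(D.group F) :=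
  (phi (SL2All.good_of_mem D hD a ha) F).codRestrict (D.group F) (phi_mem hD ha)

theorem coe_sl (hD : InList D) {a : ℕ} (ha : a < D.nroots) (g : Matrix.SpecialLinearGroup (Fin 2) F) :
    (sl hD ha F g : GL D.Idx F) = phi (SL2All.good_of_mem D hD a ha) F g := rfl

theorem mat_up (hD : InList D) {a : ℕ} (ha : a < D.nroots) (t : F) :
    ((sl hD ha F (up t) : GL D.Idx F) : Matrix D.Idx D.Idx F) = D.x F a t := by
  rw [coe_sl]
  exact phi_upper _ _ t rfl

theorem mat_lo (hD : InList D) {a : ℕ} (ha : a < D.nroots) (t : F) :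
    ((sl hD ha F (lo t) : GL D.Idx F) : Matrix D.Idx D.Idx F) = D.x F (D.neg a) t := by
  rw [coe_sl]
  exact phi_lower _ _ t rfl

theorem mat_diag (hD : InList D) {a : ℕ} (ha : a < D.nroots) (u : Fˣ) :
    ((sl hD ha F (diagSL F u) : GL D.Idx F) : Matrix D.Idx D.Idx F) = D.hMat F a (u : F) := by
  rw [coe_sl, coe_phi, hMat_eq_Phi (SL2All.good_of_mem D hD a ha) u.ne_zero, diagSL_coe]
  simp

/-- The root element `x_s(1)` in the group. -/
def xel (hD : InList D) (F : Type*) [Field F] (s : ℕ) (t : F) : ↥(D.group F) := ⟨xG hD s t, xG_mem_group hD s t⟩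

theorem xel_pow (hD : InList D) (s : ℕ) (k : ℕ) : (xel hD F s 1) ^ k = xel hD F s (k : F) := by
  induction k with
  | zero =>
    rw [pow_zero, Nat.cast_zero]
    exact Subtype.ext (xG_zero hD s).symm
  | succ k ih =>
    rw [pow_succ, ih, Nat.cast_succ]
    exact Subtype.ext (xG_add hD s _ _)

theorem orderOf_xel (hD : InList D) {s : ℕ} (hs : s < D.nroots) {r : ℕ} [hr : Fact r.Prime] [CharP F r] :
    orderOf (xel hD F s 1) = r := by
  refine orderOf_eq_prime ?_ ?_
  · rw [xel_pow, CharP.cast_eq_zero]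
    exact Subtype.ext (xG_zero hD s)
  · intro h
    exact one_ne_zero ((xG_eq_one_iff hD hs (1 : F)).1 (congrArg Subtype.val h))

/-- **The general row.** -/
theorem general (hD : InList D) [Finite F] {r : ℕ} [Fact r.Prime] [CharP F r] [Finite ↥(D.group F)]
    (R : Row (D.group F)) (h2 : 2 ∣ Nat.card ↥(D.group F)) {i s : ℕ} (hi : i < D.rank) (hsi : D.simple i < D.nroots)
    (hs : s < D.nroots) (hc : D.cartan i s = 0) : TRow r ↥(D.group F) := by
  refine H164.TRow.of_field (fieldAut R.stab) (FieldConj.of_row R) ((sl hD hsi F).comp (diagSL F)) ?_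
    (c := 2) two_pos ?_ ?_ (v := xel hD F s 1) (orderOf_xel hD hs) ?_
  · intro τ u
    show fieldAut R.stab τ (sl hD hsi F (diagSL F u)) = sl hD hsi F (diagSL F (Units.map (τ : F →* F) u))
    rw [equivariant (sl hD hsi F) (fieldAut R.stab τ) τ ?_ ?_, map_diagSL]
    · intro t
      apply Subtype.ext
      refine Units.ext ?_
      rw [mat_up]
      show ((sl hD hsi F (up t) : GL D.Idx F) : Matrix D.Idx D.Idx F).map (τ : F →+* F) = _
      rw [mat_up]
      exact x_map D (τ : F →+* F) _ t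
    · intro t
      apply Subtype.ext
      refine Units.ext ?_
      rw [mat_lo]
      show ((sl hD hsi F (lo t) : GL D.Idx F) : Matrix D.Idx D.Idx F).map (τ : F →+* F) = _
      rw [mat_lo]
      exact x_map D (τ : F →+* F) _ t
  · intro u hu
    refine sq_of_ker (sl hD hsi F) ?_ u hu
    intro t ht
    have h1 := congrArg (fun g : ↥(D.group F) => ((g : GL D.Idx F) : Matrix D.Idx D.Idx F)) ht
    simp only [mat_up] at h1
    exact (x_eq_one_iff hD hsi t).1 h1
  · intro p hp hp2
    rwa [le_antisymm hp2 hp.two_le]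
  · intro u
    apply Subtype.ext
    refine Units.ext ?_
    show ((sl hD hsi F (diagSL F u) : GL D.Idx F) : Matrix D.Idx D.Idx F) * D.x F s 1 =
      D.x F s 1 * ((sl hD hsi F (diagSL F u) : GL D.Idx F) : Matrix D.Idx D.Idx F)
    rw [mat_diag, Cfsg.Agent.S1032.result D hD i s hi hs (u : F) u.ne_zero 1, hc, zpow_zero, one_mul]

/-- The group is not commutative. -/
theorem not_comm (hD : InList D) (F : Type*) [Field F] : ¬ IsMulCommutative ↥(D.group F) := by
  intro h
  have G := RootComb.good_of_mem hD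
  have h0 : 0 < D.rank := G.rank_pos
  have ha : D.simple 0 < D.nroots := G.simple_lt h0
  -- `w (up 1) w⁻¹ = lo (-1)`
  have h3 : weylSL F * up 1 * (weylSL F)⁻¹ = lo (-1) := by
    rw [mul_inv_eq_iff_eq_mul]
    apply Subtype.ext
    show !![(0 : F), 1; -1, 0] * !![1, 1; 0, 1] = !![1, 0; -1, 1] * !![(0 : F), 1; -1, 0]
    rw [Matrix.mul_fin_two, Matrix.mul_fin_two]
    simp
  have h4 : sl hD ha F (lo (-1)) = sl hD ha F (up 1) := by
    rw [← h3, map_mul, map_mul, map_inv, h.is_comm.comm (sl hD ha F (weylSL F)), mul_inv_cancel_right]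
  have h5 := congrArg (fun g : ↥(D.group F) => ((g : GL D.Idx F) : Matrix D.Idx D.Idx F)) h4
  simp only [mat_up, mat_lo] at h5
  have h6 : xG hD (D.neg (D.simple 0)) (-1 : F) = xG hD (D.simple 0) (1 : F) := Units.ext h5
  have h7 : xG hD (D.simple 0) (1 : F) ∈ D.borelSubgroup F :=
    (le_sup_left : D.posUnipotent F ≤ D.borelSubgroup F) (xG_mem_posUnipotent hD (G.simple_pos h0) 1)
  have h8 : xG hD (D.simple 0) (1 : F) ∈ D.negUnipotent F := by
    rw [← h6]
    refine xG_mem_negUnipotent hD ?_ (-1)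
    rw [G.isNegRoot_iff, G.neg_eq ha]
    have := (G.isPosRoot_iff.1 (G.simple_pos h0)).1
    have := G.nroots_eq
    omega
  have h9 : xG hD (D.simple 0) (1 : F) ∈ D.borelSubgroup F ⊓ D.negUnipotent F := ⟨h7, h8⟩
  rw [(Cfsg.Agent.S1037.result (F := F) D hD).1, Subgroup.mem_bot] at h9
  exact one_ne_zero ((xG_eq_one_iff hD ha _).1 h9)

theorem row {K : Type*} [Group K] [Finite K] [IsSimpleGroup K] (hD : InList D) [Fintype F] {r : ℕ} [CharP F r]
    (e : K ≃* ↥(D.group F)) (R : IsSimpleGroup ↥(D.group F) → Row (D.group F)) {i s : ℕ} (hi : i < D.rank)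
    (hs : s < D.nroots) (hc : D.cartan i s = 0) : TRow r K := by
  have hr : Fact r.Prime := ⟨CharP.char_is_prime F r⟩
  have hn : Nontrivial ↥(D.group F) := e.toEquiv.symm.nontrivial
  have hsi : IsSimpleGroup ↥(D.group F) := IsSimpleGroup.isSimpleGroup_of_surjective e.toMonoidHom e.surjective
  refine TRow.congr e.symm ?_
  exact general hD (R hsi) (H254.CopMain.two_dvd _ (not_comm hD F)) hi ((RootComb.good_of_mem hD).simple_lt hi) hs hc

/-- **The exceptional Chevalley groups.** -/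
theorem tRow_exc {r : ℕ} {K : Type*} [Group K] [Finite K] [IsSimpleGroup K] (h : Cfsg.IsExceptionalChevChar r K) :
    Cfsg.Agent.H716.CopRow.TRow r K := by
  obtain ⟨F, _, _, _, h⟩ := h
  rcases h with ⟨h3, ⟨e⟩⟩ | ⟨⟨e⟩⟩ | ⟨⟨e⟩⟩ | ⟨⟨e⟩⟩ | ⟨⟨e⟩⟩
  · exact row (by simp) e (fun _ => row_g2 h3) (i := 0) (s := 0) (by decide) (by decide) (by decide +kernel)
  · exact row (by simp) e (fun _ => row_f4) (i := 0) (s := 0) (by decide) (by decide) (by decide +kernel)
  · exact row (by simp) e (fun _ => row_e6) (i := 0) (s := 0) (by decide) (by decide) (by decide +kernel)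
  · exact row (by simp) e (fun _ => row_e7) (i := 0) (s := 2) (by decide) (by decide) (by decide +kernel)
  · exact row (by simp) e (fun _ => row_e8) (i := 0) (s := 0) (by decide) (by decide) (by decide +kernel)

end Cfsg.Agent.H164.TRowExc
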