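import Mathlib
import Cfsg.Agent.H164.TRow
import Cfsg.Agent.H254.CopLin
import Cfsg.Agent.H254.CopMain

/-!
# `TRow` for the linear groups
-/

set_option autoImplicit false

namespace Cfsg.Agent.H164.TRowPSL

open Cfsg Cfsg.Agent.H531 Cfsg.Agent.H716.CopRow Matrix
  Cfsg.Agent.ClassicalGeometry.AutPSL.Auto Cfsg.Agent.ClassicalGeometry.AutPSL.Main
  Cfsg.Agent.ClassicalGeometry.AutPSL.Root

variable {F : Type*} [Field F] {n : ℕ}

/-- The exponents `1, 1, -2, 0, …`. -/
def ex (i : ℕ) : ℤ := if i = 0 then 1 else if i = 1 then 1 else if i = 2 then -2 else 0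

theorem sum_ex (hn : 3 ≤ n) : ∑ i : Fin n, ex i = 0 := by
  obtain ⟨m, rfl⟩ : ∃ m, n = m + 3 := ⟨n - 3, by omega⟩
  rw [Fin.sum_univ_succ, Fin.sum_univ_succ, Fin.sum_univ_succ]
  have h : ∀ i : Fin m, ex ((i.succ.succ.succ : Fin (m + 3)) : ℕ) = 0 := by
    intro i
    simp only [Fin.val_succ, ex]
    rw [if_neg (by omega), if_neg (by omega), if_neg (by omega)]
  rw [Finset.sum_congr rfl fun i _ => h i, Finset.sum_const_zero]
  have h1 : ((0 : Fin (m + 3)) : ℕ) = 0 := rfl
  have h2 : (((0 : Fin (m + 2)).succ : Fin (m + 3)) : ℕ) = 1 := rfl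
  have h3 : (((0 : Fin (m + 1)).succ.succ : Fin (m + 3)) : ℕ) = 2 := rfl
  rw [h1, h2, h3]
  rfl

theorem prod_zpow_ex (hn : 3 ≤ n) {G : Type*} [CommGroup G] (u : G) : ∏ i : Fin n, u ^ ex i = 1 := by
  have h : ∀ s : Finset (Fin n), ∏ i ∈ s, u ^ ex i = u ^ (∑ i ∈ s, ex i) := by
    intro s
    induction s using Finset.induction_on with
    | empty => simp
    | insert a s ha ih => rw [Finset.prod_insert ha, Finset.sum_insert ha, _root_.zpow_add, ih]
  rw [h, sum_ex hn, zpow_zero]

/-- The torus `diag(u, u, u⁻², 1, …)`. -/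
def tor (hn : 3 ≤ n) (F : Type*) [Field F] : Fˣ →* Matrix.SpecialLinearGroup (Fin n) F where
  toFun u := ⟨Matrix.diagonal fun i : Fin n => ((u ^ ex i : Fˣ) : F), by
    rw [Matrix.det_diagonal, ← Units.coe_prod, prod_zpow_ex hn, Units.val_one]⟩
  map_one' := by
    apply Subtype.ext
    simp
  map_mul' u v := by
    apply Subtype.ext
    show (Matrix.diagonal fun i : Fin n => (((u * v) ^ ex i : Fˣ) : F)) = Matrix.diagonal _ * Matrix.diagonal _
    rw [Matrix.diagonal_mul_diagonal]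
    congr 1
    funext i
    rw [mul_zpow, Units.val_mul]

theorem tor_coe (hn : 3 ≤ n) (u : Fˣ) :
    (tor hn F u : Matrix (Fin n) (Fin n) F) = Matrix.diagonal fun i : Fin n => ((u ^ ex i : Fˣ) : F) := rfl

theorem orderOf_pr_transvection {r : ℕ} [hr : Fact r.Prime] [CharP F r] {i j : Fin n} (hij : i ≠ j) :
    orderOf (pr (Matrix.SpecialLinearGroup.transvection hij (1 : F))) = r := by
  have hp : ∀ k : ℕ, Matrix.SpecialLinearGroup.transvection hij (1 : F) ^ k =
      Matrix.SpecialLinearGroup.transvection hij (k : F) := by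
    intro k
    induction k with
    | zero => rw [pow_zero, Nat.cast_zero, Matrix.SpecialLinearGroup.transvection_coeff_zero]
    | succ k ih => rw [pow_succ, ih, Nat.cast_succ, Matrix.SpecialLinearGroup.transvection_add]
  refine orderOf_eq_prime ?_ ?_
  · rw [← map_pow, hp, CharP.cast_eq_zero, Matrix.SpecialLinearGroup.transvection_coeff_zero, map_one]
  · intro h
    rw [pr_eq_one_iff, Matrix.SpecialLinearGroup.transvection_mem_center_iff] at h
    exact one_ne_zero h

theorem not_comm (hn : 3 ≤ n) (F : Type*) [Field F] :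
    ¬ IsMulCommutative (Matrix.ProjectiveSpecialLinearGroup (Fin n) F) := by
  intro h
  have h01 : (⟨0, by omega⟩ : Fin n) ≠ ⟨1, by omega⟩ := by simp
  have h12 : (⟨1, by omega⟩ : Fin n) ≠ ⟨2, by omega⟩ := by simp
  have h1 : pr (Matrix.SpecialLinearGroup.transvection h12 (1 : F) * Matrix.SpecialLinearGroup.transvection h01 (1 : F)) =
      pr (Matrix.SpecialLinearGroup.transvection h01 (1 : F) * Matrix.SpecialLinearGroup.transvection h12 (1 : F)) := by
    rw [map_mul, map_mul]
    exact h.is_comm.comm _ _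
  obtain ⟨c, hc⟩ := exists_smul_of_pr_eq h1
  have h2 := congrFun (congrFun hc ⟨0, by omega⟩) ⟨2, by omega⟩
  rw [Matrix.SpecialLinearGroup.coe_mul, Matrix.SpecialLinearGroup.coe_mul, Matrix.SpecialLinearGroup.transvection_coe,
    Matrix.SpecialLinearGroup.transvection_coe] at h2
  simp [mul_add, add_mul, Matrix.single_mul_single_same] at h2

theorem three_dvd (hn : 3 ≤ n) [Finite F] : 3 ∣ Nat.card (Matrix.ProjectiveSpecialLinearGroup (Fin n) F) := by
  have h01 : (⟨0, by omega⟩ : Fin n) ≠ ⟨1, by omega⟩ := by simp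
  have h02 : (⟨0, by omega⟩ : Fin n) ≠ ⟨2, by omega⟩ := by simp
  have h12 : (⟨1, by omega⟩ : Fin n) ≠ ⟨2, by omega⟩ := by simp
  have hc : (Equiv.swap (⟨0, by omega⟩ : Fin n) ⟨1, by omega⟩ * Equiv.swap (⟨0, by omega⟩ : Fin n) ⟨2, by omega⟩).IsThreeCycle :=
    Equiv.Perm.isThreeCycle_swap_mul_swap_same h01 h02 h12
  set σ := Equiv.swap (⟨0, by omega⟩ : Fin n) ⟨1, by omega⟩ * Equiv.swap (⟨0, by omega⟩ : Fin n) ⟨2, by omega⟩ with hσ
  let g : Matrix.SpecialLinearGroup (Fin n) F := ⟨σ.permMatrix F, by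
    rw [Matrix.det_permutation, hc.sign, Units.val_one, Int.cast_one]⟩
  have hg3 : g ^ 3 = 1 := by
    apply Subtype.ext
    show σ.permMatrix F ^ 3 = 1
    rw [pow_three, ← Matrix.permMatrix_mul, ← Matrix.permMatrix_mul]
    have h3 : σ * σ * σ = 1 := by
      have := pow_orderOf_eq_one σ
      rw [hc.orderOf] at this
      rw [← this, pow_three, mul_assoc]
    rw [h3, Matrix.permMatrix_one]
  have hg1 : pr g ≠ 1 := by
    intro h
    rw [pr_eq_one_iff, Matrix.SpecialLinearGroup.mem_center_iff] at h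
    obtain ⟨c, -, hc'⟩ := h
    have h1 := congrFun (congrFun hc' ⟨0, by omega⟩) (σ ⟨0, by omega⟩)
    have h2 : σ ⟨0, by omega⟩ = ⟨2, by omega⟩ := by
      rw [hσ, Equiv.Perm.mul_apply, Equiv.swap_apply_left, Equiv.swap_apply_of_ne_of_ne h02.symm h12.symm]
    rw [Matrix.scalar_apply, Matrix.diagonal_apply_ne _ (by rw [h2]; exact h02)] at h1
    have h3 : (g : Matrix (Fin n) (Fin n) F) ⟨0, by omega⟩ (σ ⟨0, by omega⟩) = 1 := by
      show σ.permMatrix F _ _ = 1
      rw [Equiv.Perm.permMatrix, PEquiv.toMatrix_apply, if_pos]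
      simp
    rw [h3] at h1
    exact zero_ne_one h1
  have h3 : orderOf (pr g) = 3 := orderOf_eq_prime (by rw [← map_pow, hg3, map_one]) hg1
  rw [← h3]
  exact orderOf_dvd_natCard _

/-- **The linear groups.** -/
theorem tRow_psl {r : ℕ} [Fact r.Prime] {F : Type*} [Field F] [Fintype F] [CharP F r] {n : ℕ} (hn : 3 ≤ n)
    [IsSimpleGroup (Matrix.ProjectiveSpecialLinearGroup (Fin n) F)] :
    Cfsg.Agent.H716.CopRow.TRow r (Matrix.ProjectiveSpecialLinearGroup (Fin n) F) := by
  have h01 : (⟨0, by omega⟩ : Fin n) ≠ ⟨1, by omega⟩ := by simp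
  have hna := not_comm hn F
  have h2 := H254.CopMain.two_dvd (Matrix.ProjectiveSpecialLinearGroup (Fin n) F) hna
  obtain ⟨ρ, hρ, -⟩ := H254.exists_ringAut F
  have hco : FieldConj ((lift : _ →* MulAut (Matrix.ProjectiveSpecialLinearGroup (Fin n) F)).comp (fld : (F ≃+* F) →* _)) :=
    FieldConj.of_copIn _ (H254.PSL.copIn (by omega) (fun h => by omega) hna h2 ρ hρ)
  refine H164.TRow.of_field _ hco (pr.comp (tor hn F)) ?_ (c := 3) (by norm_num) ?_ ?_
    (v := pr (Matrix.SpecialLinearGroup.transvection h01 (1 : F))) (orderOf_pr_transvection h01) ?_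
  · intro τ u
    show lift (fld τ) (pr (tor hn F u)) = pr (tor hn F (Units.map (τ : F →* F) u))
    rw [lift_pr]
    congr 1
    apply Subtype.ext
    show (Matrix.diagonal fun i : Fin n => ((u ^ ex i : Fˣ) : F)).map (τ : F →+* F) = _
    rw [tor_coe, Matrix.diagonal_map (map_zero _)]
    congr 1
    funext i
    rw [← map_zpow]
    rfl
  · intro u hu
    have h3 : pr (1 : Matrix.SpecialLinearGroup (Fin n) F) = pr (tor hn F u) := by
      rw [map_one]
      exact hu.symm
    obtain ⟨c, hc⟩ := exists_smul_of_pr_eq h3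
    rw [tor_coe, Matrix.SpecialLinearGroup.coe_one] at hc
    have h4 := congrFun (congrFun hc ⟨0, by omega⟩) ⟨0, by omega⟩
    have h5 := congrFun (congrFun hc ⟨2, by omega⟩) ⟨2, by omega⟩
    rw [Matrix.diagonal_apply_eq, Matrix.smul_apply, Matrix.one_apply_eq, smul_eq_mul, mul_one] at h4 h5
    have h6 : (u ^ ex 0 : Fˣ) = u ^ ex 2 := Units.ext (h4.trans h5.symm)
    have h7 : ex 0 = 1 := rfl
    have h8 : ex 2 = -2 := rfl
    rw [h7, h8] at h6
    have h9 : u ^ (3 : ℤ) = 1 := by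
      have : u ^ (3 : ℤ) = u ^ (1 : ℤ) * (u ^ (-2 : ℤ))⁻¹ := by
        rw [← _root_.zpow_neg, ← _root_.zpow_add]; norm_num
      rw [this, h6, mul_inv_cancel]
    exact_mod_cast h9
  · intro p hp hp3
    interval_cases p
    · exact absurd hp (by norm_num)
    · exact absurd hp (by norm_num)
    · exact h2
    · exact three_dvd hn
  · intro u
    show Commute (pr (tor hn F u)) (pr _)
    refine Commute.map ?_ pr
    apply Subtype.ext
    show Matrix.diagonal _ * Matrix.transvection _ _ _ = Matrix.transvection _ _ _ * Matrix.diagonal _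
    rw [Matrix.transvection, mul_add, add_mul, mul_one, one_mul]
    congr 1
    ext i j
    rw [Matrix.diagonal_mul, Matrix.mul_diagonal, Matrix.single_apply]
    split_ifs with h
    · obtain ⟨rfl, rfl⟩ := h
      rw [mul_one, one_mul]
      rfl
    · rw [mul_zero, zero_mul]

end Cfsg.Agent.H164.TRowPSL
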