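import Mathlib
import Cfsg.Agent.H164.TRow
import Cfsg.Agent.H254.CopLin
import Cfsg.Agent.H254.CopMain
import Cfsg.Agent.S0247
import Cfsg.Agent.LieClassical.SympCenter

/-!
# `TRow` for the symplectic groups
-/

set_option autoImplicit false

namespace Cfsg.Agent.H164.TRowPSp

open Cfsg Cfsg.Agent.H531 Cfsg.Agent.H716.CopRow
  Cfsg.Agent.ClassicalGeometry.SympAutSemi Cfsg.Agent.ClassicalGeometry.SympGamma
  Cfsg.Agent.ClassicalGeometry.SympBasic
open scoped Matrix

variable {F : Type*} [Field F] {m : ℕ}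

/-- The diagonal entries of the torus. -/
def wt (i₀ : Fin m) (u : Fˣ) : Fin m ⊕ Fin m → Fˣ :=
  Sum.elim (fun i => if i = i₀ then u else 1) (fun i => if i = i₀ then u⁻¹ else 1)

theorem wt_mul (i₀ : Fin m) (u v : Fˣ) (j : Fin m ⊕ Fin m) : wt i₀ (u * v) j = wt i₀ u j * wt i₀ v j := by
  rcases j with j | j <;> simp only [wt, Sum.elim_inl, Sum.elim_inr] <;> split_ifs <;> simp [mul_comm]

theorem wt_map (i₀ : Fin m) (τ : F ≃+* F) (u : Fˣ) (j : Fin m ⊕ Fin m) :
    τ ((wt i₀ u j : Fˣ) : F) = ((wt i₀ (Units.map (τ : F →* F) u) j : Fˣ) : F) := by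
  rcases j with j | j <;> simp only [wt, Sum.elim_inl, Sum.elim_inr] <;> split_ifs <;> simp

/-- The torus `diag(u, 1, …, 1; u⁻¹, 1, …, 1)`. -/
def tor (i₀ : Fin m) (F : Type*) [Field F] : Fˣ →* Matrix.symplecticGroup (Fin m) F where
  toFun u := ⟨Matrix.diagonal fun j => ((wt i₀ u j : Fˣ) : F), by
    rw [mem_symplecticGroup_iff]
    intro x y
    rw [sympForm_eq_sum, sympForm_eq_sum]
    refine Finset.sum_congr rfl fun i _ => ?_
    rw [Matrix.mulVec_diagonal, Matrix.mulVec_diagonal, Matrix.mulVec_diagonal, Matrix.mulVec_diagonal]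
    have h : ((wt i₀ u (Sum.inl i) : Fˣ) : F) * ((wt i₀ u (Sum.inr i) : Fˣ) : F) = 1 := by
      rw [← Units.val_mul]
      simp only [wt, Sum.elim_inl, Sum.elim_inr]
      split_ifs <;> simp
    linear_combination (x (Sum.inr i) * y (Sum.inl i) - x (Sum.inl i) * y (Sum.inr i)) * h⟩
  map_one' := by
    apply Subtype.ext
    show (Matrix.diagonal fun j => ((wt i₀ (1 : Fˣ) j : Fˣ) : F)) = 1
    rw [← Matrix.diagonal_one]
    congr 1
    funext j
    rcases j with j | j <;> simp [wt]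
  map_mul' u v := by
    apply Subtype.ext
    show (Matrix.diagonal fun j => ((wt i₀ (u * v) j : Fˣ) : F)) = Matrix.diagonal _ * Matrix.diagonal _
    rw [Matrix.diagonal_mul_diagonal]
    congr 1
    funext j
    rw [wt_mul, Units.val_mul]

theorem rho_tor (i₀ : Fin m) (u : Fˣ) (x : Fin m ⊕ Fin m → F) (j : Fin m ⊕ Fin m) :
    rho m F (tor i₀ F u) x j = ((wt i₀ u j : Fˣ) : F) * x j := by
  rw [rho_apply]
  exact Matrix.mulVec_diagonal _ _ _

theorem conj_tor (i₀ : Fin m) (τ : F ≃+* F) (u : Fˣ) :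
    conjHom m F (H254.PSP.frobSS m τ) (tor i₀ F u) = tor i₀ F (Units.map (τ : F →* F) u) := by
  apply rho_injective
  rw [rho_conjHom]
  ext x j
  rw [Equiv.Perm.mul_apply, Equiv.Perm.mul_apply, rho_tor]
  show τ (rho m F (tor i₀ F u) ((frobPerm m τ)⁻¹ x) j) = _
  rw [rho_tor, map_mul, wt_map]
  congr 1
  exact congrFun (perm_apply_inv_self (frobPerm m τ) x) j

theorem transv_pow (e : Fin m ⊕ Fin m → F) (k : ℕ) : transv e (1 : F) ^ k = transv e (k : F) := by
  induction k with
  | zero =>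
    rw [pow_zero, Nat.cast_zero]
    exact Subtype.ext (sympTransvection_zero e).symm
  | succ k ih =>
    rw [pow_succ, ih, Nat.cast_succ]
    exact Subtype.ext (sympTransvection_mul e _ _)

/-- Equality in `PSp` of two elements means equality up to a scalar. -/
theorem exists_smul {A B : Matrix.symplecticGroup (Fin m) F}
    (h : (QuotientGroup.mk A : PSp m F) = QuotientGroup.mk B) :
    ∃ a : F, ∀ x, rho m F B x = a • rho m F A x := by
  obtain ⟨a, ha⟩ := (LieClassical.SympCenter.mem_center_iff m _).1 (QuotientGroup.eq.1 h)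
  refine ⟨a, fun x => ?_⟩
  have h1 : B = A * (A⁻¹ * B) := by group
  rw [h1, map_mul, Equiv.Perm.mul_apply]
  have h2 : rho m F (A⁻¹ * B) x = a • x := by
    rw [rho_apply]
    show (A⁻¹ * B).1 *ᵥ x = _
    rw [ha, Matrix.smul_mulVec, Matrix.one_mulVec]
  rw [h2]
  exact (isSemi_rho A).2.1 a x

theorem orderOf_transv {r : ℕ} [hr : Fact r.Prime] [CharP F r] (i : Fin m) :
    orderOf (QuotientGroup.mk (transv (Pi.single (Sum.inl i) 1) (1 : F)) : PSp m F) = r := by
  refine orderOf_eq_prime ?_ ?_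
  · rw [← QuotientGroup.mk_pow, transv_pow, CharP.cast_eq_zero]
    have : transv (Pi.single (Sum.inl i) 1) (0 : F) = 1 := Subtype.ext (sympTransvection_zero _)
    rw [this]
    rfl
  · intro h
    obtain ⟨a, ha⟩ := exists_smul (A := 1) (B := transv (Pi.single (Sum.inl i) 1) (1 : F)) h.symm
    have h1 := congrFun (ha (Pi.single (Sum.inr i) 1)) (Sum.inl i)
    rw [map_one, Equiv.Perm.one_apply, rho_transv, sympForm_single_inl_right] at h1
    simp at h1

theorem not_comm (hm : 1 ≤ m) (F : Type*) [Field F] : ¬ IsMulCommutative (PSp m F) := by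
  intro h
  let i : Fin m := ⟨0, hm⟩
  have h1 : (QuotientGroup.mk (transv (Pi.single (Sum.inr i) 1) (1 : F) * transv (Pi.single (Sum.inl i) 1) (1 : F)) : PSp m F)
      = QuotientGroup.mk (transv (Pi.single (Sum.inl i) 1) (1 : F) * transv (Pi.single (Sum.inr i) 1) (1 : F)) :=
    h.is_comm.comm (QuotientGroup.mk (transv (Pi.single (Sum.inr i) 1) (1 : F)) : PSp m F)
      (QuotientGroup.mk (transv (Pi.single (Sum.inl i) 1) (1 : F)))
  obtain ⟨a, ha⟩ := exists_smul h1
  have h2 := congrFun (ha (Pi.single (Sum.inl i) 1)) (Sum.inl i)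
  have h3 := congrFun (ha (Pi.single (Sum.inl i) 1)) (Sum.inr i)
  rw [map_mul, map_mul, Equiv.Perm.mul_apply, Equiv.Perm.mul_apply, rho_transv, rho_transv, rho_transv, rho_transv] at h2 h3
  simp [sympForm_single_inl_right, sympForm_single_inr_right] at h2 h3
  exact zero_ne_one (h2.trans h3.symm)

/-- `PSp₄(2)` is not simple. -/
theorem three_le_card [Fintype F] [IsSimpleGroup (PSp m F)] : m = 2 → 3 ≤ Fintype.card F := by
  rintro rfl
  by_contra h
  have h2 : Fintype.card F = 2 := by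
    have : 1 < Fintype.card F := Fintype.one_lt_card
    omega
  obtain ⟨e⟩ := Cfsg.Agent.S0247.result (F := F) h2
  have hone : ∀ a : F, a ≠ 0 → a = 1 := by
    intro a ha
    have h3 := FiniteField.pow_card_sub_one_eq_one a ha
    rw [h2] at h3
    simpa using h3
  have hinj : Function.Injective (QuotientGroup.mk' (Subgroup.center (Matrix.symplecticGroup (Fin 2) F))) := by
    rw [injective_iff_map_eq_one]
    intro A hA
    obtain ⟨a, ha⟩ := (LieClassical.SympCenter.mem_center_iff 2 A).1 ((QuotientGroup.eq_one_iff A).1 hA)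
    have ha0 : a ≠ 0 := by
      intro h0
      have h4 := sympForm_mulVec A.2 (Pi.single (Sum.inr 0) 1) (Pi.single (Sum.inl 0) (1 : F))
      rw [ha, h0, zero_smul, Matrix.zero_mulVec, Matrix.zero_mulVec, sympForm_single_inr_left] at h4
      simp at h4
    apply Subtype.ext
    rw [ha, hone a ha0, one_smul]
    rfl
  let f := MulEquiv.ofBijective _ ⟨hinj, QuotientGroup.mk'_surjective _⟩
  let e' : PSp 2 F ≃* Equiv.Perm (Fin 6) := f.symm.trans e
  have hs : IsSimpleGroup (Equiv.Perm (Fin 6)) :=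
    IsSimpleGroup.isSimpleGroup_of_surjective e'.toMonoidHom e'.surjective
  rcases hs.eq_bot_or_eq_top_of_normal (alternatingGroup (Fin 6)) inferInstance with h5 | h5
  · have h6 : Equiv.swap (0 : Fin 6) 1 * Equiv.swap 1 2 ∈ alternatingGroup (Fin 6) := by
      rw [Equiv.Perm.mem_alternatingGroup, Equiv.Perm.sign_mul, Equiv.Perm.sign_swap (by decide),
        Equiv.Perm.sign_swap (by decide)]
      rfl
    rw [h5, Subgroup.mem_bot] at h6
    exact absurd h6 (by decide)
  · have h6 : Equiv.swap (0 : Fin 6) 1 ∈ alternatingGroup (Fin 6) := by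
      rw [h5]
      exact Subgroup.mem_top _
    rw [Equiv.Perm.mem_alternatingGroup, Equiv.Perm.sign_swap (by decide)] at h6
    exact absurd h6 (by decide)

/-- **The symplectic groups.** -/
theorem tRow_psp {r : ℕ} [Fact r.Prime] {F : Type*} [Field F] [Fintype F] [CharP F r] {m : ℕ} (hm : 2 ≤ m)
    [IsSimpleGroup (Cfsg.PSp m F)] : Cfsg.Agent.H716.CopRow.TRow r (Cfsg.PSp m F) := by
  have hna := not_comm (by omega : 1 ≤ m) F
  have h2 := H254.CopMain.two_dvd (PSp m F) hna
  obtain ⟨ρ, hρ, -⟩ := H254.exists_ringAut F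
  have hco : FieldConj (H254.PSP.fld (F := F) m) :=
    FieldConj.of_copIn _ (H254.PSP.copIn hm three_le_card hna h2 ρ hρ)
  have h10 : (⟨1, by omega⟩ : Fin m) ≠ ⟨0, by omega⟩ := by simp
  refine H164.TRow.of_field _ hco ((QuotientGroup.mk' _).comp (tor ⟨0, by omega⟩ F)) ?_ (c := 1) one_pos ?_ ?_
    (v := QuotientGroup.mk (transv (Pi.single (Sum.inl ⟨1, by omega⟩) 1) (1 : F))) (orderOf_transv _) ?_
  · intro τ u
    show Psi m F (H254.PSP.frobSS m τ) (QuotientGroup.mk (tor ⟨0, by omega⟩ F u)) = QuotientGroup.mk (tor ⟨0, by omega⟩ F _)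
    rw [Psi_mk, conj_tor]
  · intro u hu
    obtain ⟨a, ha⟩ := exists_smul (A := 1) (B := tor ⟨0, by omega⟩ F u) hu.symm
    have h3 := congrFun (ha (fun _ => 1)) (Sum.inl ⟨0, by omega⟩)
    have h4 := congrFun (ha (fun _ => 1)) (Sum.inl ⟨1, by omega⟩)
    rw [map_one, Equiv.Perm.one_apply, rho_tor] at h3 h4
    simp [wt] at h3 h4
    rw [pow_one]
    apply Units.ext
    rw [h3, ← h4, Units.val_one]
  · intro p hp hp1
    exact absurd hp1 (not_le.2 hp.one_lt)
  · intro u
    show Commute (QuotientGroup.mk' _ (tor ⟨0, by omega⟩ F u)) (QuotientGroup.mk' _ _)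
    refine Commute.map ?_ (QuotientGroup.mk' _)
    apply Subtype.ext
    show (tor ⟨0, by omega⟩ F u).1 * sympTransvection m _ _ = sympTransvection m _ _ * (tor ⟨0, by omega⟩ F u).1
    rw [mul_sympTransvection (tor ⟨0, by omega⟩ F u).2]
    congr 2
    ext j
    show ((Matrix.diagonal fun j => ((wt ⟨0, by omega⟩ u j : Fˣ) : F)) *ᵥ _) j = _
    rw [Matrix.mulVec_diagonal]
    by_cases hj : j = Sum.inl ⟨1, by omega⟩
    · rw [hj]
      simp [wt]
    · rw [Pi.single_eq_of_ne hj, mul_zero]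

end Cfsg.Agent.H164.TRowPSp
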