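import Cfsg.Agent.H502.ThFiveP
import Cfsg.Agent.H164.ThFiveNData

/-!
# An element of order 3 normalising a Sylow 5-subgroup of the Thompson group
-/

set_option autoImplicit false
set_option Elab.async false
set_option maxRecDepth 100000
set_option maxHeartbeats 400000

namespace Cfsg.Agent.H164.ThFiveN

open Cfsg.Agent.Th Cfsg.Agent.Th.MatEngine Cfsg.Agent.Th.Words248 Cfsg.Agent.Th.Gen248 Cfsg.Agent.Th.Hom248
  Cfsg.Agent.H502.ThKlein Cfsg.Agent.H502.ThFivePData Cfsg.Agent.H502.ThFivePCheck Cfsg.Agent.H502.ThFiveP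
  Cfsg.Agent.H164.ThFiveNData

/-- a word -/
noncomputable def g : Cfsg.Spor.Th := el [.d, .T, .u, .d, .u]

/-- its inverse -/
noncomputable def gi : Cfsg.Spor.Th := el [.U, .d, .U, .t, .d]

/-- an element of order 3 -/
noncomputable def n : Cfsg.Spor.Th := (z * g * z * gi) * (z * g * z * gi) * z * g

theorem c_mg : Nat.beq (actRW 248 [.d, .T, .u, .d, .u] (idm)) (expd mg) = true := by decide +kernel

theorem rg : Rep g (expd mg) := (Rep.app [.d, .T, .u, .d, .u] Rep.nil).of_beq c_mg

theorem c_mgi : Nat.beq (actRW 248 [.U, .d, .U, .t, .d] (idm)) (expd mgi) = true := by decide +kernel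

theorem rgi : Rep gi (expd mgi) := (Rep.app [.U, .d, .U, .t, .d] Rep.nil).of_beq c_mgi

theorem c_mn : Nat.beq (mul (mul (mul (mul (mul (mul (expd mz) (expd mg)) (expd mz)) (expd mgi))
    (mul (mul (mul (expd mz) (expd mg)) (expd mz)) (expd mgi))) (expd mz)) (expd mg)) (expd mn) = true := by
  decide +kernel

theorem rn : Rep n (expd mn) :=
  (((((((rz.mul rg).mul rz).mul rgi).mul (((rz.mul rg).mul rz).mul rgi)).mul rz).mul rg)).of_beq c_mn

theorem k_nz : Nat.beq (mul (expd mn) (expd mz)) (mul (expd mz) (expd mn)) = true := by decide +kernel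

theorem nz : n * z = z * n := (rn.mul rz).eq_of (rz.mul rn) k_nz

theorem k_ny : Nat.beq (mul (expd mn) (expd my))
    (mul (mul (mul (mul (expd mx) (mul (expd mx) (expd mx))) (expd my)) (expd mz)) (expd mn)) = true := by
  decide +kernel

theorem ny : n * y = x * (x * x) * y * z * n :=
  (rn.mul ry).eq_of (((((rx.mul (rx.mul rx)).mul ry).mul rz)).mul rn) k_ny

theorem k_nx : Nat.beq (mul (expd mn) (expd mx))
    (mul (mul (mul (mul (expd mx) (mul (expd mx) (expd mx))) (mul (mul (expd my) (expd my)) (mul (expd my) (expd my))))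
      (mul (mul (expd mz) (expd mz)) (mul (expd mz) (expd mz)))) (expd mn)) = true := by
  decide +kernel

theorem nx : n * x = x * (x * x) * (y * y * (y * y)) * (z * z * (z * z)) * n :=
  (rn.mul rx).eq_of (((((rx.mul (rx.mul rx)).mul ((ry.mul ry).mul (ry.mul ry))).mul
    ((rz.mul rz).mul (rz.mul rz)))).mul rn) k_nx

theorem k_x0 : Nat.beq (mul (mul (mul (expd mx) (expd my)) (mul (expd mz) (expd mz))) (mul (pm .a) (expd mw)))
    (mul (mul (pm .a) (expd mw)) (mul (mul (expd mx) (expd my)) (mul (expd mz) (expd mz)))) = true := by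
  decide +kernel

theorem x0aw : x * y * (z * z) * (a * w) = a * w * (x * y * (z * z)) :=
  (((rx.mul ry).mul (rz.mul rz)).mul (ra.mul rw')).eq_of ((ra.mul rw').mul ((rx.mul ry).mul (rz.mul rz))) k_x0

end Cfsg.Agent.H164.ThFiveN
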